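import Cfsg.Agent.H83.Shult.CentreSteps

/-!
Closure of `Z` when it may meet the centre: every element moving a noncentral element of `Z` into
`M` lies in `M`.  Two good elements on both sides give singular orbits commuting modulo the centre;
together they generate a 2-group normalised by `σ` and by its conjugate under `g`.
-/

set_option autoImplicit false

open Subgroup
open scoped commutatorElement

namespace H83.Shult

variable {G : Type*} [Group G]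

/-- The elements commuting with `b` modulo the centre. -/
def modCentralizer (b : G) : Subgroup G where
  carrier := {a | ⁅a, b⁆ ∈ center G}
  one_mem' := by simp
  mul_mem' {a a'} ha ha' := by
    show ⁅a * a', b⁆ ∈ center G
    rw [comm_mul_left]
    exact mul_mem (conj_mem_center ha' a) ha
  inv_mem' {a} ha := by
    show ⁅a⁻¹, b⁆ ∈ center G
    rw [commutatorElement_inv_left, ← commutatorElement_inv]
    have h := conj_mem_center (Subgroup.inv_mem _ ha) a⁻¹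
    rwa [inv_inv] at h

theorem modComm_symm {a b : G} (h : ⁅a, b⁆ ∈ center G) : ⁅b, a⁆ ∈ center G := by
  rw [← commutatorElement_inv]; exact inv_mem h

namespace CC

variable {σ : MulAut G} {r : ℕ} {M U Z : Subgroup G}

theorem q0_props (C : CC σ r M U Z) {u : G} (hu : u ∈ U) :
    u⁻¹ * σ u ∈ orb σ u ∧ u⁻¹ * σ u ∈ U := by
  have h := mul_mem (inv_mem (self_mem_orb σ u)) (apply_mem_orb (self_mem_orb σ u))
  exact ⟨h, C.orb_leU hu h⟩

theorem orb_q0_le (C : CC σ r M U Z) {u : G} (hu : u ∈ U) :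
    orb σ (u⁻¹ * σ u) ≤ orb σ u :=
  orb_le fun k => pow_apply_mem_orb (C.q0_props hu).1 k

theorem q0_sq (C : CC σ r M U Z) {u : G} (hu : u ∈ U) (hs : Singular σ u) :
    u⁻¹ * σ u * (u⁻¹ * σ u) ∈ center G := by
  have hui := inv_mem hu
  have hσu := C.sigU u hu
  have h1 : u⁻¹ * u⁻¹ = u * u := by
    rw [← mul_inv_rev, C.inv_eq (C.sqU u hu)]
  have h2 : σ u * σ u = u * u := by rw [← map_mul, C.fixZ _ (C.sqU u hu)]
  rw [mul_self_mul, C.cenU _ hui _ (C.comU _ hσu _ hui)]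
  rw [show ⁅σ u, u⁻¹⁆ * u⁻¹ * u⁻¹ * σ u * σ u = ⁅σ u, u⁻¹⁆ * ((u⁻¹ * u⁻¹) * (σ u * σ u)) by group,
    h1, h2, C.sqZ _ (C.sqU u hu), mul_one, C.invR hσu hu]
  simpa using hs 1

variable [Finite G]

/-- The orbit of the moved part of a good element lies in `gMg⁻¹`. -/
theorem in_B (C : CC σ r M U Z) {g e c u : G} (hg : g ∉ M) (he : e ∈ Z) (hec : e ∉ center G)
    (hc : c ∈ M) (hσc : σ c = c) (hu : u ∈ U) (hx : g * e * g⁻¹ = c * u) (hs : Singular σ u)
    {q : G} (hq : q ∈ orb σ (u⁻¹ * σ u)) : g⁻¹ * q * g ∈ M := by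
  obtain ⟨-, hcu, -⟩ := C.inv_data hg he hec hc hσc hu hx
  have hk : c * u * c⁻¹ = ⁅c, u⁆ * u := by simp only [commutatorElement_def]; group
  have hk' : c * σ u * c⁻¹ = ⁅c, u⁆ * σ u := by
    have h' := congrArg σ hk
    rwa [map_mul, map_mul, map_inv, hσc, map_mul, C.fixZ _ hcu] at h'
  have h0 : c * (u⁻¹ * σ u) = u⁻¹ * σ u * c := by
    calc c * (u⁻¹ * σ u) = (c * u * c⁻¹)⁻¹ * (c * σ u * c⁻¹) * c := by group
      _ = u⁻¹ * σ u * c := by rw [hk, hk']; group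
  have hcq : orb σ (u⁻¹ * σ u) ≤ centralizer ({c} : Set G) := orb_le fun k => by
    rw [mem_centralizer_singleton_iff]
    have h := congrArg (σ ^ k) h0
    rw [map_mul, map_mul (σ ^ k) (u⁻¹ * σ u) c, pow_fix_of_eq hσc] at h
    exact h.symm
  refine C.toB he hec ?_
  rw [hx, comm_mul_right,
    commutatorElement_eq_one_iff_mul_comm.mpr (mem_centralizer_singleton_iff.mp (hcq hq)), one_mul]
  exact conj_mem_center (C.orb_pair hu hs (C.orb_q0_le hu hq) (self_mem_orb σ u)) _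

/-- An element of `gUg⁻¹ ∩ M` fixes the orbit of a good element modulo `Z`. -/
theorem cross_Z (C : CC σ r M U Z) {g e c u : G} (hg : g ∉ M) (he : e ∈ Z) (hec : e ∉ center G)
    (hc : c ∈ M) (hσc : σ c = c) (hu : u ∈ U) (hx : g * e * g⁻¹ = c * u) (hs : Singular σ u)
    (hmode : (∀ a ∈ U, c * a = a * c) ∨ Abel M U g) {q' : G} (hq' : q' ∈ U)
    (hw : g * q' * g⁻¹ ∈ M) :
    ∃ cw uw : G, σ cw = cw ∧ cw ∈ M ∧ uw ∈ U ∧ g * q' * g⁻¹ = cw * uw ∧
      (∀ q ∈ orb σ ((u⁻¹ * σ u)⁻¹ * σ (u⁻¹ * σ u)), cw * q = q * cw) ∧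
      ∀ q ∈ orb σ (u⁻¹ * σ u), ⁅g * q' * g⁻¹, q⁆ ∈ Z := by
  obtain ⟨hc2, hcu, huZ⟩ := C.inv_data hg he hec hc hσc hu hx
  obtain ⟨cw, hcw, hσw, uw, huw, hweq⟩ := C.decomp _ hw
  set q0 := u⁻¹ * σ u with hq0d
  obtain ⟨hq0orb, hq0⟩ := C.q0_props hu
  have hcomm : cw * uw * (c * u) = c * u * (cw * uw) := by
    rw [← hweq, ← hx]
    calc g * q' * g⁻¹ * (g * e * g⁻¹) = g * (q' * e) * g⁻¹ := by group
      _ = g * (e * q') * g⁻¹ := by rw [C.cenU q' hq' e he]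
      _ = _ := by group
  set d := u⁻¹ * (cw⁻¹ * u * cw) with hdd
  have hcwi : cw⁻¹ ∈ M := inv_mem hcw
  have hu' : cw⁻¹ * u * cw ∈ U := by simpa using C.normU cw⁻¹ hcwi u hu
  have huw' : c⁻¹ * uw * c ∈ U := by simpa using C.normU c⁻¹ (inv_mem hc) uw huw
  have hd : d ∈ C.imN c hc := by
    set z := (cw * c)⁻¹ * (c * cw) with hzd
    have hzval : z = c⁻¹ * uw * c * u * (cw⁻¹ * u * cw * uw)⁻¹ := by
      calc z = (cw * c)⁻¹ * (c * u * (cw * uw)) * (cw⁻¹ * u * cw * uw)⁻¹ := by rw [hzd]; group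
        _ = (cw * c)⁻¹ * (cw * uw * (c * u)) * (cw⁻¹ * u * cw * uw)⁻¹ := by rw [hcomm]
        _ = _ := by group
    have hzU : z ∈ U := by
      rw [hzval]; exact mul_mem (mul_mem huw' hu) (inv_mem (mul_mem hu' huw))
    have hz : z ∈ Z := C.fixU z hzU (by rw [hzd, map_mul, map_inv, map_mul, map_mul, hσc, hσw])
    have hcca : c⁻¹ * uw * c = c * uw * c⁻¹ := by
      calc c⁻¹ * uw * c = c⁻¹ * (uw * (c * c)) * c⁻¹ := by group
        _ = c⁻¹ * (c * c * uw) * c⁻¹ := by rw [C.cenU uw huw _ hc2]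
        _ = _ := by group
    have hk : c * uw * c⁻¹ = ⁅c, uw⁆ * uw := by simp only [commutatorElement_def]; group
    have hu'eq : cw⁻¹ * u * cw = z⁻¹ * (c⁻¹ * uw * c * u * uw⁻¹) := by rw [hzval]; group
    have hdeq : d = z⁻¹ * (⁅u⁻¹, ⁅c, uw⁆⁆ * ⁅c, uw⁆ * ⁅u⁻¹, uw⁆) := by
      rw [hdd, hu'eq, hcca, hk, ← mul_assoc, C.cenU _ (inv_mem hu) _ (inv_mem hz)]
      simp only [commutatorElement_def]; group
    have hkU : ⁅c, uw⁆ ∈ U := C.imN_leU hc (C.comm_mem_imN hc huw)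
    rw [hdeq]
    refine mul_mem (C.Z_le_imN hc (inv_mem hz)) (mul_mem (mul_mem
      (C.Z_le_imN hc (C.comU _ (inv_mem hu) _ hkU)) (C.comm_mem_imN hc huw))
      (C.Z_le_imN hc (C.comU _ (inv_mem hu) _ huw)))
  have hdU := C.imN_leU hc hd
  set d' := q0⁻¹ * (cw⁻¹ * q0 * cw) with hd'd
  have hq0' : cw⁻¹ * q0 * cw ∈ U := by simpa using C.normU cw⁻¹ hcwi q0 hq0
  have hd'U : d' ∈ U := mul_mem (inv_mem hq0) hq0'
  have hd' : d' ∈ C.imN c hc := by
    have hσd : σ d ∈ C.imN c hc := by simpa using C.imN_apply hc hσc hd 1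
    have e1 : cw⁻¹ * σ u * cw = σ u * σ d := by
      rw [hdd, map_mul, map_mul, map_mul, map_inv, map_inv, hσw]; group
    have e2 : d' = ⁅q0⁻¹, d⁻¹⁆ * d⁻¹ * σ d := by
      calc d' = q0⁻¹ * ((cw⁻¹ * u * cw)⁻¹ * (cw⁻¹ * σ u * cw)) := by rw [hd'd, hq0d]; group
        _ = q0⁻¹ * ((u * d)⁻¹ * (σ u * σ d)) := by rw [e1, hdd]; group
        _ = _ := by rw [hq0d, commutatorElement_def]; group
    rw [e2]
    exact mul_mem (mul_mem (C.Z_le_imN hc (C.comU _ (inv_mem hq0) _ (inv_mem hdU))) (inv_mem hd))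
      hσd
  have hd'Z : d' ∈ Z := by
    rcases hmode with hex | hab
    · exact C.imN_le_Z hc hex hd'
    · by_contra hn
      set w := g * q' * g⁻¹ with hwd
      set v := w⁻¹ * q0 * w with hvd
      have hvU : v ∈ U := by simpa [hvd] using C.normU w⁻¹ (inv_mem hw) q0 hq0
      have hq'M := C.hUM hq'
      have hvB : g⁻¹ * v * g ∈ M := by
        rw [show g⁻¹ * v * g = q'⁻¹ * (g⁻¹ * q0 * g) * q' by rw [hvd, hwd]; group]
        exact mul_mem (mul_mem (inv_mem hq'M)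
          (C.in_B hg he hec hc hσc hu hx hs (self_mem_orb σ q0))) hq'M
      have hperp : ∀ k : ℕ, ⁅(σ ^ k) q0, v⁆ ∈ center G := by
        intro k
        have hqU := C.pow_mem hq0 k
        have hqB := C.in_B hg he hec hc hσc hu hx hs (mem_orb σ q0 k)
        have hvq : g⁻¹ * (v * (σ ^ k) q0) * g ∈ M := by
          rw [show g⁻¹ * (v * (σ ^ k) q0) * g = (g⁻¹ * v * g) * (g⁻¹ * (σ ^ k) q0 * g) by group]
          exact mul_mem hvB hqB
        have h := hab _ (mul_mem hvU hqU) hvq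
        rw [mul_self_mul, C.cenU v hvU _ (C.comU _ hqU v hvU)] at h
        rw [show ⁅(σ ^ k) q0, v⁆ * v * v * (σ ^ k) q0 * (σ ^ k) q0 =
          ⁅(σ ^ k) q0, v⁆ * ((v * v) * ((σ ^ k) q0 * (σ ^ k) q0)) by group] at h
        exact (Subgroup.mul_mem_cancel_right _
          (mul_mem (hab v hvU hvB) (hab _ hqU hqB))).mp h
      have hvQ := C.dual hq0 (C.q0_notMem hu huZ) (C.singular_of_mem hu hs hq0orb) hvU hperp
      have hq0'eq : cw⁻¹ * q0 * cw = ⁅uw, v⁆ * v := by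
        rw [hvd, hweq, commutatorElement_def]; group
      have hd'Q : d' ∈ orb σ q0 ⊔ Z := by
        rw [hd'd, hq0'eq]
        exact mul_mem (inv_mem (mem_sup_left (self_mem_orb σ q0)))
          (mul_mem (mem_sup_right (C.comU uw huw v hvU)) hvQ)
      have hle : orb σ q0 ⊔ Z ≤ orb σ u ⊔ Z := sup_le_sup_right (C.orb_q0_le hu) _
      have hall : ∀ k : ℕ, (σ ^ k) d' ∈ orb σ u ⊔ Z := fun k => hle (C.sup_apply hq0 hd'Q k)
      have hu' := C.dual hd'U hn (fun k => C.sup_pair hu hs (hall k) (hle hd'Q)) hu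
        (fun k => C.sup_pair hu hs (hall k) (mem_sup_left (self_mem_orb σ u)))
      exact C.conj_fixed hg he hec hc hσc hx hc2
        (sup_le (orb_le (C.imN_apply hc hσc hd')) (C.Z_le_imN hc) hu')
  have h0 : ⁅cw, q0⁆ ∈ Z := by
    have e1 : ⁅cw, q0⁆ = cw * (q0 * d' * q0⁻¹)⁻¹ * cw⁻¹ := by
      rw [hd'd]; simp only [commutatorElement_def]; group
    rw [e1, C.conjZ hq0 hd'Z]
    exact C.normZ cw hcw _ (inv_mem hd'Z)
  have hk : cw * q0 * cw⁻¹ = ⁅cw, q0⁆ * q0 := by simp only [commutatorElement_def]; group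
  have hk' : cw * σ q0 * cw⁻¹ = ⁅cw, q0⁆ * σ q0 := by
    have h' := congrArg σ hk
    rwa [map_mul σ (cw * q0), map_mul σ cw, map_inv, hσw, map_mul σ ⁅cw, q0⁆,
      C.fixZ _ h0] at h'
  have h1 : cw * (q0⁻¹ * σ q0) = q0⁻¹ * σ q0 * cw := by
    calc cw * (q0⁻¹ * σ q0) = (cw * q0 * cw⁻¹)⁻¹ * (cw * σ q0 * cw⁻¹) * cw := by group
      _ = q0⁻¹ * σ q0 * cw := by rw [hk, hk']; group
  have hfix : orb σ (q0⁻¹ * σ q0) ≤ centralizer ({cw} : Set G) := orb_le fun k => by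
    rw [mem_centralizer_singleton_iff]
    have h := congrArg (σ ^ k) h1
    rw [map_mul, map_mul (σ ^ k) (q0⁻¹ * σ q0) cw, pow_fix_of_eq hσw] at h
    exact h.symm
  let T : Subgroup G :=
    { carrier := {h | h ∈ U ∧ ⁅cw, h⁆ ∈ Z}
      one_mem' := ⟨one_mem U, by rw [commutatorElement_one_right]; exact one_mem Z⟩
      mul_mem' := fun {a b} ha hb => ⟨mul_mem ha.1 hb.1, by
        rw [comm_mul_right, C.conjZ ha.1 hb.2]; exact mul_mem ha.2 hb.2⟩
      inv_mem' := fun {a} ha => ⟨inv_mem ha.1, by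
        rw [commutatorElement_inv_right, ← commutatorElement_inv]
        have h := C.conjZ (inv_mem ha.1) (inv_mem ha.2)
        rw [inv_inv] at h
        rw [h]
        exact inv_mem ha.2⟩ }
  have hT : orb σ q0 ≤ T := orb_le fun k => ⟨C.pow_mem hq0 k, by
    rw [← pow_fix_of_eq hσw k, ← map_commutatorElement, pow_fix_of_eq (C.fixZ _ h0)]; exact h0⟩
  refine ⟨cw, uw, hσw, hcw, huw, hweq, fun q hq => ?_, fun q hq => ?_⟩
  · exact (mem_centralizer_singleton_iff.mp (hfix hq)).symm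
  · have hqU := C.orb_leU hq0 hq
    rw [hweq, comm_mul_left]
    exact mul_mem (C.normZ cw hcw _ (C.comU uw huw q hqU)) (hT hq).2

/-- The orbits of good elements on the two sides commute modulo the centre, and `σ` moves the one
on the far side only by elements of the near one. -/
theorem cross (C : CC σ r M U Z) {g e c u e' c' u' : G} (hg : g ∉ M)
    (he : e ∈ Z) (hec : e ∉ center G) (hc : c ∈ M) (hσc : σ c = c) (hu : u ∈ U)
    (hx : g * e * g⁻¹ = c * u) (hs : Singular σ u)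
    (hmode : (∀ a ∈ U, c * a = a * c) ∨ Abel M U g)
    (he' : e' ∈ Z) (hec' : e' ∉ center G) (hc' : c' ∈ M) (hσc' : σ c' = c') (hu' : u' ∈ U)
    (hx' : g⁻¹ * e' * g = c' * u') (hs' : Singular σ u')
    (hmode' : (∀ a ∈ U, c' * a = a * c') ∨ Abel M U g⁻¹)
    {q' : G} (hq' : q' ∈ orb σ (u'⁻¹ * σ u')) :
    g * q' * g⁻¹ ∈ M ∧ (∀ q ∈ orb σ (u⁻¹ * σ u), ⁅g * q' * g⁻¹, q⁆ ∈ center G) ∧
      (g * q' * g⁻¹)⁻¹ * σ (g * q' * g⁻¹) ∈ orb σ (u⁻¹ * σ u) := by
  have hgi : g⁻¹ ∉ M := fun h => hg (by simpa using inv_mem h)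
  have hx'' : g⁻¹ * e' * g⁻¹⁻¹ = c' * u' := by rwa [inv_inv]
  have hwM : g * q' * g⁻¹ ∈ M := by
    simpa using C.in_B hgi he' hec' hc' hσc' hu' hx'' hs' hq'
  have hq'U : q' ∈ U := C.orb_leU (C.q0_props hu').2 hq'
  obtain ⟨cw, uw, hσw, hcw, huw, hweq, hfix, hZ⟩ :=
    C.cross_Z hg he hec hc hσc hu hx hs hmode hq'U hwM
  have hcen : ∀ q ∈ orb σ (u⁻¹ * σ u), ⁅g * q' * g⁻¹, q⁆ ∈ center G := by
    intro q hq
    have hyM : g⁻¹ * q * g⁻¹⁻¹ ∈ M := by
      rw [inv_inv]; exact C.in_B hg he hec hc hσc hu hx hs hq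
    obtain ⟨-, -, -, -, -, -, -, hZ'⟩ := C.cross_Z hgi he' hec' hc' hσc' hu' hx'' hs' hmode'
      (C.orb_leU (C.q0_props hu).2 hq) hyM
    have h := inv_mem (hZ' q' hq')
    refine C.meet hg (hZ q hq) ?_
    rw [commutatorElement_inv, inv_inv] at h
    have e : g⁻¹ * ⁅g * q' * g⁻¹, q⁆ * g = ⁅q', g⁻¹ * q * g⁆ := by
      simp only [commutatorElement_def]; group
    rwa [e]
  refine ⟨hwM, hcen, ?_⟩
  obtain ⟨hq0o, hq0⟩ := C.q0_props hu
  set q0 := u⁻¹ * σ u with hq0d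
  obtain ⟨hq1o, hq1⟩ := C.q0_props hq0
  obtain ⟨-, -, huZ⟩ := C.inv_data hg he hec hc hσc hu hx
  have hq0s := C.singular_of_mem hu hs hq0o
  have hperp : ∀ k : ℕ, ⁅(σ ^ k) (q0⁻¹ * σ q0), uw⁆ ∈ center G := by
    intro k
    have hqo := mem_orb σ (q0⁻¹ * σ q0) k
    have h := hcen _ (C.orb_q0_le hq0 hqo)
    rw [hweq, comm_mul_left, commutatorElement_eq_one_iff_mul_comm.mpr (hfix _ hqo), mul_one] at h
    have h' := conj_mem_center h cw⁻¹
    rw [show cw⁻¹ * (cw * ⁅uw, (σ ^ k) (q0⁻¹ * σ q0)⁆ * cw⁻¹) * cw⁻¹⁻¹ =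
      ⁅uw, (σ ^ k) (q0⁻¹ * σ q0)⁆ by group] at h'
    exact modComm_symm h'
  have huwQ := C.dual hq1 (C.q0_notMem hq0 (C.q0_notMem hu huZ)) (C.singular_of_mem hq0 hq0s hq1o)
    huw hperp
  obtain ⟨q, hq, z, hz, hqz⟩ := C.exists_mul_sup hq1 huwQ
  have hqU := C.orb_leU hq1 hq
  have e : (g * q' * g⁻¹)⁻¹ * σ (g * q' * g⁻¹) = q⁻¹ * σ q := by
    rw [hweq, map_mul, hσw, hqz, map_mul, C.fixZ z hz]
    calc (cw * (q * z))⁻¹ * (cw * (σ q * z)) = z⁻¹ * (q⁻¹ * σ q * z) := by group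
      _ = z⁻¹ * (z * (q⁻¹ * σ q)) := by
        rw [C.cenU _ (mul_mem (inv_mem hqU) (C.sigU q hqU)) z hz]
      _ = q⁻¹ * σ q := by group
  rw [e]
  exact C.orb_q0_le hq0 (mul_mem (inv_mem hq) (apply_mem_orb hq))

/-- Good elements on both sides are impossible. -/
theorem not_both (C : CC σ r M U Z) {g : G} (hg : g ∉ M) (h1 : Good σ M U Z g)
    (h2 : Good σ M U Z g⁻¹) : False := by
  obtain ⟨e, c, u, he, hec, hc, hσc, hu, hx, hs, hmode⟩ := h1
  obtain ⟨e', c', u', he', hec', hc', hσc', hu', hx', hs', hmode'⟩ := h2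
  rw [inv_inv] at hx'
  have hgi : g⁻¹ ∉ M := fun h => hg (by simpa using inv_mem h)
  have hA := fun {q' : G} (hq' : q' ∈ orb σ (u'⁻¹ * σ u')) =>
    C.cross hg he hec hc hσc hu hx hs hmode he' hec' hc' hσc' hu' hx' hs' hmode' hq'
  have hB := fun {q : G} (hq : q ∈ orb σ (u⁻¹ * σ u)) =>
    C.cross hgi he' hec' hc' hσc' hu' (by rwa [inv_inv]) hs' hmode' he hec hc hσc hu
      (by rwa [inv_inv]) hs (by rwa [inv_inv]) hq
  obtain ⟨hq0o, hq0⟩ := C.q0_props hu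
  obtain ⟨hq0o', hq0'⟩ := C.q0_props hu'
  set Q₁ := orb σ (u⁻¹ * σ u) with hQ₁
  set Q₂ := (orb σ (u'⁻¹ * σ u')).map (MulAut.conj g).toMonoidHom with hQ₂
  set R := Q₁ ⊔ Q₂ with hR
  have mem₂ : ∀ {q' : G}, q' ∈ orb σ (u'⁻¹ * σ u') → g * q' * g⁻¹ ∈ Q₂ := fun hq' =>
    ⟨_, hq', rfl⟩
  have hQ₁U : Q₁ ≤ U := C.orb_leU hq0
  have hRM : R ≤ M := sup_le (hQ₁U.trans C.hUM) (by
    rintro _ ⟨q', hq', rfl⟩; exact (hA hq').1)
  -- `R` is invariant under `σ`
  have hRσ' : R.map σ.toMonoidHom ≤ R := by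
    rw [hR, Subgroup.map_sup]
    refine sup_le ?_ ?_
    · rintro _ ⟨q, hq, rfl⟩; exact mem_sup_left (apply_mem_orb hq)
    · rintro _ ⟨_, ⟨q', hq', rfl⟩, rfl⟩
      show σ (g * q' * g⁻¹) ∈ Q₁ ⊔ Q₂
      rw [← mul_inv_cancel_left (g * q' * g⁻¹) (σ (g * q' * g⁻¹))]
      exact mul_mem (mem_sup_right (mem₂ hq')) (mem_sup_left (hA hq').2.2)
  have hRσ : ∀ h ∈ R, σ h ∈ R := fun h hh => hRσ' (mem_map_of_mem σ.toMonoidHom hh)
  -- and under its conjugate by `g`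
  set φ : MulAut G := MulAut.conj g * σ * (MulAut.conj g)⁻¹ with hφd
  have hφ : ∀ h, φ h = g * σ (g⁻¹ * h * g) * g⁻¹ := fun h => by simp [hφd]
  have hRφ' : R.map φ.toMonoidHom ≤ R := by
    rw [hR, Subgroup.map_sup]
    refine sup_le ?_ ?_
    · rintro _ ⟨q, hq, rfl⟩
      show φ q ∈ Q₁ ⊔ Q₂
      have hd := (hB hq).2.2
      rw [inv_inv] at hd
      rw [hφ, show g * σ (g⁻¹ * q * g) * g⁻¹ =
        q * (g * ((g⁻¹ * q * g)⁻¹ * σ (g⁻¹ * q * g)) * g⁻¹) by group]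
      exact mul_mem (mem_sup_left hq) (mem_sup_right (mem₂ hd))
    · rintro _ ⟨_, ⟨q', hq', rfl⟩, rfl⟩
      show φ (g * q' * g⁻¹) ∈ Q₁ ⊔ Q₂
      rw [hφ, show g⁻¹ * (g * q' * g⁻¹) * g = q' by group]
      exact mem_sup_right (mem₂ (apply_mem_orb hq'))
  -- `R` is abelian modulo the centre
  have h11 : ∀ q ∈ Q₁, R ≤ modCentralizer q := fun q hq => sup_le
    (fun p hp => C.orb_pair hu hs (C.orb_q0_le hu hp) (C.orb_q0_le hu hq))
    (by rintro _ ⟨q', hq', rfl⟩; exact (hA hq').2.1 q hq)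
  have h22 : ∀ p ∈ Q₂, R ≤ modCentralizer p := by
    rintro _ ⟨q', hq', rfl⟩
    refine sup_le (fun q hq => modComm_symm ((hA hq').2.1 q hq)) ?_
    rintro _ ⟨p', hp', rfl⟩
    show ⁅g * p' * g⁻¹, g * q' * g⁻¹⁆ ∈ center G
    rw [← conjugate_commutatorElement]
    exact conj_mem_center (C.orb_pair hu' hs' (C.orb_q0_le hu' hp') (C.orb_q0_le hu' hq')) g
  have hRR : ∀ h ∈ R, ∀ h' ∈ R, ⁅h', h⁆ ∈ center G := fun h hh h' hh' =>
    (sup_le (fun q hq => modComm_symm (h11 q hq hh)) (fun p hp => modComm_symm (h22 p hp hh)) :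
      R ≤ modCentralizer h) hh'
  -- and is a 2-group
  let T : Subgroup G :=
    { carrier := {h | h ∈ R ∧ h * h ∈ center G ∧ h * h * (h * h) = 1}
      one_mem' := ⟨one_mem R, by simp, by simp⟩
      mul_mem' := by
        intro a b ha hb
        have hk := hRR a ha.1 b hb.1
        have e1 : a * b * (a * b) = ⁅b, a⁆ * ((a * a) * (b * b)) := by
          rw [mul_self_mul, mem_center_iff.mp hk a]; group
        have hsq : ⁅b, a⁆ * ⁅b, a⁆ = 1 := by
          calc ⁅b, a⁆ * ⁅b, a⁆ = b * ⁅b, a⁆ * b⁻¹ * ⁅b, a⁆ := by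
                rw [conj_eq_self_of_mem_center hk]
            _ = ⁅b * b, a⁆ := (comm_mul_left b b a).symm
            _ = 1 := commutatorElement_eq_one_iff_mul_comm.mpr
                (mem_center_iff.mp hb.2.1 a).symm
        refine ⟨mul_mem ha.1 hb.1, ?_, ?_⟩
        · rw [e1]; exact mul_mem hk (mul_mem ha.2.1 hb.2.1)
        · rw [e1]
          have hka : Commute ⁅b, a⁆ ((a * a) * (b * b)) := (mem_center_iff.mp hk _).symm
          have hab : Commute (a * a) (b * b) := (mem_center_iff.mp ha.2.1 _).symm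
          rw [hka.symm.mul_mul_mul_comm, hsq, one_mul, hab.symm.mul_mul_mul_comm, ha.2.2, hb.2.2,
            one_mul]
      inv_mem' := by
        intro a ha
        refine ⟨inv_mem ha.1, ?_, ?_⟩
        · rw [← mul_inv_rev]; exact inv_mem ha.2.1
        · rw [← mul_inv_rev, ← mul_inv_rev, ha.2.2, inv_one] }
  have hsq : ∀ {v : G}, v ∈ U → Singular σ v → ∀ q ∈ orb σ (v⁻¹ * σ v),
      q * q ∈ center G ∧ q * q * (q * q) = 1 := by
    intro v hv hvs q hq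
    obtain ⟨hvo, hv0⟩ := C.q0_props hv
    let T₀ : Subgroup G :=
      { carrier := {p | p ∈ orb σ v ∧ p * p ∈ center G}
        one_mem' := ⟨one_mem _, by simp⟩
        mul_mem' := fun {a b} ha hb => by
          refine ⟨mul_mem ha.1 hb.1, ?_⟩
          rw [mul_self_mul, mem_center_iff.mp (C.orb_pair hv hvs hb.1 ha.1) a,
            show ⁅b, a⁆ * a * a * b * b = ⁅b, a⁆ * ((a * a) * (b * b)) by group]
          exact mul_mem (C.orb_pair hv hvs hb.1 ha.1) (mul_mem ha.2 hb.2)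
        inv_mem' := fun {a} ha => ⟨inv_mem ha.1, by rw [← mul_inv_rev]; exact inv_mem ha.2⟩ }
    have h : q ∈ T₀ := orb_le (H := T₀) (fun k => ⟨pow_apply_mem_orb hvo k, by
      rw [← map_mul, pow_fix_of_eq (C.fixC _ (C.q0_sq hv hvs))]; exact C.q0_sq hv hvs⟩) hq
    exact ⟨h.2, C.sqZ _ (C.sqU q (C.orb_leU hv h.1))⟩
  have hRT : R ≤ T := sup_le (fun q hq => ⟨mem_sup_left hq, hsq hu hs q hq⟩) (by
    rintro _ ⟨q', hq', rfl⟩
    obtain ⟨k1, k2⟩ := hsq hu' hs' q' hq'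
    refine ⟨mem_sup_right (mem₂ hq'), ?_, ?_⟩
    · show g * q' * g⁻¹ * (g * q' * g⁻¹) ∈ center G
      rw [show g * q' * g⁻¹ * (g * q' * g⁻¹) = g * (q' * q') * g⁻¹ by group]
      exact conj_mem_center k1 g
    · show g * q' * g⁻¹ * (g * q' * g⁻¹) * (g * q' * g⁻¹ * (g * q' * g⁻¹)) = 1
      rw [show g * q' * g⁻¹ * (g * q' * g⁻¹) * (g * q' * g⁻¹ * (g * q' * g⁻¹)) =
        g * (q' * q' * (q' * q')) * g⁻¹ by group, k2, mul_one, mul_inv_cancel])
  have hR2 : IsPGroup 2 R := fun h => ⟨2, Subtype.ext (by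
    rw [Subgroup.coe_pow, Subgroup.coe_one, show (2 : ℕ) ^ 2 = 2 * 2 from rfl, pow_mul, pow_two,
      pow_two]
    exact (hRT h.2).2.2)⟩
  have hu0Z : u⁻¹ * σ u ∉ Z := C.q0_notMem hu (C.inv_data hg he hec hc hσc hu hx).2.2
  have hNM := C.hN R hRM hR2 hRσ ⟨_, hq0, hu0Z, C.singular_of_mem hu hs hq0o,
    fun k => mem_sup_left (mem_orb σ _ k)⟩
  set N := normalizer (R : Set G) with hN
  have hn : g * σ g⁻¹ ∈ N := by
    refine mem_normalizer_fintype fun h hh => ?_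
    have h' : (σ ^ (r - 1)) h ∈ R := by
      generalize r - 1 = k
      induction k with
      | zero => exact hh
      | succ i ih => rw [pow_succ', MulAut.mul_apply]; exact hRσ _ ih
    have h3 : σ ((σ ^ (r - 1)) h) = h := by
      rw [← MulAut.mul_apply, ← pow_succ', Nat.sub_add_cancel C.hr.one_le, C.hσ, MulAut.one_apply]
    have h4 := hRφ' (mem_map_of_mem φ.toMonoidHom h')
    rw [MulEquiv.coe_toMonoidHom, hφ, map_mul, map_mul, h3] at h4
    rw [SetLike.mem_coe, show g * σ g⁻¹ * h * (g * σ g⁻¹)⁻¹ = g * (σ g⁻¹ * h * σ g) * g⁻¹ by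
      rw [map_inv]; group]
    exact h4
  have hNσ : ∀ x ∈ N, σ x ∈ N := by
    intro x hx
    refine mem_normalizer_fintype fun h hh => ?_
    have h' : (σ ^ (r - 1)) h ∈ R := by
      generalize r - 1 = k
      induction k with
      | zero => exact hh
      | succ i ih => rw [pow_succ', MulAut.mul_apply]; exact hRσ _ ih
    have h3 : σ ((σ ^ (r - 1)) h) = h := by
      rw [← MulAut.mul_apply, ← pow_succ', Nat.sub_add_cancel C.hr.one_le, C.hσ, MulAut.one_apply]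
    have h4 := hRσ _ ((mem_normalizer_iff.mp hx _).mp h')
    rwa [map_mul, map_mul, map_inv, h3] at h4
  have : Fact r.Prime := ⟨C.hr⟩
  obtain ⟨y, hy, hσy⟩ := H1.Turull.exists_fixed_coset σ C.hσ N hNσ
    (fun h => C.hcop (h.trans N.card_subgroup_dvd_card)) g⁻¹ (by rwa [inv_inv])
  rw [inv_inv] at hy
  exact hg (by simpa using mul_mem (hNM hy) (inv_mem (C.hCM y hσy)))

/-- In the abelian case a moved element of `Z` is good. -/
theorem good_of_abel (C : CC σ r M U Z) {g e : G} (hg : g ∉ M) (hab : Abel M U g) (he : e ∈ Z)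
    (hec : e ∉ center G) (hgM : g * e * g⁻¹ ∈ M) : Good σ M U Z g := by
  obtain ⟨c, hc, hσc, u, hu, hx⟩ := C.decomp _ hgM
  refine ⟨e, c, u, he, hec, hc, hσc, hu, hx, ?_, Or.inr hab⟩
  intro k
  by_contra hk
  obtain ⟨hc2, hcu, huZ⟩ := C.inv_data hg he hec hc hσc hu hx
  obtain ⟨t, ht⟩ := C.hodd
  set i := k * (t + 1) with hi
  set j := i * (2 * t) with hj
  have hij : i + j = r * i := by rw [hj, ht]; ring
  have hone : σ ^ (i + j) = 1 := by rw [hij, C.pow_mul_r]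
  set a := (σ ^ i) u with ha
  set b := (σ ^ j) u with hb
  have haU := C.pow_mem hu i
  have hbU := C.pow_mem hu j
  have hib : (σ ^ i) b = u := by
    rw [hb, ← MulAut.mul_apply, ← pow_add, hone, MulAut.one_apply]
  have hab' : ⁅b, a⁆ = ⁅(σ ^ k) u, u⁆ := by
    rw [C.symm haU hbU, ← C.sig_comm i haU hbU, hib, ← MulAut.mul_apply, ← pow_add,
      show i + i = r * k + k by rw [hi, ht]; ring, pow_add, C.pow_mul_r, one_mul]
  have hau : ⁅u, b⁆ = ⁅u, a⁆ := by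
    calc ⁅u, b⁆ = ⁅a, (σ ^ i) b⁆ := (C.sig_comm i hu hbU).symm
      _ = ⁅u, a⁆ := by rw [hib, C.symm haU hu]
  have hcn : ∀ n : ℕ, c * (σ ^ n) u * c⁻¹ = ⁅c, u⁆ * (σ ^ n) u := by
    intro n
    have h1 : c * u * c⁻¹ = ⁅c, u⁆ * u := by simp only [commutatorElement_def]; group
    have h2 := congrArg (σ ^ n) h1
    rwa [map_mul, map_mul, map_inv, pow_fix_of_eq hσc, map_mul, pow_fix_of_eq (C.fixZ _ hcu)] at h2
  have hcv : c * (a * b) * c⁻¹ = a * b := by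
    calc c * (a * b) * c⁻¹ = (c * a * c⁻¹) * (c * b * c⁻¹) := by group
      _ = (⁅c, u⁆ * a) * (⁅c, u⁆ * b) := by rw [hcn i, hcn j]
      _ = ⁅c, u⁆ * (a * ⁅c, u⁆) * b := by group
      _ = (⁅c, u⁆ * ⁅c, u⁆) * (a * b) := by rw [C.cenU a haU _ hcu]; group
      _ = a * b := by rw [C.sqZ _ hcu, one_mul]
  have huv : u * (a * b) = a * b * u := by
    refine commutatorElement_eq_one_iff_mul_comm.mp ?_
    rw [C.bilR hu haU hbU, hau, C.sqZ _ (C.comU u hu a haU)]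
  have hcv' : c * (a * b) = a * b * c := by
    calc c * (a * b) = c * (a * b) * c⁻¹ * c := by group
      _ = a * b * c := by rw [hcv]
  have hvB : g⁻¹ * (a * b) * g ∈ M := by
    refine C.toB he hec ?_
    rw [hx, comm_mul_right, commutatorElement_eq_one_iff_mul_comm.mpr hcv'.symm,
      commutatorElement_eq_one_iff_mul_comm.mpr huv.symm]
    simp
  have h := hab _ (mul_mem haU hbU) hvB
  have ha2 : a * a = u * u := by rw [ha, ← map_mul, pow_fix_of_eq (C.fixZ _ (C.sqU u hu))]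
  have hb2 : b * b = u * u := by rw [hb, ← map_mul, pow_fix_of_eq (C.fixZ _ (C.sqU u hu))]
  rw [mul_self_mul, C.cenU a haU _ (C.comU b hbU a haU),
    show ⁅b, a⁆ * a * a * b * b = ⁅b, a⁆ * ((a * a) * (b * b)) by group, ha2, hb2,
    C.sqZ _ (C.sqU u hu), mul_one, hab'] at h
  exact hk h

/-- The main theorem: a noncentral element of `Z` fixes exactly one coset of `M`. -/
theorem mem_of_conj (C : CC σ r M U Z) {e : G} (he : e ∈ Z) (hec : e ∉ center G) {g : G}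
    (hgM : g * e * g⁻¹ ∈ M) : g ∈ M := by
  by_contra hg
  have hgi : g⁻¹ ∉ M := fun h => hg (by simpa using inv_mem h)
  have key : ∀ x : G, x ∉ M → ¬ Abel M U x → Good σ M U Z x⁻¹ ∧ ¬ Abel M U x⁻¹ := by
    intro x hx hna
    simp only [Abel, not_forall] at hna
    obtain ⟨v, hv, hvB, hv2⟩ := hna
    refine C.stepB (t := x⁻¹ * v * x) (fun h => hx (by simpa using inv_mem h)) hvB
      (by rw [inv_inv, show x * (x⁻¹ * v * x) * x⁻¹ = v by group]; exact hv) fun h => hv2 ?_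
    have h' := conj_mem_center h x
    rwa [show x * (x⁻¹ * v * x * (x⁻¹ * v * x)) * x⁻¹ = v * v by group] at h'
  by_cases hA : Abel M U g
  · by_cases hB : Abel M U g⁻¹
    · refine C.not_both hg (C.good_of_abel hg hA he hec hgM) ?_
      obtain ⟨z, hz, hzc, hzM⟩ : ∃ z ∈ Z, z ∉ center G ∧ g⁻¹ * z * g ∈ M := by
        by_cases h : ∀ z ∈ Z, ⁅g * e * g⁻¹, z⁆ ∈ center G
        · exact ⟨e, he, hec, C.toB he hec (modComm_symm (h e he))⟩
        · obtain ⟨z, hz, hzc⟩ : ∃ z ∈ Z, ⁅g * e * g⁻¹, z⁆ ∉ center G := by simpa using h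
          have hwZ : ⁅g * e * g⁻¹, z⁆ ∈ Z := by
            rw [commutatorElement_def]; exact mul_mem (C.normZ _ hgM z hz) (inv_mem hz)
          refine ⟨_, hwZ, hzc, C.toB he hec (modComm_symm ?_)⟩
          have hxx : g * e * g⁻¹ * (g * e * g⁻¹) = 1 := by
            rw [show g * e * g⁻¹ * (g * e * g⁻¹) = g * (e * e) * g⁻¹ by group, C.sqZ e he,
              mul_one, mul_inv_cancel]
          have h1 := comm_mul_left (g * e * g⁻¹) (g * e * g⁻¹) z
          rw [hxx, commutatorElement_one_left] at h1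
          rw [commutatorElement_def _ ⁅g * e * g⁻¹, z⁆, C.inv_eq hwZ, ← h1]
          exact one_mem _
      exact C.good_of_abel hgi hB hz hzc (by rwa [inv_inv])
    · obtain ⟨hG, hnA⟩ := key g⁻¹ hgi hB
      rw [inv_inv] at hnA
      exact hnA hA
  · obtain ⟨hG', hnA⟩ := key g hg hA
    obtain ⟨hG, -⟩ := key g⁻¹ hgi hnA
    rw [inv_inv] at hG
    exact C.not_both hg hG hG'

end CC

end H83.Shult
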