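import Mathlib.GroupTheory.Sylow
import Mathlib.GroupTheory.PGroup
import Mathlib.Data.Fintype.Lattice

/-!
Closure of the centre `Z = S ⊓ L` of the moved part `U = S ⊓ K` of a Sylow 2-subgroup `S` in the
minimal configuration of Shult's fixed point theorem: if `C(s)` and the centralisers of the
nontrivial elements of `Z` lie in `M`, every element moving an element of `Z` into `S` lies in `M`.
-/

set_option autoImplicit false

open Subgroup

namespace H83.Shult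

variable {G : Type*} [Group G]

/-- The configuration: `σ` is the coprime automorphism, `M` the maximal invariant overgroup,
`K = [M, σ]` and `L` the preimage of the centre, both normal in `M`. -/
structure Closure (σ : MulAut G) (M K L S : Subgroup G) : Prop where
  pS : IsPGroup 2 S
  hSM : S ≤ M
  hLM : L ≤ M
  syl : ∀ Q : Subgroup G, Q ≤ M → IsPGroup 2 Q → ∃ m ∈ M, ∀ q ∈ Q, m * q * m⁻¹ ∈ S
  normK : ∀ m ∈ M, ∀ k ∈ K, m * k * m⁻¹ ∈ K
  normL : ∀ m ∈ M, ∀ k ∈ L, m * k * m⁻¹ ∈ L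
  hZK : S ⊓ L ≤ K
  sqU : ∀ u ∈ S ⊓ K, u * u ∈ L
  comU : ∀ u ∈ S ⊓ K, ∀ v ∈ S ⊓ K, u * v * u⁻¹ * v⁻¹ ∈ L
  cenU : ∀ u ∈ S ⊓ K, ∀ z ∈ S ⊓ L, u * z = z * u
  sqZ : ∀ z ∈ S ⊓ L, z * z = 1
  sigU : ∀ u ∈ S ⊓ K, σ u ∈ S ⊓ K
  fixZ : ∀ z ∈ S ⊓ L, σ z = z
  fixU : ∀ u ∈ S ⊓ K, σ u = u → u ∈ L
  decomp : ∀ t ∈ S, ∃ c ∈ S, σ c = c ∧ ∃ u ∈ S ⊓ K, t = c * u
  cent : ∀ c ∈ S, σ c = c → (∀ z ∈ S ⊓ L, c * z = z * c) → ∀ u ∈ S ⊓ K, c * u = u * c
  hC : ∀ e ∈ S ⊓ L, e ≠ 1 → ∀ g : G, g * e = e * g → g ∈ M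
  hF : ∀ e ∈ S ⊓ L, e ≠ 1 → ∀ g : G, σ (g * e * g⁻¹) = g * e * g⁻¹ → g ∈ M
  nab : ∀ u ∈ S ⊓ K, u ∉ L →
    ∃ i j : ℕ, σ ^ (i + j) = 1 ∧ ¬ Commute ((σ ^ i) u) ((σ ^ j) u)

/-- For an automorphism of odd order, a noncommuting pair of translates yields a symmetric one. -/
theorem exists_symm_pair (σ : MulAut G) {r : ℕ} (hr : Odd r) (hσ : σ ^ r = 1) {u : G} {k : ℕ}
    (h : ¬ Commute ((σ ^ k) u) u) :
    ∃ i j : ℕ, σ ^ (i + j) = 1 ∧ ¬ Commute ((σ ^ i) u) ((σ ^ j) u) := by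
  obtain ⟨q, hq⟩ := hr
  set i := k * (q + 1) with hi
  have hs : i + i * (2 * q) = r * i := by rw [hq]; ring
  have hone : σ ^ (i + i * (2 * q)) = 1 := by rw [hs, pow_mul, hσ, one_pow]
  refine ⟨i, i * (2 * q), hone, fun hc => h ?_⟩
  have h2 := hc.map (σ ^ i).toMonoidHom
  simp only [MulEquiv.coe_toMonoidHom] at h2
  rw [← MulAut.mul_apply, ← pow_add, ← MulAut.mul_apply, ← pow_add, hone, MulAut.one_apply] at h2
  have e : i + i = r * k + k := by rw [hi, hq]; ring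
  rw [e, pow_add, pow_mul, hσ, one_pow, one_mul] at h2
  exact h2

/-- A 2-element of `H` is conjugate into a given Sylow subgroup of `H`, and every 2-subgroup of `H`
lies in such a Sylow subgroup. -/
theorem exists_sylow_conj [Finite G] (H Q : Subgroup G) (hQH : Q ≤ H) (hQ : IsPGroup 2 Q) :
    ∃ R : Subgroup G, R ≤ H ∧ IsPGroup 2 R ∧ Q ≤ R ∧
      ∀ w ∈ H, IsPGroup 2 (zpowers w) → ∃ h ∈ H, h * w * h⁻¹ ∈ R := by
  have : Fact (Nat.Prime 2) := ⟨Nat.prime_two⟩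
  obtain ⟨P, hP⟩ := (hQ.of_equiv (subgroupOfEquivOfLe hQH).symm).exists_le_sylow
  refine ⟨(P : Subgroup H).map H.subtype, map_subtype_le _, P.2.map _,
    fun q hq => ⟨⟨q, hQH hq⟩, hP hq, rfl⟩, fun w hw hp => ?_⟩
  have hwH : zpowers w ≤ H := zpowers_le.mpr hw
  obtain ⟨P', hP'⟩ := (hp.of_equiv (subgroupOfEquivOfLe hwH).symm).exists_le_sylow
  obtain ⟨h, hh⟩ := MulAction.exists_smul_eq H P' P
  refine ⟨h, h.2, ⟨h * ⟨w, hw⟩ * h⁻¹, ?_, rfl⟩⟩
  rw [← hh]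
  exact ⟨⟨w, hw⟩, hP' (mem_zpowers w), rfl⟩

theorem isPGroup_zpowers_of_mem {S : Subgroup G} (hS : IsPGroup 2 S) {w : G} (hw : w ∈ S) :
    IsPGroup 2 (zpowers w) := hS.to_le (zpowers_le.mpr hw)

theorem isPGroup_zpowers_conj {w : G} (hw : IsPGroup 2 (zpowers w)) (g : G) :
    IsPGroup 2 (zpowers (g * w * g⁻¹)) := by
  have : (zpowers w).map (MulAut.conj g).toMonoidHom = zpowers (g * w * g⁻¹) := by
    rw [MonoidHom.map_zpowers]; rfl
  exact this ▸ hw.map _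

namespace Closure

variable {σ : MulAut G} {M K L S : Subgroup G}

theorem pow_fix (C : Closure σ M K L S) {z : G} (hz : z ∈ S ⊓ L) (i : ℕ) : (σ ^ i) z = z := by
  induction i with
  | zero => rfl
  | succ n ih => rw [pow_succ, MulAut.mul_apply, C.fixZ z hz, ih]

theorem pow_mem (C : Closure σ M K L S) {u : G} (hu : u ∈ S ⊓ K) (i : ℕ) :
    (σ ^ i) u ∈ S ⊓ K := by
  induction i with
  | zero => exact hu
  | succ n ih => rw [pow_succ', MulAut.mul_apply]; exact C.sigU _ ih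

theorem zU (C : Closure σ M K L S) {z : G} (hz : z ∈ S ⊓ L) : z ∈ S ⊓ K := ⟨hz.1, C.hZK hz⟩

theorem commZ (C : Closure σ M K L S) {a b : G} (ha : a ∈ S ⊓ L) (hb : b ∈ S ⊓ L) :
    a * b = b * a := C.cenU a (C.zU ha) b hb

theorem inv_Z (C : Closure σ M K L S) {z : G} (hz : z ∈ S ⊓ L) : z⁻¹ = z :=
  inv_eq_of_mul_eq_one_right (C.sqZ z hz)

theorem conjZ (C : Closure σ M K L S) {t z : G} (ht : t ∈ S) (hz : z ∈ S ⊓ L) :
    t * z * t⁻¹ ∈ S ⊓ L :=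
  ⟨mul_mem (mul_mem ht hz.1) (Subgroup.inv_mem S ht), C.normL t (C.hSM ht) z hz.2⟩

theorem conjU (C : Closure σ M K L S) {t u : G} (ht : t ∈ S) (hu : u ∈ S ⊓ K) :
    t * u * t⁻¹ ∈ S ⊓ K :=
  ⟨mul_mem (mul_mem ht hu.1) (Subgroup.inv_mem S ht), C.normK t (C.hSM ht) u hu.2⟩

/-- No nontrivial element of `Z` lies in a conjugate of `L` by an element outside `M`. -/
theorem no_meet (C : Closure σ M K L S) {g z : G} (hg : g ∉ M) (hz : z ∈ S ⊓ L) (hz1 : z ≠ 1) :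
    g⁻¹ * z * g ∉ L := by
  intro hw
  set w := g⁻¹ * z * g with hwd
  have hp : IsPGroup 2 (zpowers w) := by
    have h := isPGroup_zpowers_conj (isPGroup_zpowers_of_mem C.pS hz.1) g⁻¹
    rwa [inv_inv] at h
  obtain ⟨m, hm, hmc⟩ := C.syl (zpowers w) (zpowers_le.mpr (C.hLM hw)) hp
  have h' : m * w * m⁻¹ ∈ S ⊓ L := ⟨hmc w (mem_zpowers w), C.normL m hm w hw⟩
  have e : g * m⁻¹ * (m * w * m⁻¹) * (g * m⁻¹)⁻¹ = z := by rw [hwd]; group
  have h1 : m * w * m⁻¹ ≠ 1 := fun h => hz1 (by rw [← e, h]; group)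
  have h2 := C.hF _ h' h1 (g * m⁻¹) (by rw [e]; exact C.fixZ z hz)
  exact hg (by simpa using mul_mem h2 hm)

/-- Elements of `Z` fixing the point `gM` commute with the part of `gUg⁻¹` inside `S`. -/
theorem centralise (C : Closure σ M K L S) {g : G} (hg : g ∉ M)
    (hadj : ∀ y ∈ S, g⁻¹ * y * g ∈ M → g⁻¹ * y * g ∈ S) {z : G} (hz : z ∈ S ⊓ L)
    (hzg : g⁻¹ * z * g ∈ M) {t : G} (ht : t ∈ S) (htg : g⁻¹ * t * g ∈ S ⊓ K) :
    t * z = z * t := by
  set d := t * z * t⁻¹ * z⁻¹ with hd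
  have hdZ : d ∈ S ⊓ L := mul_mem (C.conjZ ht hz) (inv_mem hz)
  by_cases hd1 : d = 1
  · have e := congrArg (· * (z * t)) hd1
    simpa [hd, mul_assoc] using e
  exfalso
  set zz := g⁻¹ * z * g with hzz
  set u := g⁻¹ * t * g with hu
  have hzS : zz ∈ S := hadj z hz.1 hzg
  have hdg : g⁻¹ * d * g = u * (zz * u⁻¹ * zz⁻¹) := by rw [hd, hzz, hu]; group
  have hdU : g⁻¹ * d * g ∈ S ⊓ K := by
    rw [hdg]; exact mul_mem htg (C.conjU hzS (inv_mem htg))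
  have hcomm : ∀ z' ∈ S ⊓ L, g * z' * g⁻¹ ∈ M := by
    intro z' hz'
    refine C.hC d hdZ hd1 _ ?_
    calc g * z' * g⁻¹ * d = g * (z' * (g⁻¹ * d * g)) * g⁻¹ := by group
      _ = g * ((g⁻¹ * d * g) * z') * g⁻¹ := by rw [C.cenU _ hdU z' hz']
      _ = d * (g * z' * g⁻¹) := by group
  have hcz : ∀ z' ∈ S ⊓ L, zz * z' = z' * zz := by
    intro z' hz'
    set q := zz * z' * zz⁻¹ * z'⁻¹ with hq
    have hqZ : q ∈ S ⊓ L := mul_mem (C.conjZ hzS hz') (inv_mem hz')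
    have hqg : g * q * g⁻¹ = z * ((g * z' * g⁻¹) * z⁻¹ * (g * z' * g⁻¹)⁻¹) := by
      rw [hq, hzz]; group
    by_contra hne
    have hq1 : q ≠ 1 := fun h => hne (by
      have e := congrArg (· * (z' * zz)) h
      simpa [hq, mul_assoc] using e)
    have hgi : g⁻¹ ∉ M := fun h => hg (by simpa using inv_mem h)
    refine C.no_meet hgi hqZ hq1 ?_
    rw [inv_inv, hqg]
    exact mul_mem hz.2 (C.normL _ (hcomm z' hz') _ (inv_mem hz.2))
  obtain ⟨c, hc, hσc, u₁, hu₁, hzzeq⟩ := C.decomp zz hzS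
  have hcc : ∀ z' ∈ S ⊓ L, c * z' = z' * c := by
    intro z' hz'
    have h := hcz z' hz'
    rw [hzzeq, mul_assoc, C.cenU u₁ hu₁ z' hz', ← mul_assoc, ← mul_assoc z'] at h
    exact mul_right_cancel h
  have hcu := C.cent c hc hσc hcc u htg
  refine C.no_meet hg hdZ hd1 ?_
  rw [hdg, hzzeq]
  have e : u * (c * u₁ * u⁻¹ * (c * u₁)⁻¹) = c * (u * u₁ * u⁻¹ * u₁⁻¹) * c⁻¹ := by
    calc u * (c * u₁ * u⁻¹ * (c * u₁)⁻¹) = (u * c) * u₁ * u⁻¹ * u₁⁻¹ * c⁻¹ := by group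
      _ = (c * u) * u₁ * u⁻¹ * u₁⁻¹ * c⁻¹ := by rw [hcu]
      _ = _ := by group
  rw [e]
  exact C.normL c (C.hSM hc) _ (C.comU u htg u₁ hu₁)

/-- An involution of `S` outside `C(σ)` commutes with an element of order four of `U`. -/
theorem exists_four (C : Closure σ M K L S) {c u : G} (hc : c ∈ S) (hσc : σ c = c)
    (hu : u ∈ S ⊓ K) (huL : u ∉ L) (hy : (c * u) * (c * u) = 1) :
    ∃ v ∈ S ⊓ K, c * u * v = v * (c * u) ∧ v * v ≠ 1 := by
  have hcuc := C.conjU hc hu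
  have hc2 : c * c = (c * u * c⁻¹)⁻¹ * u⁻¹ := by
    calc c * c = (c * u * c⁻¹)⁻¹ * ((c * u) * (c * u)) * u⁻¹ := by group
      _ = _ := by rw [hy]; group
  have hc2U : c * c ∈ S ⊓ K := by rw [hc2]; exact mul_mem (inv_mem hcuc) (inv_mem hu)
  have hc2Z : c * c ∈ S ⊓ L := ⟨hc2U.1, C.fixU _ hc2U (by rw [map_mul, hσc])⟩
  set k := c * u * c⁻¹ * u⁻¹ with hk
  have hw : u * u ∈ S ⊓ L := ⟨mul_mem hu.1 hu.1, C.sqU u hu⟩
  have hkval : k = (c * c) * (u * u) := by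
    have e1 : c * u * c⁻¹ = u⁻¹ * (c * c)⁻¹ := by
      rw [hc2]; group
    rw [hk, e1, C.inv_Z hc2Z]
    have e2 : u⁻¹ = u * (u * u) := by
      rw [← mul_right_inj u, mul_inv_cancel, ← mul_assoc, ← C.sqZ _ hw]
    calc u⁻¹ * (c * c) * u⁻¹ = u⁻¹ * u⁻¹ * (c * c) := by
          rw [mul_assoc, ← C.cenU u⁻¹ (inv_mem hu) (c * c) hc2Z, ← mul_assoc]
      _ = (u * u)⁻¹ * (c * c) := by group
      _ = (c * c) * (u * u) := by rw [C.inv_Z hw, C.commZ hw hc2Z]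
  have hkZ : k ∈ S ⊓ L := hkval ▸ mul_mem hc2Z hw
  obtain ⟨i, j, hij, hnc⟩ := C.nab u hu huL
  set a := (σ ^ i) u with ha
  set b := (σ ^ j) u with hb
  have haU := C.pow_mem hu i
  have hbU := C.pow_mem hu j
  have hcn : ∀ n : ℕ, c * (σ ^ n) u * c⁻¹ = k * (σ ^ n) u := by
    intro n
    have hfc : (σ ^ n) c = c := by
      induction n with
      | zero => rfl
      | succ m ih => rw [pow_succ, MulAut.mul_apply, hσc, ih]
    have h1 : c * u * c⁻¹ = k * u := by rw [hk, inv_mul_cancel_right]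
    have h2 := congrArg (σ ^ n) h1
    rwa [map_mul, map_mul, map_inv, hfc, map_mul, C.pow_fix hkZ n] at h2
  refine ⟨a * b, mul_mem haU hbU, ?_, fun hv => hnc ?_⟩
  · have hcv : c * (a * b) * c⁻¹ = a * b := by
      calc c * (a * b) * c⁻¹ = (c * a * c⁻¹) * (c * b * c⁻¹) := by group
        _ = (k * a) * (k * b) := by rw [hcn i, hcn j]
        _ = k * (a * k) * b := by group
        _ = (k * k) * (a * b) := by rw [C.cenU a haU k hkZ]; group
        _ = a * b := by rw [C.sqZ k hkZ, one_mul]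
    set ca := u * a * u⁻¹ * a⁻¹ with hca
    have hcaZ : ca ∈ S ⊓ L :=
      ⟨mul_mem (mul_mem (mul_mem hu.1 haU.1) (Subgroup.inv_mem S hu.1)) (Subgroup.inv_mem S haU.1), C.comU u hu a haU⟩
    have hcb : u * b * u⁻¹ * b⁻¹ = ca := by
      have hcbZ : u * b * u⁻¹ * b⁻¹ ∈ S ⊓ L :=
        ⟨mul_mem (mul_mem (mul_mem hu.1 hbU.1) (Subgroup.inv_mem S hu.1)) (Subgroup.inv_mem S hbU.1), C.comU u hu b hbU⟩
      have h := C.pow_fix hcbZ i
      have hib : (σ ^ i) b = u := by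
        rw [hb, ← MulAut.mul_apply, ← pow_add, hij, MulAut.one_apply]
      rw [map_mul, map_mul, map_mul, map_inv, map_inv, hib, ← ha] at h
      have h' : a * u * a⁻¹ * u⁻¹ = ca⁻¹ := by rw [hca]; group
      rw [← h, h', C.inv_Z hcaZ]
    have huv : u * (a * b) * u⁻¹ = a * b := by
      calc u * (a * b) * u⁻¹ = (u * a * u⁻¹ * a⁻¹) * a * (u * b * u⁻¹ * b⁻¹) * b := by group
        _ = ca * (a * ca) * b := by rw [← hca, hcb]; group
        _ = (ca * ca) * (a * b) := by rw [C.cenU a haU ca hcaZ]; group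
        _ = a * b := by rw [C.sqZ ca hcaZ, one_mul]
    calc c * u * (a * b) = c * (u * (a * b) * u⁻¹) * u := by group
      _ = c * (a * b) * u := by rw [huv]
      _ = (c * (a * b) * c⁻¹) * (c * u) := by group
      _ = a * b * (c * u) := by rw [hcv]
  · set w := u * u with hwd
    have ha2 : a * a = w := by rw [ha, ← map_mul, C.pow_fix hw i]
    have hb2 : b * b = w := by rw [hb, ← map_mul, C.pow_fix hw j]
    show a * b = b * a
    have ea : a⁻¹ = w * a := by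
      rw [← C.inv_Z hw, ← ha2]; group
    have eb : b⁻¹ = w * b := by
      rw [← C.inv_Z hw, ← hb2]; group
    calc a * b = (a * b)⁻¹ := (inv_eq_of_mul_eq_one_right hv).symm
      _ = b⁻¹ * a⁻¹ := mul_inv_rev a b
      _ = w * (b * w) * a := by rw [ea, eb]; group
      _ = (w * w) * (b * a) := by rw [C.cenU b hbU w hw]; group
      _ = b * a := by rw [C.sqZ w hw, one_mul]

/-- If every element of `Z` fixed by `t²` is fixed by `t`, then `t` centralises `Z`. -/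
theorem fixed_of_sq (C : Closure σ M K L S) {t : G} (ht : t ∈ S)
    (h2 : ∀ z ∈ S ⊓ L, t * t * z = z * (t * t) → t * z = z * t) :
    ∀ z ∈ S ⊓ L, t * z = z * t := by
  have key : ∀ k : ℕ, ∀ z ∈ S ⊓ L, t ^ 2 ^ k * z = z * t ^ 2 ^ k → t * z = z * t := by
    intro k
    induction k with
    | zero => intro z _ h; simpa using h
    | succ k ih =>
      intro z hz hq2
      set q := t ^ 2 ^ k with hq
      rw [pow_succ, pow_mul, ← hq, pow_two] at hq2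
      have hqS : q ∈ S := _root_.pow_mem ht _
      have hzq := C.conjZ hqS hz
      have hzt := C.conjZ ht hz
      have hqt : q * t = t * q := by rw [hq, ← pow_succ, ← pow_succ']
      -- `w = q z q⁻¹ z` is fixed by `q`, hence by `t`
      set w := q * z * q⁻¹ * z with hw
      have hwZ : w ∈ S ⊓ L := mul_mem hzq hz
      have hqw : q * w = w * q := by
        have e : q * w * q⁻¹ = w := by
          calc q * w * q⁻¹ = (q * q * z) * (q * q)⁻¹ * (q * z * q⁻¹) := by rw [hw]; group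
            _ = (z * (q * q)) * (q * q)⁻¹ * (q * z * q⁻¹) := by rw [hq2]
            _ = z * (q * z * q⁻¹) := by group
            _ = w := by rw [hw, C.commZ hz hzq]
        calc q * w = (q * w * q⁻¹) * q := by group
          _ = w * q := by rw [e]
      have htw := ih w hwZ hqw
      -- so `z₁ = t z t⁻¹ z` is fixed by `q`, hence by `t`
      set z₁ := t * z * t⁻¹ * z with hz₁
      have hz₁Z : z₁ ∈ S ⊓ L := mul_mem hzt hz
      have hqz₁ : q * z₁ = z₁ * q := by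
        have e : q * z₁ * q⁻¹ = z₁ := by
          have hw' : q * z * q⁻¹ = w * z := by
            calc q * z * q⁻¹ = q * z * q⁻¹ * (z * z) := by rw [C.sqZ z hz, mul_one]
              _ = w * z := by rw [hw]; group
          calc q * z₁ * q⁻¹ = (q * t) * z * (q * t)⁻¹ * (q * z * q⁻¹) := by rw [hz₁]; group
            _ = (t * q) * z * (t * q)⁻¹ * (q * z * q⁻¹) := by rw [hqt]
            _ = t * (q * z * q⁻¹) * t⁻¹ * (q * z * q⁻¹) := by group
            _ = (t * w) * z * t⁻¹ * (w * z) := by rw [hw']; group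
            _ = w * (t * z * t⁻¹) * (w * z) := by rw [htw]; group
            _ = (t * z * t⁻¹) * (w * w) * z := by rw [C.commZ hwZ hzt]; group
            _ = z₁ := by rw [C.sqZ w hwZ, mul_one]
        calc q * z₁ = (q * z₁ * q⁻¹) * q := by group
          _ = z₁ * q := by rw [e]
      have htz₁ := ih z₁ hz₁Z hqz₁
      refine h2 z hz ?_
      have e : t * t * z * (t * t)⁻¹ = z := by
        calc t * t * z * (t * t)⁻¹ = (t * z₁) * t⁻¹ * (t * z * t⁻¹)⁻¹ := by rw [hz₁]; group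
          _ = z₁ * (t * z * t⁻¹)⁻¹ := by rw [htz₁]; group
          _ = t * z * t⁻¹ * (z * (t * z * t⁻¹)) := by rw [hz₁, C.inv_Z hzt]; group
          _ = (t * z * t⁻¹) * (t * z * t⁻¹) * z := by rw [C.commZ hz hzt]; group
          _ = z := by rw [C.sqZ _ hzt, one_mul]
      calc t * t * z = (t * t * z * (t * t)⁻¹) * (t * t) := by group
        _ = z * (t * t) := by rw [e]
  intro z hz
  obtain ⟨n, hn⟩ := C.pS ⟨t, ht⟩
  have hn' : t ^ 2 ^ n = 1 := by simpa using congrArg Subtype.val hn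
  exact key n z hz (by rw [hn', one_mul, mul_one])

/-- An element of `G` is bad if it lies in `S` and is moved there from `Z` from outside `M`. -/
def Bad (M L S : Subgroup G) (x : G) : Prop :=
  x ∈ S ∧ ∃ e ∈ S ⊓ L, e ≠ 1 ∧ ∃ g : G, g ∉ M ∧ g * e * g⁻¹ = x

/-- The main closure theorem. -/
theorem mem_of_conj [Finite G] (C : Closure σ M K L S) {e₀ : G} (he₀ : e₀ ∈ S ⊓ L)
    (he₀1 : e₀ ≠ 1) {g₀ : G} (hg₀ : g₀ * e₀ * g₀⁻¹ ∈ S) : g₀ ∈ M := by
  by_contra hg₀M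
  let f : G → ℕ := fun x => Nat.card ↥((S ⊓ L) ⊓ centralizer ({x} : Set G))
  have : Nonempty {x : G // Bad M L S x} := ⟨⟨_, hg₀, e₀, he₀, he₀1, g₀, hg₀M, rfl⟩⟩
  obtain ⟨⟨x, hxS, e1, he1, he11, g, hg, hgx⟩, hmax⟩ :=
    Finite.exists_max (fun x : {x : G // Bad M L S x} => f x.1)
  set P1 := (S ⊓ L) ⊓ centralizer ({x} : Set G) with hP1
  have hxx : x * x = 1 := by
    rw [← hgx]
    calc g * e1 * g⁻¹ * (g * e1 * g⁻¹) = g * (e1 * e1) * g⁻¹ := by group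
      _ = 1 := by rw [C.sqZ e1 he1]; group
  have hxi : x⁻¹ = x := inv_eq_of_mul_eq_one_right hxx
  -- a nontrivial element of `Z` commuting with `x`
  obtain ⟨e, heP, he⟩ : ∃ e ∈ P1, e ≠ 1 := by
    have h1 := C.conjZ hxS he1
    by_cases hw : x * e1 * x⁻¹ * e1 = 1
    · refine ⟨e1, ⟨he1, mem_centralizer_singleton_iff.mpr ?_⟩, he11⟩
      have e' : x * e1 * x⁻¹ = e1 := by
        rw [eq_inv_of_mul_eq_one_left hw, C.inv_Z he1]
      calc e1 * x = (x * e1 * x⁻¹) * x := by rw [e']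
        _ = x * e1 := by group
    · refine ⟨_, ⟨mul_mem h1 he1, mem_centralizer_singleton_iff.mpr ?_⟩, hw⟩
      rw [hxi] at h1 ⊢
      calc x * e1 * x * e1 * x = (x * e1 * x) * (e1 * x) := by group
        _ = (x * e1 * x) * ((x * x) * (e1 * x)) := by rw [hxx, one_mul]
        _ = (x * e1 * x) * x * (x * e1 * x) := by group
        _ = x * e1 * (x * x) * (x * e1 * x) := by group
        _ = x * (e1 * (x * e1 * x)) := by rw [hxx, mul_one, mul_assoc]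
        _ = x * (x * e1 * x * e1) := by rw [C.commZ he1 h1]
  have hex : e * x = x * e := mem_centralizer_singleton_iff.mp heP.2
  have hfix : ∀ h z : G, h * z = z * h → g⁻¹ * h * g * (g⁻¹ * z * g) =
      g⁻¹ * z * g * (g⁻¹ * h * g) := fun h z hhz => by
    calc g⁻¹ * h * g * (g⁻¹ * z * g) = g⁻¹ * (h * z) * g := by group
      _ = g⁻¹ * (z * h) * g := by rw [hhz]
      _ = _ := by group
  have hgxe : g⁻¹ * x * g = e1 := by rw [← hgx]; group
  have hy₀M : g⁻¹ * e * g ∈ M :=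
    C.hC e1 he1 he11 _ (by simpa [hgxe] using hfix e x hex)
  -- move it into `S` and find an element of order four
  have hp₀ : IsPGroup 2 (zpowers (g⁻¹ * e * g)) := by
    have h := isPGroup_zpowers_conj (isPGroup_zpowers_of_mem C.pS heP.1.1) g⁻¹
    rwa [inv_inv] at h
  obtain ⟨m, hm, hmc⟩ := C.syl (zpowers (g⁻¹ * e * g)) (zpowers_le.mpr hy₀M) hp₀
  set y := m * (g⁻¹ * e * g) * m⁻¹ with hy
  have hyS : y ∈ S := hmc _ (mem_zpowers _)
  obtain ⟨c, hc, hσc, u, hu, hyeq⟩ := C.decomp y hyS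
  have hyy : y * y = 1 := by
    calc y * y = (m * g⁻¹) * (e * e) * (m * g⁻¹)⁻¹ := by rw [hy]; group
      _ = 1 := by rw [C.sqZ e heP.1]; group
  have hyc : y = (m * g⁻¹) * e * (m * g⁻¹)⁻¹ := by rw [hy]; group
  have huL : u ∉ L := by
    intro h
    have hσy : σ y = y := by rw [hyeq, map_mul, hσc, C.fixZ u ⟨hu.1, h⟩]
    have h2 := C.hF e heP.1 he (m * g⁻¹) (by rw [← hyc]; exact hσy)
    exact hg (by simpa using inv_mem (mul_mem (inv_mem hm) h2))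
  obtain ⟨v, hv, hyv, hv2⟩ := C.exists_four hc hσc hu huL (hyeq ▸ hyy)
  rw [← hyeq] at hyv
  set w₀ := g * (m⁻¹ * v * m) * g⁻¹ with hw₀
  have hgw₀ : g⁻¹ * w₀ * g = m⁻¹ * v * m := by rw [hw₀]; group
  have hw₀M : w₀ ∈ M := by
    refine C.hC e heP.1 he _ ?_
    calc w₀ * e = g * m⁻¹ * (v * y) * m * g⁻¹ := by rw [hw₀, hy]; group
      _ = g * m⁻¹ * (y * v) * m * g⁻¹ := by rw [hyv]
      _ = e * w₀ := by rw [hw₀, hy]; group
  let H : Subgroup G := M ⊓ M.comap (MulAut.conj g⁻¹).toMonoidHom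
  have memH : ∀ h : G, h ∈ H ↔ h ∈ M ∧ g⁻¹ * h * g ∈ M := fun h => by
    simp [H]
  have hw₀H : w₀ ∈ H := (memH _).mpr ⟨hw₀M, by
    rw [hgw₀]; exact mul_mem (mul_mem (inv_mem hm) (C.hSM hv.1)) hm⟩
  obtain ⟨R, hRH, hR, hQR, hRc⟩ :=
    exists_sylow_conj H (S ⊓ H) inf_le_right (C.pS.to_le inf_le_left)
  have hw₀p : IsPGroup 2 (zpowers w₀) := by
    have e' : w₀ = (g * m⁻¹) * v * (g * m⁻¹)⁻¹ := by rw [hw₀]; group
    exact e' ▸ isPGroup_zpowers_conj (isPGroup_zpowers_of_mem C.pS hv.1) _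
  obtain ⟨h, hhH, ht₀⟩ := hRc w₀ hw₀H hw₀p
  set t₀ := h * w₀ * h⁻¹ with ht₀d
  have ht₀K : g⁻¹ * t₀ * g ∈ K := by
    have e' : g⁻¹ * t₀ * g =
        (g⁻¹ * h * g * m⁻¹) * v * (g⁻¹ * h * g * m⁻¹)⁻¹ := by rw [ht₀d, hw₀]; group
    rw [e']
    exact C.normK _ (mul_mem ((memH h).mp hhH).2 (inv_mem hm)) v hv.2
  have ht₀2 : t₀ * t₀ ≠ 1 := by
    intro h'
    apply hv2
    calc v * v = (h * g * m⁻¹)⁻¹ * (t₀ * t₀) * (h * g * m⁻¹) := by rw [ht₀d, hw₀]; group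
      _ = 1 := by rw [h']; group
  -- move everything into `S`
  obtain ⟨m₁, hm₁, hm₁c⟩ := C.syl R (hRH.trans inf_le_left) hR
  have hPR : ∀ z ∈ P1, z ∈ R := fun z hz => hQR ⟨hz.1.1, (memH z).mpr ⟨C.hSM hz.1.1,
    C.hC e1 he1 he11 _ (by simpa [hgxe] using hfix z x (mem_centralizer_singleton_iff.mp hz.2))⟩⟩
  have hxR : x ∈ R := hQR ⟨hxS, (memH x).mpr ⟨C.hSM hxS, by rw [hgxe]; exact C.hSM he1.1⟩⟩
  set g₁ := m₁ * g with hg₁d
  have hg₁ : g₁ ∉ M := fun h' => hg (by simpa [hg₁d] using mul_mem (inv_mem hm₁) h')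
  set x' := m₁ * x * m₁⁻¹ with hx'
  have hgx' : g₁ * e1 * g₁⁻¹ = x' := by rw [hg₁d, hx', ← hgx]; group
  set t := m₁ * t₀ * m₁⁻¹ with htd
  have htS : t ∈ S := hm₁c _ ht₀
  have htK : g₁⁻¹ * t * g₁ ∈ K := by
    have e' : g₁⁻¹ * t * g₁ = g⁻¹ * t₀ * g := by rw [hg₁d, htd]; group
    rw [e']; exact ht₀K
  set P1' := (S ⊓ L) ⊓ centralizer ({x'} : Set G) with hP1'
  have hle : Nat.card P1 ≤ Nat.card P1' := by
    refine Nat.card_le_card_of_injective (fun z : P1 => (⟨m₁ * z * m₁⁻¹,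
      ⟨hm₁c _ (hPR _ z.2), C.normL m₁ hm₁ _ z.2.1.2⟩, mem_centralizer_singleton_iff.mpr ?_⟩ :
        P1')) ?_
    · rw [hx']
      calc m₁ * z * m₁⁻¹ * (m₁ * x * m₁⁻¹) = m₁ * ((z : G) * x) * m₁⁻¹ := by group
        _ = m₁ * (x * z) * m₁⁻¹ := by rw [mem_centralizer_singleton_iff.mp z.2.2]
        _ = _ := by group
    · intro a b hab
      have := congrArg Subtype.val hab
      simpa using this
  -- adjust `g₁` so that `S ∩ g₁Mg₁⁻¹` is carried into `S`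
  let Q : Subgroup G := (S ⊓ M.comap (MulAut.conj g₁⁻¹).toMonoidHom).map
    (MulAut.conj g₁⁻¹).toMonoidHom
  obtain ⟨m₂, hm₂, hm₂c⟩ := C.syl Q (by
      rintro _ ⟨q, hq, rfl⟩
      exact hq.2) ((C.pS.to_le inf_le_left).map _)
  set g₂ := g₁ * m₂⁻¹ with hg₂d
  have hg₂ : g₂ ∉ M := fun h' => hg₁ (by simpa [hg₂d] using mul_mem h' hm₂)
  have hg₂c : ∀ a : G, g₂⁻¹ * a * g₂ = m₂ * (g₁⁻¹ * a * g₁) * m₂⁻¹ := fun a => by
    rw [hg₂d]; group
  have hadj : ∀ a ∈ S, g₂⁻¹ * a * g₂ ∈ M → g₂⁻¹ * a * g₂ ∈ S := by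
    intro a haS haM
    have haM' : g₁⁻¹ * a * g₁ ∈ M := by
      have h' := mul_mem (mul_mem (inv_mem hm₂) haM) hm₂
      rw [hg₂c] at h'
      simpa [mul_assoc] using h'
    rw [hg₂c]
    refine hm₂c _ ⟨a, ⟨haS, ?_⟩, by simp⟩
    simpa [MulAut.conj_apply] using haM'
  have htM : g₁⁻¹ * t * g₁ ∈ M := by
    have e' : g₁⁻¹ * t * g₁ = g⁻¹ * t₀ * g := by rw [hg₁d, htd]; group
    rw [e']; exact ((memH _).mp (hRH ht₀)).2
  have htU : g₂⁻¹ * t * g₂ ∈ S ⊓ K := by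
    refine ⟨hadj t htS (by rw [hg₂c]; exact mul_mem (mul_mem hm₂ htM) (inv_mem hm₂)), ?_⟩
    rw [hg₂c]; exact C.normK m₂ hm₂ _ htK
  have hzt : ∀ z ∈ P1', t * z = z * t := by
    intro z hz
    refine C.centralise hg₂ hadj hz.1 ?_ htS htU
    rw [hg₂c]
    refine mul_mem (mul_mem hm₂ (C.hC e1 he1 he11 _ ?_)) (inv_mem hm₂)
    have h' : z * x' = x' * z := mem_centralizer_singleton_iff.mp hz.2
    calc g₁⁻¹ * z * g₁ * e1 = g₁⁻¹ * (z * x') * g₁ := by rw [← hgx']; group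
      _ = g₁⁻¹ * (x' * z) * g₁ := by rw [h']
      _ = e1 * (g₁⁻¹ * z * g₁) := by rw [← hgx']; group
  set p := t * t with hpd
  have hp1 : p ≠ 1 := by
    intro h'
    apply ht₀2
    calc t₀ * t₀ = m₁⁻¹ * p * m₁ := by rw [hpd, htd]; group
      _ = 1 := by rw [h']; group
  set e₂ := g₂⁻¹ * p * g₂ with he₂d
  have he₂ : e₂ ∈ S ⊓ L := by
    have e' : e₂ = (g₂⁻¹ * t * g₂) * (g₂⁻¹ * t * g₂) := by rw [he₂d, hpd]; group
    rw [e']; exact ⟨mul_mem htU.1 htU.1, C.sqU _ htU⟩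
  have he₂1 : e₂ ≠ 1 := fun h' => hp1 (by
    calc p = g₂ * e₂ * g₂⁻¹ := by rw [he₂d]; group
      _ = 1 := by rw [h']; group)
  have hpe : g₂ * e₂ * g₂⁻¹ = p := by rw [he₂d]; group
  have hbad : Bad M L S p := ⟨mul_mem htS htS, e₂, he₂, he₂1, g₂, hg₂, hpe⟩
  have hsub : P1' ≤ (S ⊓ L) ⊓ centralizer ({p} : Set G) := fun z hz =>
    ⟨hz.1, mem_centralizer_singleton_iff.mpr (by
      rw [hpd, ← mul_assoc, ← hzt z hz, mul_assoc, ← hzt z hz, ← mul_assoc])⟩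
  have heq : (S ⊓ L) ⊓ centralizer ({p} : Set G) = P1' :=
    (eq_of_le_of_card_ge hsub ((hmax ⟨p, hbad⟩).trans hle)).symm
  have hall := C.fixed_of_sq htS fun z hz hzp =>
    hzt z (heq ▸ ⟨hz, mem_centralizer_singleton_iff.mpr hzp.symm⟩)
  obtain ⟨c', hc', hσc', u', hu', hteq⟩ := C.decomp t htS
  have hc'Z : ∀ z ∈ S ⊓ L, c' * z = z * c' := by
    intro z hz
    have h' := hall z hz
    rw [hteq, mul_assoc, C.cenU u' hu' z hz, ← mul_assoc, ← mul_assoc z] at h'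
    exact mul_right_cancel h'
  have hc'u := C.cent c' hc' hσc' hc'Z u' hu'
  have hσp : σ p = p := by
    have e' : p = (c' * c') * (u' * u') := by
      calc p = c' * (u' * c') * u' := by rw [hpd, hteq]; group
        _ = _ := by rw [← hc'u]; group
    rw [e', map_mul, map_mul, hσc', C.fixZ _ ⟨mul_mem hu'.1 hu'.1, C.sqU u' hu'⟩]
  exact hg₂ (C.hF e₂ he₂ he₂1 g₂ (by rw [hpe]; exact hσp))

/-- `Z = S ⊓ L` is strongly closed in `S`. -/
theorem strongly_closed [Finite G] (C : Closure σ M K L S) {e : G} (he : e ∈ S ⊓ L) {g : G}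
    (hg : g * e * g⁻¹ ∈ S) : g * e * g⁻¹ ∈ S ⊓ L := by
  by_cases he1 : e = 1
  · simp [he1]
  · exact ⟨hg, C.normL g (C.mem_of_conj he he1 hg) e he.2⟩

end Closure

end H83.Shult
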