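import Cfsg.Agent.H83.Shult.TCaseTools

/-!
The kernel `N` of the action of `G` on a minimal moved normal 2-subgroup modulo the centre: it
contains the displacements of the small invariant `p`-subgroups, and it is proper.
-/

set_option autoImplicit false
set_option linter.unusedSectionVars false
set_option linter.style.haveILetI false

open Subgroup

namespace H83.Shult.TCase

open H85.Shult (Inv disp fixed Rep Irred)
open H3.Shult (cm)

universe u v w

variable {G : Type u} [Group G] [Finite G] {σ : MulAut G} {r p : ℕ} {T₀ : Subgroup G}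

theorem map_center_mem {a : G} (ha : a ∈ center G) : σ a ∈ center G := by
  refine mem_center_iff.mpr fun g => ?_
  obtain ⟨g', rfl⟩ := σ.surjective g
  rw [← map_mul, ← map_mul, mem_center_iff.mp ha g']

/-- The elements acting trivially on the set `A` modulo the centre. -/
def cker (A : Set G) : Subgroup G where
  carrier := {g | ∀ t ∈ A, cm g t ∈ center G}
  one_mem' := fun t _ => by simp [cm]
  mul_mem' := fun {a b} ha hb t ht => by
    rw [cm_left, conj_self (hb t ht)]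
    exact mul_mem (hb t ht) (ha t ht)
  inv_mem' := fun {a} ha t ht => by
    have e : cm a⁻¹ t = a⁻¹ * (cm a t)⁻¹ * (a⁻¹)⁻¹ := by simp only [cm]; group
    rw [e, conj_self (inv_mem (ha t ht))]
    exact inv_mem (ha t ht)

/-- The elements of `T` whose commutators with the set `A` are central. -/
def rker (T : Subgroup G) (A : Set G) : Subgroup G where
  carrier := {t | t ∈ T ∧ ∀ g ∈ A, cm g t ∈ center G}
  one_mem' := ⟨one_mem _, fun g _ => by simp [cm]⟩
  mul_mem' := fun {a b} ha hb => ⟨mul_mem ha.1 hb.1, fun g hg => by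
    rw [cm_right, conj_self (hb.2 g hg)]
    exact mul_mem (ha.2 g hg) (hb.2 g hg)⟩
  inv_mem' := fun {a} ha => ⟨inv_mem ha.1, fun g hg => by
    have e : cm g a⁻¹ = a⁻¹ * (cm g a)⁻¹ * (a⁻¹)⁻¹ := by simp only [cm]; group
    rw [e, conj_self (inv_mem (ha.2 g hg))]
    exact inv_mem (ha.2 g hg)⟩

theorem cker_normal [hn : T₀.Normal] : (cker (T₀ : Set G)).Normal := by
  refine ⟨fun a ha g t ht => ?_⟩
  have ht' : g⁻¹ * t * g ∈ T₀ := by simpa using hn.conj_mem t ht g⁻¹
  have h := ha _ ht'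
  have e : cm (g * a * g⁻¹) t = g * cm a (g⁻¹ * t * g) * g⁻¹ := by simp only [cm]; group
  rw [e, conj_self h]
  exact h

theorem inv_cker (hinv : Inv σ T₀) : Inv σ (cker (T₀ : Set G)) := by
  intro a ha t ht
  obtain ⟨t', ht', rfl⟩ := H83.Shult.inv_symm hinv ht
  rw [← H3.Shult.map_cm]
  exact map_center_mem (ha t' ht')

theorem inv_rker {T A : Subgroup G} (hT : Inv σ T) (hA : Inv σ A) :
    Inv σ (rker T (A : Set G)) := by
  refine fun t ht => ⟨hT t ht.1, fun g hg => ?_⟩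
  obtain ⟨g', hg', rfl⟩ := H83.Shult.inv_symm hA hg
  rw [← H3.Shult.map_cm]
  exact map_center_mem (ht.2 g' hg')

variable {k : Type v} [Field k] [IsAlgClosed k] {V : Type w} [AddCommGroup V] [Module k V]
  [FiniteDimensional k V] [Nontrivial V] [Fact p.Prime] [CharP k p]
  {ρ : G →* Module.End k V} {T : Module.End k V}

omit [Finite G] in
theorem mem_of_two_pow {K : Subgroup G} (hp2 : p ≠ 2) {y : G} (hy : ∃ b, y ^ p ^ b = 1) {n : ℕ}
    (hn : y ^ 2 ^ n ∈ K) : y ∈ K := by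
  obtain ⟨b, hb⟩ := hy
  have hcp : (p ^ b).Coprime (2 ^ n) :=
    Nat.Coprime.pow _ _ ((Nat.coprime_primes Fact.out Nat.prime_two).mpr hp2)
  obtain ⟨u, v, huv⟩ := Nat.isCoprime_iff_coprime.mpr hcp
  have e : y = (y ^ p ^ b) ^ u * (y ^ 2 ^ n) ^ v := by
    rw [← zpow_natCast y, ← zpow_natCast y, ← zpow_mul, ← zpow_mul, ← zpow_add, mul_comm _ u,
      mul_comm _ v, huv, zpow_one]
  rw [e, hb, one_zpow, one_mul]
  exact zpow_mem hn v

/-- The displacements of a small invariant `p`-subgroup act trivially on `T₀`. -/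
theorem disp_le_cker (hp2 : p ≠ 2) (hsmall : ∀ H : Subgroup G, Inv σ H → H ≠ ⊤ →
      ∃ K : Subgroup G, K ≤ H ∧ IsPGroup p K ∧ Inv σ K ∧ H ≤ normalizer (K : Set G) ∧
        ∀ x ∈ disp σ H, ∃ n : ℕ, x ^ 2 ^ n ∈ K)
    (M : MinT σ T₀) {Y : Subgroup G} (hY : Inv σ Y) (hYp : IsPGroup p Y) (hne : T₀ ⊔ Y ≠ ⊤) :
    disp σ Y ≤ cker (T₀ : Set G) := by
  haveI : Fact (Nat.Prime 2) := ⟨Nat.prime_two⟩
  have hn := M.normal
  obtain ⟨K, -, hKp, -, hKn, hpow⟩ := hsmall (T₀ ⊔ Y) (H12.RComp.Inv.sup M.inv hY) hne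
  have hdisj := IsPGroup.disjoint_of_ne 2 p (Ne.symm hp2) T₀ K M.two hKp
  intro y hy
  obtain ⟨n, hn'⟩ := hpow y (H85.Shult.disp_mono le_sup_right hy)
  have hyY : y ∈ Y := H85.Shult.disp_le hY hy
  have hyK : y ∈ K := mem_of_two_pow hp2 (by
    obtain ⟨b, hb⟩ := hYp ⟨y, hyY⟩
    exact ⟨b, congrArg Subtype.val hb⟩) hn'
  intro t ht
  have h1 : cm y t ∈ T₀ := mul_mem (hn.conj_mem t ht y) (inv_mem ht)
  have h2 : cm y t ∈ K := by
    have e : cm y t = y * (t * y⁻¹ * t⁻¹) := by simp only [cm]; group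
    rw [e]
    exact mul_mem hyK ((mem_normalizer_iff.mp (hKn (mem_sup_left ht)) _).mp (inv_mem hyK))
  rw [disjoint_iff_inf_le] at hdisj
  rw [mem_bot.mp (hdisj ⟨h1, h2⟩)]
  exact one_mem _

variable {m : ℕ} {z : G}

/-- A noncentral element of `Q`. -/
theorem QData.exists_noncentral (d : QData σ r m T₀ z) : ∃ a ∈ disp σ T₀, a ∉ center G := by
  obtain ⟨a, ha, b, hb, hab⟩ := d.nonab
  exact ⟨a, ha, fun h => hab (mem_center_iff.mp h b).symm⟩

/-- A normal invariant subgroup of `T₀` containing `Q` is `T₀`. -/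
theorem QData.eq_T₀ (d : QData σ r m T₀ z) (hD : disp σ ⊤ = ⊤) (M : MinT σ T₀) {Y : Subgroup G}
    (hY : Y.Normal) (hinv : Inv σ Y) (hle : Y ≤ T₀) (hQ : disp σ T₀ ≤ Y) : Y = T₀ := by
  by_contra hne
  obtain ⟨a, ha, hac⟩ := d.exists_noncentral
  exact hac (le_center_of_lt hD M hY hinv hle hne (hQ ha))

/-- If everything centralises `Q` modulo the centre, `N` is everything. -/
theorem cker_top_of_disp (hD : disp σ ⊤ = ⊤) (M : MinT σ T₀) (d : QData σ r m T₀ z)
    (h : cker (disp σ T₀ : Set G) = ⊤) : cker (T₀ : Set G) = ⊤ := by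
  have hn := M.normal
  have hY : (rker T₀ ((⊤ : Subgroup G) : Set G)).Normal := by
    refine ⟨fun t ht g => ⟨hn.conj_mem t ht.1 g, fun a _ => ?_⟩⟩
    have hc := ht.2 (g⁻¹ * a * g) (mem_top _)
    have e : cm a (g * t * g⁻¹) = g * cm (g⁻¹ * a * g) t * g⁻¹ := by simp only [cm]; group
    rw [e, conj_self hc]
    exact hc
  have he := d.eq_T₀ hD M hY (inv_rker M.inv (H85.Shult.inv_top σ)) (fun t ht => ht.1)
    fun q hq => ⟨H85.Shult.disp_le M.inv hq, fun g _ => (h.ge (mem_top g) : g ∈ cker _) q hq⟩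
  rw [eq_top_iff]
  intro g _ t ht
  exact (he.ge ht).2 g (mem_top g)

/-- `N` is proper. -/
theorem cker_ne_top (R : Rep σ r ρ T) (hp2 : p ≠ 2) (hI : Irred ρ T) (hD : disp σ ⊤ = ⊤)
    (hnot : ¬ IsPGroup 2 G) (hsmall : ∀ H : Subgroup G, Inv σ H → H ≠ ⊤ →
      ∃ K : Subgroup G, K ≤ H ∧ IsPGroup p K ∧ Inv σ K ∧ H ≤ normalizer (K : Set G) ∧
        ∀ x ∈ disp σ H, ∃ n : ℕ, x ^ 2 ^ n ∈ K)
    (M : MinT σ T₀) (d : QData σ r m T₀ z) : cker (T₀ : Set G) ≠ ⊤ := by
  classical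
  haveI : Fact (Nat.Prime 2) := ⟨Nat.prime_two⟩
  intro htop
  have hn := M.normal
  have hc : ∀ (g t : G), t ∈ T₀ → cm g t ∈ center G := fun g t ht =>
    (htop.ge (mem_top g) : g ∈ cker _) t ht
  set N₀ := centralizer (T₀ : Set G) with hN₀
  have hmemN : ∀ g : G, (∀ t ∈ T₀, cm g t = 1) → g ∈ N₀ := fun g h =>
    mem_centralizer_iff.mpr fun t ht => (H3.Shult.cm_eq_one_iff.mp (h t ht)).symm
  have hleft : ∀ (a b t : G), t ∈ T₀ → cm (a * b) t = cm b t * cm a t := fun a b t ht => by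
    rw [cm_left, conj_self (hc b t ht)]
  have hinvl : ∀ (a t : G), t ∈ T₀ → cm a⁻¹ t = (cm a t)⁻¹ := fun a t ht => by
    refine eq_inv_of_mul_eq_one_right ?_
    rw [← hleft a⁻¹ a t ht, inv_mul_cancel]
    simp [cm]
  have hsqN : ∀ g : G, g * g ∈ N₀ := by
    refine fun g => hmemN _ fun t ht => ?_
    have h1 : cm g (t * t) = 1 := cm_center (sq_center hD M ht)
    rw [cm_right, conj_self (hc g t ht)] at h1
    rw [hleft g g t ht]
    exact h1
  have hcomN : ∀ a b : G, a * b * a⁻¹ * b⁻¹ ∈ N₀ := by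
    refine fun a b => hmemN _ fun t ht => ?_
    rw [hleft _ _ t ht, hleft _ _ t ht, hleft _ _ t ht, hinvl a t ht, hinvl b t ht]
    have h1 := mem_center_iff.mp (inv_mem (hc a t ht)) (cm b t)
    calc (cm b t)⁻¹ * ((cm a t)⁻¹ * (cm b t * cm a t))
        = (cm b t)⁻¹ * ((cm a t)⁻¹ * cm b t) * cm a t := by group
      _ = 1 := by rw [← h1]; group
  have hN₀n : N₀.Normal := Subgroup.normal_centralizer
  have hN₀i : Inv σ N₀ := H12.RComp.Inv.centralizer M.inv
  by_cases hfix : ∀ x ∈ N₀, σ x = x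
  · -- `G` is a central extension of a 2-group
    have hle := fixed_normal_central hD hN₀n hfix
    have hq : IsPGroup 2 (G ⧸ center G) := by
      intro y
      obtain ⟨g, rfl⟩ := QuotientGroup.mk_surjective y
      refine ⟨1, ?_⟩
      rw [← QuotientGroup.mk_pow, QuotientGroup.eq_one_iff, pow_one, pow_two]
      exact hle (hsqN g)
    have hnil : Group.IsNilpotent G := Group.of_quotient_center_nilpotent hq.isNilpotent
    obtain ⟨S⟩ : Nonempty (Sylow 2 G) := inferInstance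
    have hSn : (S : Subgroup G).Normal :=
      S.normal_of_normalizerCondition Group.normalizerCondition_of_isNilpotent
    refine hnot fun x => ?_
    have hS : disp σ ⊤ ≤ (S : Subgroup G) := by
      rw [disp, closure_le]
      rintro _ ⟨g, -, rfl⟩
      set a := σ g * g⁻¹ with ha
      have hg2 : σ (g * g) = g * g := hfix _ (hsqN g)
      have hcen : cm g⁻¹ (σ g) ∈ center G := hle (hcomN _ _)
      have h1 : a * a = cm g⁻¹ (σ g) := by
        calc a * a = σ g * (cm g⁻¹ (σ g) * σ g) * (g * g)⁻¹ := by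
              simp only [ha, cm]; group
          _ = cm g⁻¹ (σ g) * (σ g * σ g) * (g * g)⁻¹ := by
              rw [← mul_assoc (σ g), mem_center_iff.mp hcen (σ g)]; group
          _ = cm g⁻¹ (σ g) := by rw [← map_mul, hg2, mul_inv_cancel_right]
      have h2 : (a * a) * (a * a) = 1 := by
        rw [h1]
        have h3 : cm (g⁻¹ * g⁻¹) (σ g) = 1 := by
          refine H3.Shult.cm_eq_one_iff.mpr ?_
          have h4 := hle (hsqN g⁻¹)
          exact (mem_center_iff.mp h4 (σ g)).symm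
        rw [cm_left, conj_self hcen] at h3
        exact h3
      have hzp : IsPGroup 2 (zpowers a) := by
        intro y
        obtain ⟨i, hi⟩ := mem_zpowers_iff.mp y.2
        refine ⟨2, Subtype.ext ?_⟩
        rw [Subgroup.coe_pow, ← hi, ← zpow_natCast, ← zpow_mul, mul_comm, zpow_mul, zpow_natCast,
          show a ^ 2 ^ 2 = 1 by rw [show (2 : ℕ) ^ 2 = 2 * 2 from rfl, pow_mul, pow_two, pow_two, h2], one_zpow]
        rfl
      obtain ⟨P, hP⟩ := hzp.exists_le_sylow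
      have := Sylow.unique_of_normal S hSn
      exact (Subsingleton.elim P S) ▸ hP (mem_zpowers a)
    obtain ⟨j, hj⟩ := S.2 ⟨x, hS (hD.ge (mem_top x))⟩
    exact ⟨j, congrArg Subtype.val hj⟩
  push Not at hfix
  -- otherwise there is a second moved 2-subgroup, centralising `T₀`
  have hN₀top : N₀ ≠ ⊤ := by
    intro h
    obtain ⟨a, ha, b, hb, hab⟩ := d.nonab
    exact hab (mem_centralizer_iff.mp (h.ge (mem_top b)) a (H85.Shult.disp_le M.inv ha))
  obtain ⟨K, hKle, hKp, hKi, hKn, hpow⟩ := hsmall N₀ hN₀i hN₀top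
  have hKbot : K = ⊥ := by
    have := hN₀n
    have := H1.pCore_normal' p G
    have := H1.pCore_characteristic p G
    have hKN : (K.subgroupOf N₀).Normal := (normal_subgroupOf_iff_le_normalizer hKle).mpr hKn
    have h1 : K ≤ Cfsg.pCore p G := by
      refine le_trans ?_ ((H1.pCore_subgroup_map_eq p N₀).le.trans inf_le_left)
      intro x hx
      exact ⟨⟨x, hKle hx⟩, H1.le_pCore (N := K.subgroupOf N₀)
        (hKp.comap_of_injective N₀.subtype N₀.subtype_injective)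
        (mem_subgroupOf.mpr hx), rfl⟩
    exact le_bot_iff.mp (h1.trans (R.normal_p_bot hI _ (H1.isPGroup_pCore p G)
      (H12.RComp.Inv.of_characteristic σ _)).le)
  have hD2 : IsPGroup 2 (disp σ N₀) := fun x => by
    obtain ⟨n, hn'⟩ := hpow x x.2
    rw [hKbot, mem_bot] at hn'
    exact ⟨n, Subtype.ext (by simpa using hn')⟩
  set M₀ := Cfsg.pCore 2 G ⊓ N₀ with hM₀
  have hM₀n : M₀.Normal := by
    have := H1.pCore_normal' 2 G
    exact Subgroup.normal_inf_normal _ _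
  have hM₀i : Inv σ M₀ := by
    have := H1.pCore_characteristic 2 G
    exact H12.RComp.Inv.inf (H12.RComp.Inv.of_characteristic σ _) hN₀i
  have hdM : disp σ N₀ ≤ M₀ := by
    have := hN₀n
    have hKN : ((disp σ N₀).subgroupOf N₀).Normal := (normal_subgroupOf_iff_le_normalizer
      (H85.Shult.disp_le hN₀i)).mpr H85.Shult.le_normalizer_disp
    rw [hM₀, ← H1.pCore_subgroup_map_eq]
    intro x hx
    exact ⟨⟨x, H85.Shult.disp_le hN₀i hx⟩, H1.le_pCore (N := (disp σ N₀).subgroupOf N₀)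
      (hD2.comap_of_injective N₀.subtype N₀.subtype_injective) (mem_subgroupOf.mpr hx), rfl⟩
  have hM₀mov : ∃ x ∈ M₀, σ x ≠ x := by
    by_contra h
    push Not at h
    obtain ⟨x, hx, hxne⟩ := hfix
    have hy := H85.Shult.subset_disp (σ := σ) hx
    have hbot : disp σ (disp σ N₀) = ⊥ := by
      rw [disp, eq_bot_iff, closure_le]
      rintro _ ⟨y, hy', rfl⟩
      simp [h y (hdM hy')]
    rw [H85.Shult.disp_disp R.hr R.hσ R.hcop hN₀i] at hbot
    rw [hbot, mem_bot, mul_inv_eq_one] at hy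
    exact hxne hy
  obtain ⟨T₁, hT₁, M₁⟩ := exists_minT hM₀n
    ((H1.isPGroup_pCore 2 G).to_le inf_le_left) hM₀i hM₀mov
  obtain ⟨m₁, z₁, d₁⟩ := exists_qdata R hp2 hI hD M₁
  have hm : m₁ = m := by
    have h := d₁.hr.symm.trans d.hr
    exact Nat.pow_right_injective le_rfl (Nat.add_right_cancel h)
  subst hm
  have hz : z₁ = z :=
    neg_unique R hI d₁.z_center d₁.z_mem.2 d₁.z_sq d₁.z_ne d.z_center d.z_mem.2 d.z_sq d.z_ne
  subst hz
  set Q := disp σ T₀ with hQ
  set Q₁ := disp σ T₁ with hQ₁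
  have hcomm : ∀ a ∈ Q₁, ∀ b ∈ Q, a * b = b * a := fun a ha b hb =>
    (mem_centralizer_iff.mp (inf_le_right (a := Cfsg.pCore 2 G)
      (hT₁ (H85.Shult.disp_le M₁.inv ha))) b (H85.Shult.disp_le M.inv hb)).symm
  set Y := Q ⊔ Q₁ with hYdef
  have hYi : Inv σ Y :=
    H12.RComp.Inv.sup (H85.Shult.inv_disp M.inv) (H85.Shult.inv_disp M₁.inv)
  have hY2 : IsPGroup 2 Y := by
    have := M₁.normal
    exact (M.two.to_sup_of_normal_left M₁.two).to_le
      (sup_le_sup (H85.Shult.disp_le M.inv) (H85.Shult.disp_le M₁.inv))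
  have hgen : disp σ Y = Y := by
    refine le_antisymm (H85.Shult.disp_le hYi) (sup_le ?_ ?_)
    · calc Q = disp σ Q := (H85.Shult.disp_disp R.hr R.hσ R.hcop M.inv).symm
        _ ≤ disp σ Y := H85.Shult.disp_mono le_sup_left
    · calc Q₁ = disp σ Q₁ := (H85.Shult.disp_disp R.hr R.hσ R.hcop M₁.inv).symm
        _ ≤ disp σ Y := H85.Shult.disp_mono le_sup_right
  obtain ⟨-, -, hsq, hcom, hcmm, hsqZ⟩ := R.special (p := p) hp2 hY2 hYi hgen
  set Zy := Y ⊓ fixed σ with hZy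
  have hF : H3.Shult.Form σ r m₁ Y Zy :=
    { hr := R.hr
      hrm := d.hr
      m_pos := d.form.m_pos
      hσ := R.hσ
      hcop := R.hcop
      pU := hY2
      invU := hYi
      defZ := fun u => Iff.rfl
      comU := fun u hu v hv =>
        ⟨(mul_mem (mul_mem (mul_mem hu hv) (inv_mem hu)) (inv_mem hv) : _ ∈ Y), hcom u hu v hv⟩
      cenU := fun u hu z hz => hcmm u hu z hz.1 hz.2
      sqU := fun u hu => ⟨mul_mem hu hu, hsq u hu⟩
      sqZ := fun z hz => hsqZ z hz.1 hz.2 }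
  obtain ⟨Z₁, R₀, hle, hzn, hrel, -, hR₀, hidx⟩ :=
    R.blocks (p := p) hp2 hY2 hYi hgen (Z := Zy) (fun u => Iff.rfl)
      (z := z₁) ⟨mem_sup_left d.z_mem.1, d.z_mem.2⟩ d.z_ne
  have hav : ∀ w ∈ Z₁, w ∈ center G → w = 1 := fun w hw hwc => by
    by_contra hw1
    have := neg_unique R hI hwc (hle hw).2 (hsqZ w (hle hw).1 (hle hw).2) hw1 d.z_center
      d.z_mem.2 d.z_sq d.z_ne
    exact hzn (this ▸ hw)
  have hB : H3.Shult.Block m₁ Y Zy Z₁ R₀ :=
    { le := hle
      avoid := hav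
      rel := hrel
      rad := hR₀
      idx := by rw [hidx, d.hr, Nat.add_sub_cancel] }
  have hcentral : ∀ {T' : Subgroup G} {m' : ℕ}, QData σ r m' T' z₁ → disp σ T' ≤ Y →
      ∀ a ∈ disp σ T', ∀ b ∈ disp σ T', cm a b ∈ Z₁ → cm a b = 1 := by
    intro T' m' d' hle' a ha b hb hab
    rcases d'.fix_cases _ (mul_mem (mul_mem (mul_mem ha hb) (inv_mem ha)) (inv_mem hb))
      (hcom a (hle' ha) b (hle' hb)) with h | h
    · exact h
    · exact absurd (h ▸ hab) hzn
  obtain ⟨u, huQ, huR⟩ : ∃ u ∈ Q, u ∉ R₀ := by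
    by_contra h
    push Not at h
    obtain ⟨a, ha, b, hb, hab⟩ := d.nonab
    exact hab (H3.Shult.cm_eq_one_iff.mp (hcentral d le_sup_left a ha b hb
      (((hR₀ a).mp (h a ha)).2 b (mem_sup_left hb))))
  have hYle : Y ≤ Q ⊔ R₀ := hB.le_of_moved hF
    (H12.RComp.Inv.sup (H85.Shult.inv_disp M.inv) (hB.invR hF)) le_sup_right
    (mem_sup_left huQ) (mem_sup_left huQ) huR
  let A₁ : Subgroup G :=
    { carrier := {y | y ∈ Y ∧ ∀ b ∈ Q₁, cm y b ∈ Z₁}
      one_mem' := ⟨one_mem _, fun b _ => by simp [cm]⟩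
      mul_mem' := fun {a a'} ha ha' => ⟨mul_mem ha.1 ha'.1, fun b hb => by
        rw [hF.cm_left ha.1 ha'.1 (mem_sup_right hb)]
        exact mul_mem (ha.2 b hb) (ha'.2 b hb)⟩
      inv_mem' := fun {a} ha => ⟨inv_mem ha.1, fun b hb => by
        rw [hF.cm_inv_left ha.1 (mem_sup_right hb)]
        exact ha.2 b hb⟩ }
  have hA : Y ≤ A₁ := hYle.trans (sup_le
    (fun q hq => ⟨mem_sup_left hq, fun b hb => by
      rw [H3.Shult.cm_eq_one_iff.mpr (hcomm b hb q hq).symm]; exact one_mem _⟩)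
    (fun q hq => ⟨hB.R_le hq, fun b hb => ((hR₀ q).mp hq).2 b (mem_sup_right hb)⟩))
  obtain ⟨a, ha, b, hb, hab⟩ := d₁.nonab
  exact hab (H3.Shult.cm_eq_one_iff.mp (hcentral d₁ le_sup_right a ha b hb
    ((hA (mem_sup_right ha)).2 b hb)))

end H83.Shult.TCase
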