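import Cfsg.Agent.H83.Shult.BigAdapterTools
import Cfsg.Agent.H83.Shult.TCaseKer
import Cfsg.Agent.H41.Shult.Big
import Cfsg.Agent.H12.Shult.Core
import Cfsg.Agent.H12.Shult.Single
import Cfsg.Agent.H3.Shult.Blocks

/-!
The minimal configuration of Shult's theorem read modulo the centre is an instance of the
configuration with fixed points outside the top subgroup, when `Z` meets the centre trivially or all
blocks have one radical; hence the fixed points of `σ` lie in the top subgroup.
-/

set_option autoImplicit false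
set_option linter.unusedSectionVars false
set_option linter.unusedVariables false
set_option linter.style.haveILetI false

open Subgroup
open scoped commutatorElement

namespace H83.Shult

open H85.Shult (Inv disp fixed Cfg Top)
open H3.Shult (cm Block)
open H12.RComp (quot quot_mk)

variable {G : Type*} [Group G] [Finite G] {σ : MulAut G} {r m p : ℕ} {S U Z H₀ : Subgroup G}

/-- Either `Z` meets the centre trivially or all blocks have the same radical. -/
def SingleCase (m : ℕ) (U Z : Subgroup G) : Prop :=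
  (∀ w, w ∈ Z → w ∈ center G → w = 1) ∨
    ∀ Z₁ R₁ Z₂ R₂ : Subgroup G, Block m U Z Z₁ R₁ → Block m U Z Z₂ R₂ → R₁ = R₂

namespace Adapter

theorem radical_eq (C : Cfg σ r m p S U Z)
    (h : ∀ Z₁ R₁ Z₂ R₂ : Subgroup G, Block m U Z Z₁ R₁ → Block m U Z Z₂ R₂ → R₁ = R₂)
    {Z₁ R₀ : Subgroup G} (B : Block m U Z Z₁ R₀) : R₀ = Z :=
  le_antisymm (fun u hu => H3.Shult.mem_Z_of_forall C (B.R_le hu) fun Z₂ R₂ B' =>
    h _ _ _ _ B B' ▸ hu) (B.Z_le (H3.Shult.form_of_cfg C))

/-- `Z ≤ [U, U]`. -/
theorem Z_le_commutator (C : Cfg σ r m p S U Z) : Z ≤ ⁅U, U⁆ := by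
  set θ := H12.RComp.restrict σ U C.invU with hθ
  let φ : U →* Abelianization U :=
    { toFun := fun a => Abelianization.of (θ a * a⁻¹)
      map_one' := by simp
      map_mul' := fun a b => by
        simp only [map_mul, map_inv, mul_inv_rev]
        rw [mul_comm (Abelianization.of b)⁻¹, mul_mul_mul_comm] }
  have htop : ∀ b : U, b ∈ (φ.range).comap Abelianization.of := by
    intro b
    have hle : disp σ U ≤ ((φ.range).comap Abelianization.of).map U.subtype := by
      rw [disp, closure_le]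
      rintro _ ⟨a, ha, rfl⟩
      exact ⟨θ ⟨a, ha⟩ * (⟨a, ha⟩ : U)⁻¹, ⟨⟨a, ha⟩, rfl⟩, rfl⟩
    obtain ⟨a, ha, hab⟩ := hle ((H12.Shult.disp_U C).ge b.2)
    rwa [show b = a from Subtype.ext hab.symm]
  have hs : Function.Surjective (Abelianization.lift φ) := by
    intro x
    obtain ⟨b, rfl⟩ := QuotientGroup.mk_surjective x
    obtain ⟨a, ha⟩ := htop b
    exact ⟨Abelianization.of a, (Abelianization.lift_apply_of φ a).trans ha⟩
  intro z hz
  have hzU := C.Z_le_U hz
  rw [← map_subtype_commutator]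
  refine ⟨⟨z, hzU⟩, ?_, rfl⟩
  rw [SetLike.mem_coe, ← Abelianization.ker_of]
  refine (Finite.injective_iff_surjective.mpr hs) ?_
  rw [map_one, Abelianization.lift_apply_of]
  show Abelianization.of (θ ⟨z, hzU⟩ * (⟨z, hzU⟩ : U)⁻¹) = 1
  rw [show θ ⟨z, hzU⟩ = ⟨z, hzU⟩ from Subtype.ext (C.fixZ hz), mul_inv_cancel, map_one]

/-- The orbit of an element outside `Z` does not commute modulo the centre. -/
theorem exists_not_central (C : Cfg σ r m p S U Z) (h4 : 4 ≤ (Z ⊓ center G).relIndex Z)
    (hA : SingleCase m U Z) {u : G} (hu : u ∈ U) (huZ : u ∉ Z) :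
    ∃ i j : ℕ, cm ((σ ^ i) u) ((σ ^ j) u) ∉ center G := by
  by_contra h
  push Not at h
  have F := H3.Shult.form_of_cfg C
  set X := closure (Set.range fun i : ℕ => (σ ^ i) u) with hX
  have hXU : X ≤ U := by
    rw [hX, closure_le]; rintro _ ⟨i, rfl⟩; exact F.inv_pow hu i
  have hXi : ∀ x ∈ X, σ x ∈ X := by
    intro x hx
    have hle : X.map σ.toMonoidHom ≤ X := by
      rw [hX, MonoidHom.map_closure, closure_le]
      rintro _ ⟨_, ⟨i, rfl⟩, rfl⟩
      refine subset_closure ⟨i + 1, ?_⟩
      show (σ ^ (i + 1)) u = σ ((σ ^ i) u)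
      rw [pow_succ', MulAut.mul_apply]
    exact hle ⟨x, hx, rfl⟩
  have huX : u ∈ X := subset_closure ⟨0, by simp⟩
  have h1 : X ≤ TCase.cker (Set.range fun i : ℕ => (σ ^ i) u) := by
    rw [hX, closure_le]
    rintro _ ⟨i, rfl⟩ _ ⟨j, rfl⟩
    exact h i j
  have hXX : ∀ a ∈ X, ∀ b ∈ X, cm a b ∈ center G := by
    intro a ha b hb
    have hle : X ≤ TCase.rker ⊤ ({a} : Set G) := by
      rw [hX, closure_le]
      rintro _ ⟨j, rfl⟩
      refine ⟨mem_top _, fun g hg => ?_⟩
      obtain rfl : g = a := hg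
      exact h1 ha _ ⟨j, rfl⟩
    exact (hle hb).2 a rfl
  rcases hA with hA | hA
  · exact huZ (H3.Shult.mem_Z_of_forall C hu fun Z₁ R₀ B =>
      B.sing F hXi hXU (fun a ha b hb => by
        rw [hA _ (F.comU a (hXU ha) b (hXU hb)) (hXX a ha b hb)]
        exact one_mem _) huX)
  · obtain ⟨Z₁, R₀, B, huR⟩ := H3.Shult.exists_block C hu huZ
    have hR := radical_eq C hA B
    have hUle : U ≤ X ⊔ Z := B.le_of_moved F
      (H12.Shult.inv_sup (σ := σ) hXi C.invZ) (hR ▸ le_sup_right) hu (mem_sup_left huX) huR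
    have hUU : ∀ a ∈ U, ∀ b ∈ U, cm a b ∈ center G := by
      have hax : ∀ a ∈ U, ∀ x ∈ X, cm a x ∈ center G := by
        have hle : U ≤ TCase.cker (X : Set G) := hUle.trans (sup_le
          (fun a ha x hx => hXX a ha x hx)
          (fun z hz x hx => by rw [F.cm_of_memZ hz (hXU hx)]; exact one_mem _))
        exact fun a ha x hx => hle ha x hx
      intro a ha b hb
      have hle : U ≤ TCase.rker ⊤ ({a} : Set G) := hUle.trans (sup_le
        (fun x hx => ⟨mem_top _, fun g hg => by obtain rfl : g = a := hg; exact hax g ha x hx⟩)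
        (fun z hz => ⟨mem_top _, fun g hg => by
          obtain rfl : g = a := hg
          rw [H3.Shult.cm_eq_one_iff.mpr (C.cenU g ha z hz)]; exact one_mem _⟩))
      exact (hle hb).2 a rfl
    have hZc : Z ≤ center G := (Z_le_commutator C).trans (commutator_le.mpr hUU)
    rw [inf_eq_left.mpr hZc, relIndex_self] at h4
    omega

/-- The index of `H₀` is divisible by `p`. -/
theorem dvd_index (C : Cfg σ r m p S U Z) (T : Top σ U Z H₀) : p ∣ H₀.index := by
  by_contra hp
  have hSH : S ≤ H₀ := C.S_le_normU.trans T.normU_le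
  have hdvd : H₀.index ∣ H₀.relIndex (fixed σ) := by
    rw [Nat.dvd_iff_prime_pow_dvd_dvd]
    intro q j hq hqj
    rcases Nat.eq_zero_or_pos j with rfl | hj
    · simp
    have hqn : q ∣ H₀.index := (dvd_pow_self q hj.ne').trans hqj
    have hq2 : q ≠ 2 := fun h => C.indexS ((h ▸ hqn).trans (index_dvd_of_le hSH))
    have hqp : q ≠ p := fun h => hp (h ▸ hqn)
    haveI : Fact q.Prime := ⟨hq⟩
    haveI : Fact r.Prime := ⟨C.hr⟩
    obtain ⟨Q, hQ⟩ := Cfsg.Agent.H29.exists_invariant_sylow C.hσ C.hcop q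
    have hQf : (Q : Subgroup G) ≤ fixed σ := fun x hx =>
      C.odd_fixed q hq hq2 hqp Q Q.2 hQ x hx
    have h1 : Nat.card (Q : Subgroup G) ∣ Nat.card H₀ * H₀.relIndex (fixed σ) := by
      refine (card_dvd_of_le hQf).trans ?_
      rw [← card_mul_index (H₀.subgroupOf (fixed σ))]
      refine Nat.mul_dvd_mul_right ?_ _
      rw [← card_map_of_injective (fixed σ).subtype_injective]
      exact card_dvd_of_le (by rintro _ ⟨x, hx, rfl⟩; exact mem_subgroupOf.mp hx)
    have h2 : H₀.index ∣ (Q : Subgroup G).index * H₀.relIndex (fixed σ) := by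
      have h3 := Nat.mul_dvd_mul_right h1 H₀.index
      rw [mul_comm (Nat.card H₀), mul_assoc (H₀.relIndex (fixed σ)), card_mul_index,
        ← card_mul_index (Q : Subgroup G), mul_left_comm, mul_comm (H₀.relIndex (fixed σ))] at h3
      exact (Nat.mul_dvd_mul_iff_left Nat.card_pos).mp h3
    exact (Nat.Coprime.pow_left j ((hq.coprime_iff_not_dvd).mpr Q.not_dvd_index)).dvd_of_dvd_mul_left
      (hqj.trans h2)
  let f : (fixed σ ⧸ H₀.subgroupOf (fixed σ)) → G ⧸ H₀ :=
    Quotient.map' (fun x : fixed σ => (x : G)) fun a b hab => by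
      rw [QuotientGroup.leftRel_apply] at hab ⊢
      exact mem_subgroupOf.mp hab
  have hinj : Function.Injective f := by
    intro a b hab
    induction a using QuotientGroup.induction_on with
    | H a =>
      induction b using QuotientGroup.induction_on with
      | H b => exact QuotientGroup.eq.mpr (mem_subgroupOf.mpr (QuotientGroup.eq.mp hab))
  have hbij : Function.Bijective f :=
    hinj.bijective_of_nat_card_le (Nat.le_of_dvd (Nat.pos_of_ne_zero index_ne_zero_of_finite) hdvd)
  refine T.ne_top (top_le_iff.mp ?_)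
  rw [← C.gen, disp, closure_le]
  rintro _ ⟨g, -, rfl⟩
  obtain ⟨x, hx⟩ := hbij.2 ((g⁻¹ : G) : G ⧸ H₀)
  induction x using QuotientGroup.induction_on with
  | H c =>
    have hk : (c : G)⁻¹ * g⁻¹ ∈ H₀ := QuotientGroup.eq.mp hx
    have hσk : σ ((c : G)⁻¹ * g⁻¹) ∈ H₀ := T.inv _ hk
    rw [map_mul, map_inv, (show σ (c : G) = c from c.2)] at hσk
    have := mul_mem (inv_mem hσk) hk
    show σ g * g⁻¹ ∈ H₀
    simpa [mul_assoc] using this

end Adapter

open Adapter in
/-- The fixed points lie in the top subgroup, in the single-radical case. -/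
theorem fixed_le_top_single (C : Cfg σ r m p S U Z) (h4 : 4 ≤ (Z ⊓ center G).relIndex Z)
    (T : Top σ U Z H₀) (hA : SingleCase m U Z) : fixed σ ≤ H₀ := by
  classical
  haveI : Fact r.Prime := ⟨C.hr⟩
  haveI : Fact p.Prime := ⟨C.hp⟩
  haveI : Fact (Nat.Prime 2) := ⟨Nat.prime_two⟩
  have hSH : S ≤ H₀ := C.S_le_normU.trans T.normU_le
  have hUH : U ≤ H₀ := C.U_le_S.trans hSH
  have hCH : center G ≤ H₀ :=
    (center_le_centralizer _).trans ((centralizer_le_normalizer _).trans T.normU_le)
  obtain ⟨K, hKH, hKp, hKi, hHK, hpow⟩ := C.small H₀ T.inv T.ne_top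
  have hdKU : disp σ H₀ ≤ K ⊔ U := H12.Shult.disp_le_sup C T.inv hUH hKH hKi hHK hpow
  have hUd : U ≤ disp σ H₀ := (H12.Shult.disp_U C).ge.trans (H85.Shult.disp_mono hUH)
  have hKUn : H₀ ≤ normalizer ((K ⊔ U : Subgroup G) : Set G) := by
    rw [show K ⊔ U = K ⊔ disp σ H₀ from le_antisymm (sup_le_sup le_rfl hUd)
      (sup_le le_sup_left hdKU)]
    exact H12.Shult.le_normalizer_sup hHK H85.Shult.le_normalizer_disp
  have hCi : H12.RComp.Inv σ (center G) := fun a ha => by rwa [C.center_fix a ha]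
  set π := QuotientGroup.mk' (center G) with hπdef
  have hπs : Function.Surjective π := QuotientGroup.mk'_surjective _
  have hπ1 : ∀ g : G, π g = 1 ↔ g ∈ center G := fun g => QuotientGroup.eq_one_iff g
  set σb := quot σ (center G) hCi with hσbdef
  have hσπ : ∀ g : G, σb (π g) = π (σ g) := fun g => quot_mk σ (center G) hCi g
  have hopb := (H85.Shult.op_iff C.hσ C.hcop).quot (center G) hCi
  -- images and preimages of invariant subgroups
  have hinvmap : ∀ {A : Subgroup G}, Inv σ A → H41.Shult.SInv σb (A.map π) := by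
    rintro A hA' _ ⟨a, ha, rfl⟩
    exact ⟨σ a, hA' a ha, (hσπ a).symm⟩
  have hinvcomap : ∀ {A : Subgroup (G ⧸ center G)}, H41.Shult.SInv σb A → Inv σ (A.comap π) := by
    intro A hA' a ha
    show π (σ a) ∈ A
    rw [← hσπ]
    exact hA' _ ha
  have hne_top : ∀ {A : Subgroup (G ⧸ center G)}, A ≠ ⊤ → A.comap π ≠ ⊤ := fun {A} hA' h =>
    hA' (comap_injective hπs (h.trans (comap_top π).symm))
  -- normal invariant proper subgroups of the quotient are trivial
  have hnormbot : ∀ N : Subgroup (G ⧸ center G), N.Normal → H41.Shult.SInv σb N → N ≠ ⊤ →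
      N = ⊥ := by
    intro N hN hNi hne
    haveI := hN
    have h := C.normal_le (N.comap π) inferInstance (hinvcomap hNi) (hne_top hne)
    rw [eq_bot_iff]
    intro w hw
    obtain ⟨g, rfl⟩ := hπs w
    exact mem_bot.mpr ((hπ1 g).mpr (h hw))
  have hH0c : (H₀.map π).comap π = H₀ := by
    rw [comap_map_eq, hπdef, QuotientGroup.ker_mk']
    exact sup_eq_left.mpr hCH
  -- an element of `U` fixed modulo the centre is fixed
  have hfixU : ∀ u ∈ U, σ u * u⁻¹ ∈ center G → u ∈ Z := by
    intro u hu hc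
    set y := σ u * u⁻¹ with hy
    have hyf : σ y = y := C.center_fix y hc
    have hyZ : y ∈ Z := C.mem_Z (mul_mem (C.invU u hu) (inv_mem hu)) hyf
    have hit : ∀ j : ℕ, (σ ^ j) u = y ^ j * u := by
      intro j
      induction j with
      | zero => simp
      | succ j ih =>
        rw [pow_succ', MulAut.mul_apply, ih, map_mul, map_pow, hyf, pow_succ, mul_assoc, hy,
          inv_mul_cancel_right]
    have hyr : y ^ r = 1 := by
      have := hit r
      rwa [C.hσ, MulAut.one_apply, eq_comm, mul_eq_right] at this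
    have hy1 : y = 1 := H12.Shult.pow_eq_one_of_coprime hyr
      (show y ^ 2 = 1 by rw [pow_two]; exact C.sqZ y hyZ) (by
        rw [C.hrm, Nat.coprime_two_right]
        exact Even.add_one ((Nat.even_pow).mpr ⟨even_two, C.m_pos.ne'⟩))
    exact C.mem_Z hu (mul_inv_eq_one.mp hy1)
  have hUZb : ∀ u ∈ U, π u ∈ Z.map π → u ∈ Z := by
    rintro u hu ⟨z, hz, hzu⟩
    refine hfixU u hu ((hπ1 _).mp ?_)
    rw [map_mul, map_inv, ← hσπ, ← hzu, hσπ, C.fixZ hz, mul_inv_cancel]
  have hSne : ¬ IsPGroup p (G ⧸ center G) := by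
    intro h
    obtain ⟨u, hu, hne⟩ := C.exists_moved
    refine hne (C.center_fix u ((hπ1 u).mp ?_))
    obtain ⟨b, hb⟩ := h (π u)
    obtain ⟨j, hj⟩ := C.pU ⟨u, hu⟩
    refine H12.Shult.pow_eq_one_of_coprime hb (show π u ^ 2 ^ j = 1 by
      rw [← map_pow, show u ^ 2 ^ j = 1 from congrArg Subtype.val hj, map_one])
      (Nat.Coprime.pow _ _ ((Nat.coprime_primes C.hp Nat.prime_two).mpr C.hp2))
  have B : H41.Shult.Cfg σb p r m (H₀.map π) ((K ⊔ U).map π) (K.map π) (S.map π) (U.map π)
      (Z.map π) :=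
    { hr := C.hr
      hrm := C.hrm
      m_pos := C.m_pos
      hσ := hopb.1
      hcop := hopb.2
      hp := C.hp
      hp2 := C.hp2
      hMtop := fun h => T.ne_top (by rw [← hH0c, h, comap_top])
      hMinv := hinvmap T.inv
      hMN := fun g hg => by
        obtain ⟨g, rfl⟩ := hπs g
        have hgN : g ∈ normalizer (H₀ : Set G) := mem_normalizer_fintype fun x hx => by
          rw [← hH0c]
          show π (g * x * g⁻¹) ∈ H₀.map π
          rw [map_mul, map_mul, map_inv]
          exact hg _ (mem_map_of_mem π hx)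
        refine mem_map_of_mem π (T.max _ (H12.Shult.inv_normalizer T.inv) (fun htop => ?_)
          (hUH.trans le_normalizer) hgN)
        obtain ⟨u, hu, hne⟩ := C.exists_moved
        exact hne (C.center_fix u (C.normal_le H₀ (normalizer_eq_top_iff.mp htop) T.inv T.ne_top
          (hUH hu)))
      hover := fun H hH hUb hne => by
        rw [← map_comap_eq_self_of_surjective hπs H]
        exact map_mono (T.max _ (hinvcomap hH) (hne_top hne) (map_le_iff_le_comap.mp hUb))
      hinv1 := fun w _ hw htop => hw (by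
        have hwc : w ∈ center (G ⧸ center G) := mem_center_iff.mpr fun g =>
          mem_centralizer_singleton_iff.mp (htop.ge (mem_top g) : g ∈ centralizer ({w} : Set _))
        rwa [center_quotient_center C.perfect, mem_bot] at hwc)
      hS := isSylTwo_top (C.pS.map π) fun h => C.indexS (h.trans (index_map_dvd S hπs))
      hSM := map_mono hSH
      hSinv := hinvmap C.invS
      hUS := map_mono C.U_le_S
      hUinv := hinvmap C.invU
      hUnorm := by
        rintro _ ⟨s, hs, rfl⟩ _ ⟨u, hu, rfl⟩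
        exact ⟨s * u * s⁻¹, H12.Shult.conj_mem (C.S_le_normU hs) hu, by simp⟩
      hmov := by
        rintro _ ⟨t, ht, rfl⟩
        refine ⟨t⁻¹ * σ t, ?_, by rw [map_mul, map_inv, hσπ]⟩
        have hd : σ t * t⁻¹ ∈ U := C.defU ▸ H85.Shult.subset_disp ht
        simpa [mul_assoc] using H12.Shult.inv_conj_mem (C.S_le_normU ht) hd
      hZU := map_mono C.Z_le_U
      fix := by
        rintro _ ⟨u, hu, rfl⟩
        rw [hσπ]
        refine ⟨fun h => mem_map_of_mem π (hfixU u hu ((hπ1 _).mp ?_)), ?_⟩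
        · rw [map_mul, map_inv, h, mul_inv_cancel]
        · rintro ⟨z, hz, hzu⟩
          rw [← hσπ, ← hzu, hσπ, C.fixZ hz]
      sqZ := by
        rintro _ ⟨z, hz, rfl⟩
        rw [← map_mul, C.sqZ z hz, map_one]
      cen := by
        rintro _ ⟨z, hz, rfl⟩ _ ⟨u, hu, rfl⟩
        rw [← map_mul, ← map_mul, C.cenU u hu z hz]
      sq := by
        rintro _ ⟨u, hu, rfl⟩
        exact ⟨u * u, C.sqU u hu, map_mul π u u⟩
      comm := by
        rintro _ ⟨u, hu, rfl⟩ _ ⟨v, hv, rfl⟩
        exact ⟨_, C.comU u hu v hv, by simp⟩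
      nab := by
        rintro _ ⟨u, hu, rfl⟩ hnot
        obtain ⟨i, j, hij⟩ := exists_not_central C h4 hA hu fun h => hnot (mem_map_of_mem π h)
        have hit : ∀ i : ℕ, (σb ^ i) (π u) = π ((σ ^ i) u) := by
          intro i
          induction i with
          | zero => rfl
          | succ i ih => rw [pow_succ', MulAut.mul_apply, ih, hσπ, pow_succ', MulAut.mul_apply]
        refine ⟨i, j, fun hc => hij ((hπ1 _).mp ?_)⟩
        rw [hit, hit] at hc
        simp only [cm, map_mul, map_inv]
        rw [hc.eq]; group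
      hUZ := by
        obtain ⟨u, hu, hne⟩ := C.exists_moved
        exact ⟨π u, mem_map_of_mem π hu, fun h => hne (C.fixZ (hUZb u hu h))⟩
      hKM := map_mono (sup_le hKH hUH)
      hKn := by
        rintro _ ⟨x, hx, rfl⟩ _ ⟨k, hk, rfl⟩
        exact ⟨x * k * x⁻¹, H12.Shult.conj_mem (hKUn hx) hk, by simp⟩
      hRn := by
        rintro _ ⟨x, hx, rfl⟩ _ ⟨k, hk, rfl⟩
        exact ⟨x * k * x⁻¹, H12.Shult.conj_mem (hHK hx) hk, by simp⟩
      hRinv := hinvmap hKi
      hRK := map_mono le_sup_left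
      hUK := map_mono le_sup_right
      hKdec := by
        rintro _ ⟨x, hx, rfl⟩
        rw [SetLike.mem_coe, sup_comm] at hx
        obtain ⟨u, hu, k, hk, rfl⟩ := H12.Shult.exists_mul_of_mem_sup' (hUH.trans hHK) hx
        exact ⟨π (u * k * u⁻¹), mem_map_of_mem π (H12.Shult.conj_mem (hHK (hUH hu)) hk), π u,
          mem_map_of_mem π hu, by simp⟩
      hMK := by
        rintro _ ⟨x, hx, rfl⟩
        refine ⟨x⁻¹ * σ x, ?_, by rw [map_mul, map_inv, hσπ]⟩
        simpa [mul_assoc] using
          H12.Shult.inv_conj_mem (hKUn hx) (hdKU (H85.Shult.subset_disp (σ := σ) hx))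
      hRp := hKp.map π
      hstr := fun H hH hne => by
        obtain ⟨K', hK'H, hK'p, -, hHK', hpow'⟩ := C.small _ (hinvcomap hH) (hne_top hne)
        refine ⟨K'.map π, map_le_iff_le_comap.mpr hK'H, hK'p.map π, ?_, fun Q _ hQ h hh => ?_⟩
        · intro h hh n hn
          obtain ⟨n, hn, rfl⟩ := hn
          obtain ⟨h, rfl⟩ := hπs h
          exact ⟨h * n * h⁻¹, H12.Shult.conj_mem (hHK' hh) hn, by simp⟩
        have hnorm : ∀ A : Subgroup G, H.comap π ≤ normalizer (A : Set G) →
            H ≤ normalizer (A.map π : Set (G ⧸ center G)) := fun A hA' => by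
          calc H = (H.comap π).map π := (map_comap_eq_self_of_surjective hπs H).symm
            _ ≤ (normalizer (A : Set G)).map π := map_mono hA'
            _ ≤ _ := le_normalizer_map π
        obtain ⟨h, rfl⟩ := hπs h
        refine le_sup_of_sylTwo hQ (map_le_iff_le_comap.mpr hK'H) (hnorm _ hHK')
          (map_le_iff_le_comap.mpr (H85.Shult.disp_le (hinvcomap hH)))
          (hnorm _ H85.Shult.le_normalizer_disp) ?_
          (L := (disp σ (H.comap π)).map π) ⟨h⁻¹ * σ h, ?_, by rw [map_mul, map_inv, hσπ]⟩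
        · rintro _ ⟨x, hx, rfl⟩
          obtain ⟨n, hn⟩ := hpow' x hx
          exact ⟨n, x ^ 2 ^ n, hn, map_pow π x _⟩
        · simpa [mul_assoc] using H12.Shult.inv_conj_mem
            (H85.Shult.le_normalizer_disp (σ := σ) (show h ∈ H.comap π from hh))
            (H85.Shult.subset_disp (σ := σ) (show h ∈ H.comap π from hh))
      hOdd := fun N hN hNi hodd => by
        by_cases hne : N = ⊤
        · exfalso
          obtain ⟨u, hu, hmov⟩ := C.exists_moved
          refine hmov (C.center_fix u ((hπ1 u).mp ?_))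
          obtain ⟨j, hj⟩ := C.pU ⟨u, hu⟩
          rw [hne, Subgroup.card_top] at hodd
          exact H12.Shult.pow_eq_one_of_coprime (pow_card_eq_one' (x := π u)) (show π u ^ 2 ^ j = 1 by
            rw [← map_pow, show u ^ 2 ^ j = 1 from congrArg Subtype.val hj, map_one])
            (Nat.Coprime.pow_right j (Nat.coprime_two_right.mpr hodd))
        · rw [hnormbot N hN hNi hne]; exact bot_le
      hOp := fun N hN hNp => by
        haveI := hN
        have h1 : N ≤ Cfsg.pCore p (G ⧸ center G) := H1.le_pCore hNp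
        haveI := H1.pCore_characteristic p (G ⧸ center G)
        have h2 := hnormbot _ (H1.pCore_normal' p _)
          (H12.RComp.Inv.of_characteristic σb _) fun htop => hSne (fun x => by
            obtain ⟨b, hb⟩ := H1.isPGroup_pCore p (G ⧸ center G) ⟨x, htop.ge (mem_top x)⟩
            exact ⟨b, congrArg Subtype.val hb⟩)
        exact le_bot_iff.mp (h2 ▸ h1)
      hidx := by
        rw [← index_comap_of_surjective (H₀.map π) hπs, hH0c]
        exact dvd_index C T }
  -- the blocks separate
  have hsep : B.Separated := by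
    rintro ⟨_, u, hu, rfl⟩ huZ
    have huZ' : u ∉ Z := fun h => huZ (mem_map_of_mem π h)
    obtain ⟨Z₁, R₀, Bk, huR⟩ := H3.Shult.exists_block C hu huZ'
    have F := H3.Shult.form_of_cfg C
    let πU : U →* U.map π :=
      (π.comp U.subtype).codRestrict (U.map π) fun a => mem_map_of_mem π a.2
    have hπUs : Function.Surjective πU := by
      rintro ⟨_, a, ha, rfl⟩; exact ⟨⟨a, ha⟩, rfl⟩
    have hcomap : ∃ ε : ((Z.map π).subgroupOf (U.map π)) →* ℤˣ,
        (B.forms.rad ε).comap πU = R₀.subgroupOf U := by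
      rcases hA with hA | hA
      · -- `π` is injective on `Z`
        set W := ((Z₁.map π).subgroupOf (U.map π)).subgroupOf
          ((Z.map π).subgroupOf (U.map π)) with hW
        have hinjZ : ∀ z ∈ Z, π z ∈ Z₁.map π → z ∈ Z₁ := by
          rintro z hz ⟨w, hw, hwz⟩
          have : z⁻¹ * w = 1 := hA _ (mul_mem (inv_mem hz) (Bk.le hw)) ((hπ1 _).mp (by
            rw [map_mul, map_inv, hwz, inv_mul_cancel]))
          rwa [inv_mul_eq_one.mp this]
        have hWidx : W.index = 2 := by
          rw [index_eq_two_iff]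
          obtain ⟨z₀, hz₀'⟩ := index_eq_two_iff.mp Bk.rel
          refine ⟨⟨⟨π z₀, mem_map_of_mem π (C.Z_le_U z₀.2)⟩, mem_map_of_mem π z₀.2⟩, ?_⟩
          rintro ⟨b, hb'⟩
          obtain ⟨z, hz, hzb⟩ := id hb'
          obtain rfl : b = ⟨π z, mem_map_of_mem π (C.Z_le_U hz)⟩ := Subtype.ext hzb.symm
          have hiff : ∀ y ∈ Z, (π y ∈ Z₁.map π ↔ y ∈ Z₁) :=
            fun y hy => ⟨hinjZ y hy, mem_map_of_mem π⟩
          simp only [hW, mem_subgroupOf, Subgroup.coe_mul, ← map_mul]
          rw [hiff _ (mul_mem hz z₀.2), hiff z hz]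
          simpa [mem_subgroupOf] using hz₀' ⟨z, hz⟩
        obtain ⟨ε, hε⟩ := exists_char_of_index_two hWidx
        refine ⟨ε, ?_⟩
        ext a
        rw [mem_comap, mem_subgroupOf, Bk.rad]
        refine ⟨fun h => ⟨a.2, fun v hv => ?_⟩, fun h w => ?_⟩
        · have h1 := (hε _).mp (h (πU ⟨v, hv⟩))
          refine hinjZ _ (C.comU _ a.2 v hv) ?_
          have h2 : π a * π v * (π a)⁻¹ * (π v)⁻¹ ∈ Z₁.map π := h1
          simpa [cm] using h2
        · obtain ⟨v, rfl⟩ := hπUs w
          refine (hε _).mpr ?_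
          show π a * π v * (π a)⁻¹ * (π v)⁻¹ ∈ Z₁.map π
          exact ⟨_, h.2 v v.2, by simp [cm]⟩
      · -- a single radical
        have hRZ := Adapter.radical_eq C hA Bk
        obtain ⟨z, hz, hzc⟩ : ∃ z ∈ Z, z ∉ center G := by
          by_contra h
          push Not at h
          rw [inf_eq_left.mpr h, relIndex_self] at h4
          omega
        obtain ⟨ε, hε⟩ := B.forms.exists_char
          (a := (⟨⟨π z, mem_map_of_mem π (C.Z_le_U hz)⟩, mem_map_of_mem π hz⟩ :
            (Z.map π).subgroupOf (U.map π)))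
          fun e => hzc ((hπ1 z).mp (congrArg
            (fun x : (Z.map π).subgroupOf (U.map π) => ((x : U.map π) : G ⧸ center G)) e))
        refine ⟨ε, ?_⟩
        set Y := ((B.forms.rad ε).comap πU).map U.subtype with hY
        have hYU : Y ≤ U := map_subtype_le _
        have hYi : ∀ y ∈ Y, σ y ∈ Y := by
          rintro _ ⟨a, ha, rfl⟩
          refine ⟨⟨σ a, C.invU a a.2⟩, ?_, rfl⟩
          have h1 := B.forms.sigma_rad ha
          rwa [show H41.Shult.restrict B.hUinv (πU a) = πU ⟨σ a, C.invU a a.2⟩ from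
            Subtype.ext (hσπ a)] at h1
        have hRY : R₀ ≤ Y := by
          rw [hRZ]
          exact fun w hw => ⟨⟨w, C.Z_le_U hw⟩,
            B.forms.le_rad ε (mem_map_of_mem π hw : π w ∈ Z.map π), rfl⟩
        have hback : (B.forms.rad ε).comap πU = Y.subgroupOf U :=
          (comap_map_eq_self_of_injective U.subtype_injective _).symm
        rcases Bk.irred F hYi hRY hYU with h | h
        · rw [hback, h]
        · exfalso
          apply hε
          -- all commutators of `U` die under `ε`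
          have hker : ⁅U, U⁆ ≤ (((ε.ker.map ((Z.map π).subgroupOf (U.map π)).subtype).map
              (U.map π).subtype).comap π) := by
            rw [commutator_le]
            intro a ha b hb
            obtain ⟨a', ha', rfl⟩ := h.ge ha
            exact ⟨_, ⟨B.forms.cm (πU a') (πU ⟨b, hb⟩), ha' (πU ⟨b, hb⟩), rfl⟩, by
              simp [commutatorElement_def, H41.Shult.FormData.cm, πU]⟩
          obtain ⟨_, ⟨x, hx, rfl⟩, hxz⟩ := hker (Adapter.Z_le_commutator C hz)
          rw [show (⟨⟨π z, mem_map_of_mem π (C.Z_le_U hz)⟩, mem_map_of_mem π hz⟩ :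
            (Z.map π).subgroupOf (U.map π)) = x from Subtype.ext (Subtype.ext hxz.symm)]
          exact hx
    obtain ⟨ε, hε⟩ := hcomap
    refine ⟨ε, ⟨?_, fun H hH hle => ?_⟩, fun h => huR ?_⟩
    · rw [← index_comap_of_surjective _ hπUs, hε]
      show R₀.relIndex U = _
      rw [Bk.idx, ← pow_mul, mul_comm]
    · set Y := (H.comap πU).map U.subtype with hY
      have hYi : ∀ y ∈ Y, σ y ∈ Y := by
        rintro _ ⟨a, ha, rfl⟩
        refine ⟨⟨σ a, C.invU a a.2⟩, ?_, rfl⟩
        show πU ⟨σ a, C.invU a a.2⟩ ∈ H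
        rw [show πU ⟨σ a, C.invU a a.2⟩ = H41.Shult.restrict B.hUinv (πU a) from
          Subtype.ext (hσπ a).symm]
        exact hH _ ha
      have hRY : R₀ ≤ Y := fun w hw =>
        ⟨⟨w, Bk.R_le hw⟩, comap_mono hle (hε.ge (mem_subgroupOf.mpr hw)), rfl⟩
      have hback : H.comap πU = Y.subgroupOf U :=
        (comap_map_eq_self_of_injective U.subtype_injective _).symm
      rcases Bk.irred F hYi hRY (map_subtype_le _) with h | h
      · left; exact comap_injective hπUs (by rw [hback, h, hε])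
      · right; exact comap_injective hπUs (by rw [hback, h, subgroupOf_self, comap_top])
    · exact mem_subgroupOf.mp (hε.le (show (⟨u, hu⟩ : U) ∈ (B.forms.rad ε).comap πU from h))
  intro c hc
  have h := H41.Shult.fixed_mem B hsep (h := π c) (by rw [hσπ, show σ c = c from hc])
  rw [← hH0c]
  exact h

end H83.Shult
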