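import Cfsg.Agent.H83.Shult.TwoIsotropic
import Cfsg.Agent.H41.Shult.TwoClosed
import Mathlib.GroupTheory.Transfer

/-!
Shult's fixed point theorem, several radicals, induced automorphisms of odd order: none of the
elements of `U` outside `Z` is fixed modulo `Z` by all of them. The norm of the `U`-part is a
homomorphism on `H₀`; its transfer to the perfect group `G` is evaluated at an element with
noncentral square.
-/

set_option autoImplicit false
set_option linter.unusedSectionVars false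
set_option linter.style.haveILetI false

open Subgroup MulAction

namespace H83.Shult.Transfer

open H41.Shult (Two act mem_act CoreSub)
open H85.Shult (Inv disp fixed)

variable {G : Type*} [Group G] [Finite G] {σ : MulAut G} {r m p : ℕ} {S U Z H₀ : Subgroup G}

/-- An elementary abelian 2-group has a sign character nontrivial at a given element. -/
theorem exists_sign {W : Type*} [CommGroup W] [Finite W] (hexp : ∀ w : W, w ^ 2 = 1) {w : W}
    (hw : w ≠ 1) : ∃ f : W →* ℤˣ, f w ≠ 1 := by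
  have h : Monoid.exponent W ∣ 2 := Monoid.exponent_dvd_of_forall_pow_eq_one hexp
  haveI : HasEnoughRootsOfUnity ℤ 2 :=
    ⟨⟨-1, by
      rw [IsPrimitiveRoot.iff_def]
      refine ⟨by norm_num, fun l hl => ?_⟩
      rcases Nat.even_or_odd l with he | ho
      · exact even_iff_two_dvd.mp he
      · rw [ho.neg_one_pow] at hl; omega⟩, inferInstance⟩
  haveI : HasEnoughRootsOfUnity ℤ (Monoid.exponent W) := HasEnoughRootsOfUnity.of_dvd ℤ h
  exact CommGroup.exists_apply_ne_one_of_hasEnoughRootsOfUnity W ℤ hw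

section

variable (B : Two σ r m p S U Z H₀)
include B

/-- Fixed elements of `S` centralise `U`. -/
theorem cent_fixed_S (hodd : Odd (Nat.card (act σ U))) {c : G} (hc : c ∈ S) (hσc : σ c = c)
    {u : G} (hu : u ∈ U) : c * u = u * c := by
  have hcN := B.cfg.S_le_normU hc
  have hmem : U.normalizerMonoidHom ⟨c, hcN⟩ ∈ act σ U := mem_act.mpr ⟨c, hσc, hcN, fun u => rfl⟩
  set φ := U.normalizerMonoidHom ⟨c, hcN⟩ with hφ
  obtain ⟨j, hj⟩ := B.cfg.pS ⟨c, hc⟩
  have h1 : φ ^ 2 ^ j = 1 := by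
    rw [hφ, ← map_pow]
    have hp : (⟨c, hcN⟩ : normalizer (U : Set G)) ^ 2 ^ j = 1 :=
      Subtype.ext (by simpa using congrArg Subtype.val hj)
    rw [hp, map_one]
  have h2 : orderOf φ ∣ Nat.card (act σ U) := by
    rw [show φ = ((⟨φ, hmem⟩ : act σ U) : MulAut U) from rfl, Subgroup.orderOf_coe]
    exact orderOf_dvd_natCard _
  have h3 : φ = 1 := orderOf_eq_one_iff.mp (Nat.eq_one_of_dvd_coprimes
    (Nat.Coprime.pow_left j (Nat.coprime_two_left.mpr hodd)) (orderOf_dvd_of_pow_eq_one h1) h2)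
  have h4 := congrArg (fun ψ : MulAut U => ((ψ ⟨u, hu⟩ : U) : G)) h3
  have h5 : c * u * c⁻¹ = u := h4
  exact mul_inv_eq_iff_eq_mul.mp h5

/-- Squares in `S` are fixed. -/
theorem sq_fixed (hodd : Odd (Nat.card (act σ U))) {s : G} (hs : s ∈ S) :
    σ (s * s) = s * s := by
  obtain ⟨d, hdU, c, hc, hσc, rfl⟩ := H10.Shult.Rank.exists_US B.cfg hs
  have e : d * c * (d * c) = c * c * (d * d) := by
    rw [← cent_fixed_S B hodd hc hσc hdU]
    calc c * d * (c * d) = c * (d * c) * d := by group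
      _ = c * (c * d) * d := by rw [cent_fixed_S B hodd hc hσc hdU]
      _ = _ := by group
  rw [e, map_mul, B.fixZ (B.cfg.sqU d hdU), map_mul σ c c, hσc]

/-- An element of `U` with noncentral square is carried into `H₀` only by elements of `H₀`. -/
theorem mem_of_sq (hodd : Odd (Nat.card (act σ U)))
    {q x : G} (hq : q ∈ U) (hqc : q * q ∉ center G) (hx : x⁻¹ * q * x ∈ H₀) : x ∈ H₀ := by
  have h2 : IsPGroup 2 (zpowers (x⁻¹ * q * x)) := by
    have h1 : IsPGroup 2 (zpowers q) := B.form.pU.to_le (zpowers_le.mpr hq)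
    have h3 := h1.map (MulAut.conj x⁻¹).toMonoidHom
    rwa [MonoidHom.map_zpowers, MulEquiv.coe_toMonoidHom, MulAut.conj_apply, inv_inv] at h3
  obtain ⟨h, hh, hc⟩ := B.sylM.2.2 _ (zpowers_le.mpr hx) h2
  have hs := hc _ (mem_zpowers _)
  have e : (h * x⁻¹) * (q * q) * (h * x⁻¹)⁻¹ =
      (h * (x⁻¹ * q * x) * h⁻¹) * (h * (x⁻¹ * q * x) * h⁻¹) := by group
  have hg : h * x⁻¹ ∈ H₀ := B.mem_of_fixed_image (B.cfg.sqU q hq) hqc
    (by rw [e]; exact sq_fixed B hodd hs) (by rw [e]; exact B.hSM (mul_mem hs hs))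
  simpa using inv_mem (mul_mem (inv_mem hh) hg)

/-- The norm of the `U`-part: a character of `H₀` nontrivial on a given fixed vector. -/
theorem exists_norm_char (hodd : Odd (Nat.card (act σ U))) {v : U} (hv : (v : G) ∉ Z)
    (hvfix : ∀ φ ∈ act σ U, φ v * v⁻¹ ∈ Z.subgroupOf U) :
    ∃ χ : H₀ →* ℤˣ, χ ⟨v, B.hUM v.2⟩ ≠ 1 := by
  classical
  obtain ⟨K, hK⟩ := B.exists_core
  haveI hZn : (Z.subgroupOf U).Normal := ⟨fun z hz g => by
    show (g : G) * z * (g : G)⁻¹ ∈ Z
    rw [B.cfg.cenU g g.2 (z : G) hz, mul_inv_cancel_right]; exact hz⟩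
  letI : CommGroup (U ⧸ Z.subgroupOf U) :=
    { (inferInstance : Group (U ⧸ Z.subgroupOf U)) with
      mul_comm := fun a b => by
        obtain ⟨a, rfl⟩ := QuotientGroup.mk_surjective a
        obtain ⟨b, rfl⟩ := QuotientGroup.mk_surjective b
        rw [← QuotientGroup.mk_mul, ← QuotientGroup.mk_mul, QuotientGroup.eq,
          show (a * b)⁻¹ * (b * a) = b⁻¹ * a⁻¹ * b⁻¹⁻¹ * a⁻¹⁻¹ by group]
        exact B.fd.comm b⁻¹ a⁻¹ }
  haveI : Finite (MulAut U) :=
    Finite.of_injective (fun e => (e : U → U)) DFunLike.coe_injective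
  haveI : Fintype (act σ U) := Fintype.ofFinite _
  let mk : U →* U ⧸ Z.subgroupOf U := QuotientGroup.mk' _
  let ν : U →* U ⧸ Z.subgroupOf U :=
    { toFun := fun u => ∏ φ : act σ U, mk ((φ : MulAut U) u)
      map_one' := by simp
      map_mul' := fun a b => by simp only [map_mul, Finset.prod_mul_distrib] }
  have hνinv : ∀ φ ∈ act σ U, ∀ u, ν (φ u) = ν u := by
    intro φ hφ u
    show ∏ ψ : act σ U, mk ((ψ : MulAut U) (φ u)) = ∏ ψ : act σ U, mk ((ψ : MulAut U) u)
    exact Fintype.prod_equiv (Equiv.mulRight ⟨φ, hφ⟩) _ _ fun ψ => rfl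
  have hνZ : ∀ z : U, (z : G) ∈ Z → ν z = 1 := fun z hz =>
    Finset.prod_eq_one fun φ _ => (QuotientGroup.eq_one_iff _).mpr (B.act_Z φ.2 hz)
  -- the decomposition
  have hdec : ∀ g : H₀, ∃ n ρ : G, ∃ u : U,
      σ n = n ∧ n ∈ normalizer (U : Set G) ∧ ρ ∈ K ∧ (g : G) = n * ρ * u := by
    intro g
    obtain ⟨h, hh, hfix⟩ := H41.Shult.exists_fixed_coset B.cfg.hr B.cfg.hσ B.cfg.hcop
      (B.inv_KU hK) (B.mov_mem hK g.2)
    obtain ⟨n, hn, hnN, hnK, -⟩ :=
      B.exists_normalising hK (mul_mem g.2 (B.KU_le hK hh)) hfix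
    have hd : n⁻¹ * g ∈ K ⊔ U := by
      have h1 : n⁻¹ * (g * h) ∈ K := by
        have := inv_mem hnK
        have hgh : (g : G) * h * n⁻¹ ∈ K := by simpa [mul_assoc] using this
        have hnH : n ∈ H₀ := B.top.normU_le hnN
        have := (mem_normalizer_iff.mp (hK.norm (inv_mem hnH)) _).mp hgh
        simpa [mul_assoc] using this
      simpa [mul_assoc] using mul_mem (mem_sup_left (T := U) h1) (inv_mem hh)
    obtain ⟨ρ, hρ, u, hu, he⟩ := B.exists_mul hK hd
    exact ⟨n, ρ, ⟨u, hu⟩, hn, hnN, hρ, by rw [mul_assoc, ← he, mul_inv_cancel_left]⟩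
  -- uniqueness
  have huniq : ∀ (n ρ n' ρ' : G) (u u' : U), σ n = n → n ∈ normalizer (U : Set G) → ρ ∈ K →
      σ n' = n' → n' ∈ normalizer (U : Set G) → ρ' ∈ K →
      n * ρ * u = n' * ρ' * u' → ν u = ν u' := by
    intro n ρ n' ρ' u u' hn _ hρ hn' _ hρ' he
    have hd : n'⁻¹ * n = ρ' * ((u' : G) * (u : G)⁻¹) * ρ⁻¹ := by
      calc n'⁻¹ * n = n'⁻¹ * (n * ρ * u) * (u : G)⁻¹ * ρ⁻¹ := by group
        _ = n'⁻¹ * (n' * ρ' * u') * (u : G)⁻¹ * ρ⁻¹ := by rw [he]
        _ = _ := by group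
    have hmem : n'⁻¹ * n ∈ K ⊔ U := hd ▸ mul_mem (mul_mem (mem_sup_left hρ')
      (mem_sup_right (mul_mem u'.2 (inv_mem u.2)))) (inv_mem (mem_sup_left hρ))
    obtain ⟨k, hk, -, z, hz, hkz⟩ :=
      B.exists_mul_fixed hK hmem (by rw [map_mul, map_inv, hn, hn'])
    have hzρ : z * ρ * z⁻¹ ∈ K :=
      (mem_normalizer_iff.mp (hK.norm (B.hZM hz)) ρ).mp hρ
    have e : ρ'⁻¹ * (k * (z * ρ * z⁻¹)) = (u' : G) * (z * u)⁻¹ := by
      rw [hkz] at hd
      calc ρ'⁻¹ * (k * (z * ρ * z⁻¹)) = ρ'⁻¹ * (k * z) * ρ * z⁻¹ := by group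
        _ = ρ'⁻¹ * (ρ' * ((u' : G) * (u : G)⁻¹) * ρ⁻¹) * ρ * z⁻¹ := by rw [hd]
        _ = _ := by group
    have h1 : (u' : G) * (z * u)⁻¹ = 1 := B.KS_one hK
      (e ▸ mul_mem (inv_mem hρ') (mul_mem hk hzρ))
      (mul_mem (B.hUS u'.2) (inv_mem (mul_mem (B.hZS hz) (B.hUS u.2))))
    have h2 : u' = ⟨z, B.hZU hz⟩ * u := Subtype.ext (mul_inv_eq_one.mp h1)
    rw [h2, map_mul, hνZ (⟨z, B.hZU hz⟩ : U) hz, one_mul]
  choose nf ρf uf h1 h2 h3 h4 using hdec
  have hval : ∀ (g : H₀) (n ρ : G) (u : U), σ n = n → n ∈ normalizer (U : Set G) → ρ ∈ K →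
      (g : G) = n * ρ * u → ν (uf g) = ν u := fun g n ρ u hn hnN hρ he =>
    huniq _ _ _ _ _ _ (h1 g) (h2 g) (h3 g) hn hnN hρ ((h4 g).symm.trans he)
  let Φ : H₀ →* U ⧸ Z.subgroupOf U :=
    { toFun := fun g => ν (uf g)
      map_one' := by
        rw [hval 1 1 1 1 (map_one σ) (one_mem _) (one_mem _) (by simp)]
        exact map_one ν
      map_mul' := fun a b => by
        have hbN := h2 b
        have hbH : nf b ∈ H₀ := B.top.normU_le hbN
        set ψ := U.normalizerMonoidHom ⟨(nf b)⁻¹, inv_mem hbN⟩ with hψ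
        have hψmem : ψ ∈ act σ U :=
          mem_act.mpr ⟨_, by rw [map_inv, h1 b], inv_mem hbN, fun u => rfl⟩
        have hψv : ((ψ (uf a) : U) : G) = (nf b)⁻¹ * (uf a : G) * ((nf b)⁻¹)⁻¹ := rfl
        have hρ1 : (nf b)⁻¹ * ρf a * ((nf b)⁻¹)⁻¹ ∈ K :=
          (mem_normalizer_iff.mp (hK.norm (inv_mem hbH)) _).mp (h3 a)
        have hρ2 : (ψ (uf a) : G) * ρf b * (ψ (uf a) : G)⁻¹ ∈ K :=
          (mem_normalizer_iff.mp (hK.norm (B.hUM (ψ (uf a)).2)) _).mp (h3 b)
        rw [hval (a * b) (nf a * nf b) _ (ψ (uf a) * uf b) (by rw [map_mul, h1 a, h1 b])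
          (mul_mem (h2 a) hbN) (mul_mem hρ1 hρ2) (by
            rw [Subgroup.coe_mul, Subgroup.coe_mul, h4 a, h4 b, hψv]; group)]
        rw [map_mul, hνinv ψ hψmem] }
  have hΦv : Φ ⟨v, B.hUM v.2⟩ = mk v := by
    show ν (uf ⟨v, B.hUM v.2⟩) = mk v
    rw [hval ⟨v, B.hUM v.2⟩ 1 1 v (map_one σ) (one_mem _) (one_mem _) (by simp)]
    show ∏ φ : act σ U, mk ((φ : MulAut U) v) = mk v
    have hc : ∀ φ : act σ U, mk ((φ : MulAut U) v) = mk v := fun φ => by
      rw [← mul_inv_eq_one, ← map_inv, ← map_mul]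
      exact (QuotientGroup.eq_one_iff _).mpr (hvfix φ φ.2)
    rw [Fintype.prod_congr _ _ hc, Finset.prod_const, Finset.card_univ,
      ← Nat.card_eq_fintype_card]
    obtain ⟨k, hk⟩ := hodd
    rw [hk, pow_succ, pow_mul, ← map_pow mk v 2, pow_two]
    rw [show mk (v * v) = 1 from (QuotientGroup.eq_one_iff _).mpr (B.fd.sq v), one_pow, one_mul]
  obtain ⟨f, hf⟩ := exists_sign (W := U ⧸ Z.subgroupOf U) (w := mk v)
    (fun w => by
      obtain ⟨a, rfl⟩ := QuotientGroup.mk_surjective w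
      rw [← QuotientGroup.mk_pow, pow_two]
      exact (QuotientGroup.eq_one_iff _).mpr (B.fd.sq a))
    (fun h => hv ((QuotientGroup.eq_one_iff v).mp h))
  exact ⟨f.comp Φ, by rw [MonoidHom.comp_apply, hΦv]; exact hf⟩

/-- **Transfer.** No element of `U` outside `Z` is fixed modulo `Z` by all induced automorphisms. -/
theorem false_of_fixed_vec (hodd : Odd (Nat.card (act σ U)))
    {v : U} (hv : (v : G) ∉ Z) (hvfix : ∀ φ ∈ act σ U, φ v * v⁻¹ ∈ Z.subgroupOf U) : False := by
  classical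
  obtain ⟨χ, hχv⟩ := exists_norm_char B hodd hv hvfix
  -- the element
  let X : Subgroup U := (χ.ker.map H₀.subtype).subgroupOf U
  have hXmem : ∀ u : U, u ∈ X ↔ χ ⟨u, B.hUM u.2⟩ = 1 := fun u => by
    rw [mem_subgroupOf]
    exact ⟨fun ⟨g, hg, he⟩ => by
      rw [show (⟨(u : G), B.hUM u.2⟩ : H₀) = g from Subtype.ext he.symm]; exact hg,
      fun h => ⟨_, h, rfl⟩⟩
  have hXidx : X.index = 2 := by
    rw [index_eq_two_iff]
    refine ⟨v, fun u => ?_⟩
    rw [hXmem, hXmem]
    have h : χ ⟨((u * v : U) : G), B.hUM (u * v).2⟩ =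
        χ ⟨u, B.hUM u.2⟩ * χ ⟨v, B.hUM v.2⟩ := by
      rw [← map_mul]; rfl
    rw [h, (Int.units_eq_one_or _).resolve_left hχv]
    rcases Int.units_eq_one_or (χ ⟨(u : G), B.hUM u.2⟩) with hu | hu <;> rw [hu] <;> simp [Xor]
  obtain ⟨⟨y, hyU⟩, hyX, hyc⟩ := exists_sq_outside B hXidx
  have hyc' : y * y ∉ center G := hyc
  have hyH : y ∈ H₀ := B.hUM hyU
  have hy4 : y * y * (y * y) = 1 := B.cfg.sqZ _ (B.cfg.sqU y hyU)
  have hχy : χ ⟨y, hyH⟩ ≠ 1 := fun h => hyX ((hXmem _).mpr h)
  -- the transfer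
  haveI : H₀.FiniteIndex := inferInstance
  haveI : Fintype (Quotient (orbitRel (zpowers y) (G ⧸ H₀))) := Fintype.ofFinite _
  have hT : MonoidHom.transfer χ y = 1 :=
    MonoidHom.mem_ker.mp (Abelianization.commutator_subset_ker (MonoidHom.transfer χ)
      (B.cfg.perfect.ge (mem_top y)))
  rw [MonoidHom.transfer_eq_prod_quotient_orbitRel_zpowers_quot] at hT
  set F : Quotient (orbitRel (zpowers y) (G ⧸ H₀)) → ℤˣ := fun q =>
    χ ⟨q.out.out⁻¹ * y ^ Function.minimalPeriod (y • ·) q.out * q.out.out,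
      QuotientGroup.out_conj_pow_minimalPeriod_mem H₀ y q.out⟩ with hF
  set o : G ⧸ H₀ := ((1 : G) : G ⧸ H₀) with ho
  have ho_iff : ∀ x : G, (x : G ⧸ H₀) = o ↔ x ∈ H₀ := fun x => by
    rw [ho, QuotientGroup.eq, mul_one, inv_mem_iff]
  -- fixed cosets
  have hfix_iff : ∀ a : G ⧸ H₀, y • a = a ↔ a.out⁻¹ * y * a.out ∈ H₀ := by
    intro a
    conv_lhs => rw [← QuotientGroup.out_eq' a, Quotient.smul_coe, smul_eq_mul, eq_comm,
      QuotientGroup.eq, ← mul_assoc]
  have hfix1 : ∀ a : G ⧸ H₀, y • a = a → a = o := fun a ha => by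
    rw [← QuotientGroup.out_eq' a]
    exact (ho_iff _).mpr (mem_of_sq B hodd hyU hyc' ((hfix_iff a).mp ha))
  have hfixo : ∀ u ∈ U, u • o = o := fun u hu => by
    rw [ho, Quotient.smul_coe, smul_eq_mul, mul_one]
    exact (ho_iff u).mpr (B.hUM hu)
  have hne_o : ∀ a : G ⧸ H₀, a ≠ o → ∀ u ∈ U, u • a ≠ o := fun a ha u hu h => ha (by
    rw [← inv_smul_smul u a, h, hfixo _ (inv_mem hu)])
  have h4 : ∀ a : G ⧸ H₀, y • y • y • y • a = a := fun a => by
    simp only [← mul_smul]
    rw [show y * (y * (y * y)) = y * y * (y * y) by group, hy4, one_smul]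
  have hper : ∀ a : G ⧸ H₀, Function.minimalPeriod (y • ·) a = 1 ∨
      Function.minimalPeriod (y • ·) a = 2 ∨ Function.minimalPeriod (y • ·) a = 4 := by
    intro a
    have hdvd : Function.minimalPeriod (y • ·) a ∣ 2 ^ 2 :=
      Function.IsPeriodicPt.minimalPeriod_dvd (show (y • ·)^[4] a = a from h4 a)
    obtain ⟨i, hi, he⟩ := (Nat.dvd_prime_pow Nat.prime_two).mp hdvd
    interval_cases i <;> simp [he]
  have hper1 : ∀ a : G ⧸ H₀, Function.minimalPeriod (y • ·) a = 1 → a = o := fun a ha =>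
    hfix1 a (Function.minimalPeriod_eq_one_iff_isFixedPt.mp ha)
  have hout : ∀ q : Quotient (orbitRel (zpowers y) (G ⧸ H₀)), q.out ≠ o → F q ≠ 1 →
      q.out ≠ o ∧ (y * y) • q.out = q.out := by
    intro q hq hne
    refine ⟨hq, ?_⟩
    rcases hper q.out with h | h | h
    · exact absurd (hper1 _ h) hq
    · have := Function.iterate_minimalPeriod (f := (y • ·)) (x := q.out)
      rw [h] at this
      rw [mul_smul]; exact this
    · refine absurd ?_ hne
      show χ _ = 1
      refine Eq.trans (congrArg χ (Subtype.ext ?_)) (map_one χ)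
      show q.out.out⁻¹ * y ^ Function.minimalPeriod (y • ·) q.out * q.out.out = 1
      rw [h, show y ^ 4 = y * y * (y * y) by rw [show 4 = 2 + 2 from rfl, pow_add, pow_two], hy4, mul_one, inv_mul_cancel]
  haveI : Fintype (G ⧸ H₀) := Fintype.ofFinite _
  -- the identity coset
  set q₀ : Quotient (orbitRel (zpowers y) (G ⧸ H₀)) := Quotient.mk'' o with hq₀
  have hq₀out : ∀ q : Quotient (orbitRel (zpowers y) (G ⧸ H₀)), q = q₀ ↔ q.out = o := by
    intro q
    refine ⟨?_, fun h => by rw [hq₀, ← h, Quotient.out_eq']⟩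
    rintro rfl
    have hr : orbitRel (zpowers y) (G ⧸ H₀) q₀.out o := Quotient.exact' (Quotient.out_eq' q₀)
    obtain ⟨⟨g, hg⟩, hgo⟩ := hr
    rw [← hgo]
    exact hfixo g ((zpowers_le.mpr hyU) hg)
  -- the value at the identity coset
  have hF0 : F q₀ = χ ⟨y, hyH⟩ := by
    have hout0 := (hq₀out q₀).mp rfl
    have hk : Function.minimalPeriod (y • ·) q₀.out = 1 :=
      Function.minimalPeriod_eq_one_iff_isFixedPt.mpr (by rw [hout0]; exact hfixo y hyU)
    have hb : q₀.out.out ∈ H₀ := (ho_iff _).mp (by rw [QuotientGroup.out_eq', hout0])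
    have he : F q₀ = χ ((⟨_, hb⟩ : H₀)⁻¹ * ⟨y, hyH⟩ * ⟨_, hb⟩) := by
      show χ _ = χ _
      congr 1
      apply Subtype.ext
      show q₀.out.out⁻¹ * y ^ Function.minimalPeriod (y • ·) q₀.out * q₀.out.out = _
      rw [hk, pow_one]; rfl
    rw [he, map_mul, map_mul, map_inv, mul_comm (χ ⟨_, hb⟩)⁻¹, inv_mul_cancel_right]
  -- the orbits of size two cancel in the orbits of `U`
  set rel := orbitRel U (G ⧸ H₀)
  set S2 := Finset.univ.filter fun q : Quotient (orbitRel (zpowers y) (G ⧸ H₀)) =>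
    q.out ≠ o ∧ (y * y) • q.out = q.out with hS2
  have hP : ∏ q ∈ S2, F q = 1 := by
    rw [← Finset.prod_fiberwise_of_maps_to (g := fun q => (Quotient.mk'' q.out : Quotient rel))
      (t := S2.image fun q => (Quotient.mk'' q.out : Quotient rel))
      (fun q hq => Finset.mem_image_of_mem _ hq)]
    refine Finset.prod_eq_one fun O hO => ?_
    obtain ⟨q₁, hq₁, rfl⟩ := Finset.mem_image.mp hO
    obtain ⟨-, hq₁o, hq₁2⟩ := Finset.mem_filter.mp hq₁
    set a₁ := q₁.out with ha₁
    have horb : ∀ b ∈ orbit U a₁, b ≠ o ∧ (y * y) • b = b := by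
      rintro _ ⟨⟨u, hu⟩, rfl⟩
      refine ⟨hne_o _ hq₁o u hu, ?_⟩
      show (y * y) • u • a₁ = u • a₁
      rw [← mul_smul, ← B.cfg.cenU u hu _ (B.cfg.sqU y hyU), mul_smul, hq₁2]
    have hsmulmem : ∀ b ∈ orbit U a₁, y • b ∈ orbit U a₁ := fun b hb =>
      mem_orbit_of_mem_orbit (⟨y, hyU⟩ : U) hb
    set s := S2.filter fun q => (Quotient.mk'' q.out : Quotient rel) = Quotient.mk'' a₁ with hs
    have hmem_s : ∀ q, q ∈ s ↔ q.out ∈ orbit U a₁ := by
      intro q
      rw [hs, Finset.mem_filter, hS2, Finset.mem_filter]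
      exact ⟨fun h => Quotient.exact' h.2,
        fun h => ⟨⟨Finset.mem_univ _, horb _ h⟩, Quotient.sound' h⟩⟩
    -- each orbit of `y` in the orbit of `U` has two elements
    have hcard : (orbit U a₁).toFinset.card = 2 * s.card := by
      have hrel : ∀ q : Quotient (orbitRel (zpowers y) (G ⧸ H₀)), ∀ b,
          (Quotient.mk'' b = q ↔ b ∈ orbit (zpowers y) q.out) := fun q b => by
        conv_lhs => rw [← Quotient.out_eq' q]
        exact ⟨fun h => Quotient.exact' h, fun h => Quotient.sound' h⟩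
      have hz : ∀ b ∈ orbit U a₁, ∀ c, c ∈ orbit (zpowers y) b ↔ c = b ∨ c = y • b := by
        intro b hb c
        refine ⟨?_, ?_⟩
        · rintro ⟨⟨g, hg⟩, rfl⟩
          obtain ⟨i, rfl⟩ := mem_zpowers_iff.mp hg
          show (y ^ i) • b = b ∨ (y ^ i) • b = y • b
          have hb2 : (y * y) ^ (i / 2) • b = b := by
            have hst : y * y ∈ stabilizer G b := (horb b hb).2
            exact zpow_mem hst _
          rcases Int.emod_two_eq_zero_or_one i with he | he
          · left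
            rw [show i = 2 * (i / 2) by omega, zpow_mul, zpow_ofNat, pow_two, hb2]
          · right
            rw [show i = 1 + 2 * (i / 2) by omega, zpow_add, zpow_one, zpow_mul, zpow_ofNat,
              pow_two, mul_smul, hb2]
        · rintro (rfl | rfl)
          · exact mem_orbit_self _
          · exact ⟨⟨y, mem_zpowers y⟩, rfl⟩
      have hmaps : ∀ b ∈ (orbit U a₁).toFinset,
          (Quotient.mk'' b : Quotient (orbitRel (zpowers y) (G ⧸ H₀))) ∈ s := by
        intro b hb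
        rw [Set.mem_toFinset] at hb
        rw [hmem_s]
        have h := (hrel (Quotient.mk'' b) b).mp rfl
        rw [mem_orbit_symm] at h
        rcases (hz b hb _).mp h with e | e
        · rw [e]; exact hb
        · rw [e]; exact hsmulmem b hb
      rw [Finset.card_eq_sum_card_fiberwise hmaps, Finset.sum_congr rfl (g := fun _ => 2)
        fun q hq => ?_, Finset.sum_const, smul_eq_mul, mul_comm]
      have hq' := (hmem_s q).mp hq
      have hset : (orbit U a₁).toFinset.filter (fun b => Quotient.mk'' b = q) =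
          {q.out, y • q.out} := by
        ext b
        rw [Finset.mem_filter, Set.mem_toFinset, hrel, hz _ hq', Finset.mem_insert,
          Finset.mem_singleton]
        exact ⟨fun h => h.2, fun h => ⟨by
          rcases h with rfl | rfl
          · exact hq'
          · exact hsmulmem _ hq', h⟩⟩
      rw [hset, Finset.card_pair]
      exact fun h => (horb _ hq').1 (hfix1 _ h.symm)
    -- the orbit of `U` has size divisible by four
    have hfour : 4 ∣ (orbit U a₁).toFinset.card := by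
      rw [← Set.ncard_eq_toFinset_card', ← index_stabilizer]
      obtain ⟨j, hj⟩ := IsPGroup.iff_card.mp B.form.pU
      obtain ⟨i, -, hi⟩ := (Nat.dvd_prime_pow Nat.prime_two).mp
        (hj ▸ (stabilizer U a₁).index_dvd_card)
      rw [hi]
      rcases i with _ | _ | i
      · exfalso
        obtain ⟨q, hq, hqc⟩ := exists_sq B (X := (stabilizer U a₁).map U.subtype)
          (by rw [relIndex, show ((stabilizer U a₁).map U.subtype).subgroupOf U = stabilizer U a₁
            from comap_map_eq_self_of_injective U.subtype_injective _, hi]; norm_num)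
        obtain ⟨u, hu, rfl⟩ := hq
        refine hq₁o ?_
        rw [← QuotientGroup.out_eq' a₁]
        refine (ho_iff _).mpr (mem_of_sq B hodd u.2 hqc ?_)
        have hu' : (u : G) • a₁ = a₁ := hu
        conv at hu' => rw [← QuotientGroup.out_eq' a₁, Quotient.smul_coe, smul_eq_mul, eq_comm,
          QuotientGroup.eq, ← mul_assoc]
        exact hu'
      · exfalso
        obtain ⟨q, hq, hqc⟩ := exists_sq B (X := (stabilizer U a₁).map U.subtype)
          (by rw [relIndex, show ((stabilizer U a₁).map U.subtype).subgroupOf U = stabilizer U a₁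
            from comap_map_eq_self_of_injective U.subtype_injective _, hi]; norm_num)
        obtain ⟨u, hu, rfl⟩ := hq
        refine hq₁o ?_
        rw [← QuotientGroup.out_eq' a₁]
        refine (ho_iff _).mpr (mem_of_sq B hodd u.2 hqc ?_)
        have hu' : (u : G) • a₁ = a₁ := hu
        conv at hu' => rw [← QuotientGroup.out_eq' a₁, Quotient.smul_coe, smul_eq_mul, eq_comm,
          QuotientGroup.eq, ← mul_assoc]
        exact hu'
      · exact ⟨2 ^ i, by ring⟩
    have hconst : ∀ q ∈ s, F q = F q₁ := by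
      intro q hq
      have hq' := (hmem_s q).mp hq
      obtain ⟨⟨u, hu⟩, hua⟩ := hq'
      have hk : ∀ q' : Quotient (orbitRel (zpowers y) (G ⧸ H₀)), q'.out ∈ orbit U a₁ →
          Function.minimalPeriod (y • ·) q'.out = 2 := by
        intro q' hq'
        have h2 : Function.IsPeriodicPt (y • ·) 2 q'.out := by
          show y • y • q'.out = q'.out
          rw [← mul_smul]; exact (horb _ hq').2
        rcases (Nat.dvd_prime Nat.prime_two).mp h2.minimalPeriod_dvd with h | h
        · exact absurd (hper1 _ h) (horb _ hq').1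
        · exact h
      have hua' : (u : G) • a₁ = q.out := hua
      conv at hua' => rw [← QuotientGroup.out_eq' a₁, ← QuotientGroup.out_eq' q.out,
        Quotient.smul_coe, smul_eq_mul, QuotientGroup.eq]
      have hd : (u * a₁.out)⁻¹ * q.out.out ∈ H₀ := hua'
      set d : H₀ := ⟨_, hd⟩ with hdd
      have he : F q = χ (d⁻¹ * ⟨a₁.out⁻¹ * y ^ Function.minimalPeriod (y • ·) a₁ * a₁.out,
          QuotientGroup.out_conj_pow_minimalPeriod_mem H₀ y a₁⟩ * d) := by
        show χ _ = χ _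
        congr 1
        apply Subtype.ext
        show q.out.out⁻¹ * y ^ Function.minimalPeriod (y • ·) q.out * q.out.out =
          ((u * a₁.out)⁻¹ * q.out.out)⁻¹ *
            (a₁.out⁻¹ * y ^ Function.minimalPeriod (y • ·) a₁ * a₁.out) *
            ((u * a₁.out)⁻¹ * q.out.out)
        rw [hk q ((hmem_s q).mp hq), hk q₁ (mem_orbit_self _), pow_two]
        have hc := B.cfg.cenU u hu _ (B.cfg.sqU y hyU)
        calc q.out.out⁻¹ * (y * y) * q.out.out
            = q.out.out⁻¹ * ((y * y) * u) * u⁻¹ * q.out.out := by group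
          _ = q.out.out⁻¹ * (u * (y * y)) * u⁻¹ * q.out.out := by rw [hc]
          _ = _ := by group
      rw [he, map_mul, map_mul, map_inv, mul_comm (χ d)⁻¹, inv_mul_cancel_right]
    rw [Finset.prod_congr rfl hconst, Finset.prod_const]
    obtain ⟨t, ht⟩ : 2 ∣ s.card := by
      rw [hcard] at hfour
      omega
    rw [ht, pow_mul, pow_two, Int.units_mul_self, one_pow]
  -- conclusion
  have hsplit : ∏ q, F q = F q₀ * ∏ q ∈ S2, F q := by
    rw [← Finset.prod_insert (show q₀ ∉ S2 from fun h =>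
      (Finset.mem_filter.mp h).2.1 ((hq₀out q₀).mp rfl))]
    refine (Finset.prod_subset (Finset.subset_univ _) fun q _ hq => ?_).symm
    by_contra hne
    have hqo : q.out ≠ o := fun h => hq (Finset.mem_insert.mpr (Or.inl ((hq₀out q).mpr h)))
    exact hq (Finset.mem_insert_of_mem (Finset.mem_filter.mpr ⟨Finset.mem_univ _, hout q hqo hne⟩))
  rw [hP, mul_one, hF0] at hsplit
  exact hχy (hsplit.symm.trans hT)

end

end H83.Shult.Transfer

namespace H83.Shult

/-- No element of `U` outside `Z` is fixed modulo `Z` by all induced automorphisms of odd order. -/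
theorem false_of_fixed_vec {G : Type*} [Group G] [Finite G] {σ : MulAut G} {r m p : ℕ}
    {S U Z H₀ : Subgroup G} (B : H41.Shult.Two σ r m p S U Z H₀)
    (hodd : Odd (Nat.card (H41.Shult.act σ U))) {v : U} (hvZ : (v : G) ∉ Z)
    (hv : ∀ φ ∈ H41.Shult.act σ U, φ v * v⁻¹ ∈ Z.subgroupOf U) : False :=
  Transfer.false_of_fixed_vec B hodd hvZ hv

end H83.Shult
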