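import Cfsg.Agent.H41.Shult.Coprime
import Mathlib.GroupTheory.Sylow
import Mathlib.GroupTheory.Abelianization.Defs

/-!
Generic facts for reading the minimal configuration of Shult's theorem modulo the centre: the centre
of a perfect group modulo its centre, Sylow 2-subgroups, the character of a subgroup of index two.
-/

set_option autoImplicit false
set_option linter.unusedSectionVars false
set_option linter.style.haveILetI false

open Subgroup

namespace H83.Shult

open H41.Shult (IsSylTwo)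

variable {G : Type*} [Group G]

/-- A perfect group has trivial centre modulo its centre. -/
theorem center_quotient_center (hperf : commutator G = ⊤) :
    center (G ⧸ center G) = ⊥ := by
  rw [eq_bot_iff]
  intro w hw
  obtain ⟨x, rfl⟩ := QuotientGroup.mk_surjective w
  have hc : ∀ g : G, g * x * g⁻¹ * x⁻¹ ∈ center G := by
    intro g
    rw [← QuotientGroup.eq_one_iff]
    have h := mem_center_iff.mp hw (g : G ⧸ center G)
    simp only [QuotientGroup.mk_mul, QuotientGroup.mk_inv]
    rw [h]; group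
  let f : G →* center G :=
    { toFun := fun g => ⟨g * x * g⁻¹ * x⁻¹, hc g⟩
      map_one' := Subtype.ext (by simp)
      map_mul' := fun a b => Subtype.ext (by
        show a * b * x * (a * b)⁻¹ * x⁻¹ = a * x * a⁻¹ * x⁻¹ * (b * x * b⁻¹ * x⁻¹)
        calc a * b * x * (a * b)⁻¹ * x⁻¹
            = a * (b * x * b⁻¹ * x⁻¹) * a⁻¹ * (a * x * a⁻¹ * x⁻¹) := by group
          _ = (b * x * b⁻¹ * x⁻¹) * (a * x * a⁻¹ * x⁻¹) := by
              rw [mem_center_iff.mp (hc b) a]; group
          _ = _ := (mem_center_iff.mp (hc b) _).symm) }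
  rw [mem_bot, QuotientGroup.eq_one_iff]
  refine mem_center_iff.mpr fun g => ?_
  have hg : f g = 1 := by
    letI : CommGroup (center G) :=
      { (inferInstance : Group (center G)) with
        mul_comm := fun a b => Subtype.ext (mem_center_iff.mp b.2 a) }
    exact Abelianization.commutator_subset_ker f (hperf ▸ mem_top g)
  have h1 : g * x * g⁻¹ * x⁻¹ = 1 := congrArg Subtype.val hg
  rwa [mul_inv_eq_one, mul_inv_eq_iff_eq_mul] at h1

variable [Finite G]

/-- A 2-subgroup of odd index is a Sylow 2-subgroup. -/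
theorem isSylTwo_top {P : Subgroup G} (hP : IsPGroup 2 P) (hi : ¬ 2 ∣ P.index) :
    IsSylTwo ⊤ P := by
  haveI : Fact (Nat.Prime 2) := ⟨Nat.prime_two⟩
  obtain ⟨P', hP'⟩ := hP.exists_le_sylow
  obtain ⟨k, hk⟩ := IsPGroup.iff_card.mp P'.2
  have h1 : P.relIndex P' ∣ 2 ^ k := hk ▸ relIndex_dvd_card P _
  have he : (P' : Subgroup G) ≤ P := by
    refine relIndex_eq_one.mp ?_
    obtain ⟨j, -, hj⟩ := (Nat.dvd_prime_pow Nat.prime_two).mp h1
    rcases j with _ | j
    · simpa using hj
    · exact absurd ((Dvd.intro_left _ (pow_succ 2 j).symm).trans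
        (hj ▸ relIndex_dvd_index_of_le hP')) hi
  refine ⟨le_top, hP, fun T _ hT => ?_⟩
  obtain ⟨P'', hT''⟩ := hT.exists_le_sylow
  obtain ⟨g, hg⟩ := MulAction.exists_smul_eq G P'' P'
  refine ⟨g, mem_top g, fun t ht => he ?_⟩
  rw [← hg]
  exact ⟨t, hT'' ht, rfl⟩

/-- A normal subgroup that is a 2-group modulo `N` lies in `N` times a Sylow 2-subgroup. -/
theorem le_sup_of_sylTwo {H N Q L : Subgroup G} (hQ : IsSylTwo H Q) (hN : N ≤ H)
    (hHN : H ≤ normalizer (N : Set G)) (hL : L ≤ H) (hHL : H ≤ normalizer (L : Set G))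
    (hpow : ∀ x ∈ L, ∃ n : ℕ, x ^ 2 ^ n ∈ N) : L ≤ N ⊔ Q := by
  haveI : Fact (Nat.Prime 2) := ⟨Nat.prime_two⟩
  haveI : (N.subgroupOf H).Normal := (normal_subgroupOf_iff_le_normalizer hN).mpr hHN
  haveI : (L.subgroupOf H).Normal := (normal_subgroupOf_iff_le_normalizer hL).mpr hHL
  obtain ⟨P, hP⟩ := (hQ.2.1.of_equiv (subgroupOfEquivOfLe hQ.1).symm).exists_le_sylow
  have hPQ : Q.subgroupOf H = (P : Subgroup H) := by
    refine eq_of_le_of_card_ge hP ?_
    have h := hQ.card_le (map_subtype_le (P : Subgroup H)) (P.2.map _)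
    rw [card_map_of_injective H.subtype_injective] at h
    rwa [Nat.card_congr (subgroupOfEquivOfLe hQ.1).toEquiv]
  set π := QuotientGroup.mk' (N.subgroupOf H) with hπ
  have hsurj : Function.Surjective π := QuotientGroup.mk'_surjective _
  have h2 : IsPGroup 2 ((L.subgroupOf H).map π) := by
    rintro ⟨_, x, hx, rfl⟩
    obtain ⟨n, hn⟩ := hpow _ (mem_subgroupOf.mp hx)
    refine ⟨n, Subtype.ext ?_⟩
    show π x ^ 2 ^ n = 1
    rw [← map_pow]
    exact (QuotientGroup.eq_one_iff _).mpr (mem_subgroupOf.mpr (by simpa using hn))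
  haveI : ((L.subgroupOf H).map π).Normal := Subgroup.Normal.map inferInstance π hsurj
  have hle := h2.le_sylow_of_normal (P.mapSurjective hsurj)
  intro l hl
  obtain ⟨q, hq, hql⟩ := hle ⟨⟨l, hL hl⟩, mem_subgroupOf.mpr hl, rfl⟩
  have hqQ : (q : G) ∈ Q := mem_subgroupOf.mp (hPQ.ge hq)
  have hn : (q : G)⁻¹ * l ∈ N := mem_subgroupOf.mp (QuotientGroup.eq.mp hql)
  simpa using mul_mem (mem_sup_right (S := N) hqQ) (mem_sup_left (T := Q) hn)

omit [Finite G] in
/-- A subgroup of index two is the kernel of a sign character. -/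
theorem exists_char_of_index_two {A : Subgroup G} (hA : A.index = 2) :
    ∃ ε : G →* ℤˣ, ∀ a, ε a = 1 ↔ a ∈ A := by
  classical
  refine ⟨{ toFun := fun a => if a ∈ A then 1 else -1
            map_one' := by simp [one_mem]
            map_mul' := fun a b => ?_ }, fun a => ?_⟩
  · have h := mul_mem_iff_of_index_two hA (a := a) (b := b)
    by_cases ha : a ∈ A <;> by_cases hb : b ∈ A <;> simp_all
  · show (if a ∈ A then (1 : ℤˣ) else -1) = 1 ↔ a ∈ A
    split <;> rename_i h <;> simp [h]

end H83.Shult
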