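import Mathlib.GroupTheory.Sylow
import Mathlib.Data.Fintype.Lattice
import Mathlib.GroupTheory.PGroup
import Mathlib.GroupTheory.Commutator.Basic

/-!
Setting for the closure of the centre `Z` of the special group `U` in the minimal configuration of
Shult's fixed point theorem, allowing `Z` to meet the centre of `G`, with the algebra of the
commutator pairing on `U` modulo the centre of `G`.
-/

set_option autoImplicit false

open Subgroup
open scoped commutatorElement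

namespace H83.Shult

variable {G : Type*} [Group G]

/-- The subgroup generated by the translates of `x`. -/
def orb (σ : MulAut G) (x : G) : Subgroup G := closure (Set.range fun k : ℕ => (σ ^ k) x)

/-- All translates of `x` commute with `x` modulo the centre. -/
def Singular (σ : MulAut G) (x : G) : Prop := ∀ k : ℕ, ⁅(σ ^ k) x, x⁆ ∈ center G

/-- The configuration: `U` and its centre `Z` are normal in `M`, the automorphism `σ` of prime
order fixes exactly `Z` on `U`, and `M = C_M(σ) U`. -/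
structure CC (σ : MulAut G) (r : ℕ) (M U Z : Subgroup G) : Prop where
  hr : r.Prime
  hodd : Odd r
  hσ : σ ^ r = 1
  hcop : ¬ r ∣ Nat.card G
  hCM : ∀ g : G, σ g = g → g ∈ M
  hUM : U ≤ M
  hZU : Z ≤ U
  normU : ∀ m ∈ M, ∀ u ∈ U, m * u * m⁻¹ ∈ U
  normZ : ∀ m ∈ M, ∀ z ∈ Z, m * z * m⁻¹ ∈ Z
  sqU : ∀ u ∈ U, u * u ∈ Z
  comU : ∀ u ∈ U, ∀ v ∈ U, ⁅u, v⁆ ∈ Z
  cenU : ∀ u ∈ U, ∀ z ∈ Z, u * z = z * u
  sqZ : ∀ z ∈ Z, z * z = 1
  sigU : ∀ u ∈ U, σ u ∈ U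
  fixZ : ∀ z ∈ Z, σ z = z
  fixU : ∀ u ∈ U, σ u = u → u ∈ Z
  fixC : ∀ k ∈ center G, σ k = k
  genU : U ≤ closure {b | ∃ a ∈ U, b = a⁻¹ * σ a}
  decomp : ∀ m ∈ M, ∃ c ∈ M, σ c = c ∧ ∃ u ∈ U, m = c * u
  cent : ∀ c ∈ M, σ c = c → (∃ n : ℕ, c ^ 2 ^ n = 1) → (∀ z ∈ Z, c * z = z * c) →
    ∀ u ∈ U, c * u = u * c
  two_center : ∀ a ∈ Z, ∀ b ∈ Z, a ∈ center G → b ∈ center G → a ≠ 1 → b ≠ 1 → a = b
  hC : ∀ e ∈ Z, e ∉ center G → ∀ g : G, g * e = e * g → g ∈ M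
  hQ : ∀ x ∈ U, x ∉ Z → Singular σ x →
    ∀ h ∈ U, (∀ k : ℕ, Commute ((σ ^ k) x) h) → h ∈ Z
  hN : ∀ R : Subgroup G, R ≤ M → IsPGroup 2 R → (∀ h ∈ R, σ h ∈ R) →
    (∃ x ∈ U, x ∉ Z ∧ Singular σ x ∧ ∀ k : ℕ, (σ ^ k) x ∈ R) →
    normalizer (R : Set G) ≤ M

/-- The values `[c, a] z` for `a ∈ U`, `z ∈ Z`. -/
def InIm (U Z : Subgroup G) (c b : G) : Prop := ∃ a ∈ U, ∃ z ∈ Z, b = ⁅c, a⁆ * z

theorem comm_mul_left (a b c : G) : ⁅a * b, c⁆ = a * ⁅b, c⁆ * a⁻¹ * ⁅a, c⁆ := by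
  simp only [commutatorElement_def]; group

theorem comm_mul_right (a b c : G) : ⁅a, b * c⁆ = ⁅a, b⁆ * (b * ⁅a, c⁆ * b⁻¹) := by
  simp only [commutatorElement_def]; group

theorem conj_eq_self_of_mem_center {k : G} (hk : k ∈ center G) (g : G) : g * k * g⁻¹ = k := by
  rw [mem_center_iff.mp hk g, mul_inv_cancel_right]

theorem conj_mem_center {k : G} (hk : k ∈ center G) (g : G) : g * k * g⁻¹ ∈ center G := by
  rwa [conj_eq_self_of_mem_center hk]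

theorem orb_le {σ : MulAut G} {x : G} {H : Subgroup G} (h : ∀ k : ℕ, (σ ^ k) x ∈ H) :
    orb σ x ≤ H := by
  rw [orb, closure_le]; rintro _ ⟨k, rfl⟩; exact h k

theorem mem_orb (σ : MulAut G) (x : G) (k : ℕ) : (σ ^ k) x ∈ orb σ x :=
  subset_closure ⟨k, rfl⟩

theorem self_mem_orb (σ : MulAut G) (x : G) : x ∈ orb σ x := by
  simpa using mem_orb σ x 0

theorem apply_mem_orb {σ : MulAut G} {x y : G} (hy : y ∈ orb σ x) : σ y ∈ orb σ x := by
  have h : (orb σ x).map σ.toMonoidHom ≤ orb σ x := by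
    rw [orb, MonoidHom.map_closure, closure_le]
    rintro _ ⟨_, ⟨k, rfl⟩, rfl⟩
    exact subset_closure ⟨k + 1, by simp [pow_succ']⟩
  exact h (mem_map_of_mem σ.toMonoidHom hy)

theorem pow_apply_mem_orb {σ : MulAut G} {x y : G} (hy : y ∈ orb σ x) (k : ℕ) :
    (σ ^ k) y ∈ orb σ x := by
  induction k with
  | zero => exact hy
  | succ n ih => rw [pow_succ', MulAut.mul_apply]; exact apply_mem_orb ih

namespace CC

variable {σ : MulAut G} {r : ℕ} {M U Z : Subgroup G}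

theorem mulZ (C : CC σ r M U Z) {a b : G} (ha : a ∈ Z) (hb : b ∈ Z) : a * b = b * a :=
  C.cenU a (C.hZU ha) b hb

theorem inv_eq (C : CC σ r M U Z) {z : G} (hz : z ∈ Z) : z⁻¹ = z :=
  inv_eq_of_mul_eq_one_right (C.sqZ z hz)

theorem conjZ (C : CC σ r M U Z) {u z : G} (hu : u ∈ U) (hz : z ∈ Z) : u * z * u⁻¹ = z := by
  rw [C.cenU u hu z hz, mul_inv_cancel_right]

theorem pow_fix_of_eq {σ : MulAut G} {z : G} (hz : σ z = z) (i : ℕ) : (σ ^ i) z = z := by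
  induction i with
  | zero => rfl
  | succ n ih => rw [pow_succ, MulAut.mul_apply, hz, ih]

theorem pow_mem (C : CC σ r M U Z) {u : G} (hu : u ∈ U) (i : ℕ) : (σ ^ i) u ∈ U := by
  induction i with
  | zero => exact hu
  | succ n ih => rw [pow_succ', MulAut.mul_apply]; exact C.sigU _ ih

theorem zero_left (C : CC σ r M U Z) {z a : G} (hz : z ∈ Z) (ha : a ∈ U) : ⁅z, a⁆ = 1 :=
  commutatorElement_eq_one_iff_mul_comm.mpr (C.cenU a ha z hz).symm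

theorem zero_right (C : CC σ r M U Z) {z a : G} (hz : z ∈ Z) (ha : a ∈ U) : ⁅a, z⁆ = 1 :=
  commutatorElement_eq_one_iff_mul_comm.mpr (C.cenU a ha z hz)

theorem bilL (C : CC σ r M U Z) {a b c : G} (ha : a ∈ U) (hb : b ∈ U) (hc : c ∈ U) :
    ⁅a * b, c⁆ = ⁅a, c⁆ * ⁅b, c⁆ := by
  rw [comm_mul_left, C.conjZ ha (C.comU b hb c hc), C.mulZ (C.comU b hb c hc) (C.comU a ha c hc)]

theorem bilR (C : CC σ r M U Z) {a b c : G} (ha : a ∈ U) (hb : b ∈ U) (hc : c ∈ U) :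
    ⁅a, b * c⁆ = ⁅a, b⁆ * ⁅a, c⁆ := by
  rw [comm_mul_right, C.conjZ hb (C.comU a ha c hc)]

theorem symm (C : CC σ r M U Z) {a b : G} (ha : a ∈ U) (hb : b ∈ U) : ⁅b, a⁆ = ⁅a, b⁆ := by
  rw [← commutatorElement_inv, C.inv_eq (C.comU a ha b hb)]

theorem invL (C : CC σ r M U Z) {a b : G} (ha : a ∈ U) (hb : b ∈ U) : ⁅a⁻¹, b⁆ = ⁅a, b⁆ := by
  have h := C.bilL ha (inv_mem ha) hb
  rw [mul_inv_cancel, commutatorElement_one_left] at h
  rw [← C.inv_eq (C.comU a ha b hb)]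
  exact eq_inv_of_mul_eq_one_right h.symm

theorem invR (C : CC σ r M U Z) {a b : G} (ha : a ∈ U) (hb : b ∈ U) : ⁅a, b⁻¹⁆ = ⁅a, b⁆ := by
  rw [C.symm (inv_mem hb) ha, C.invL hb ha, C.symm hb ha]

theorem sig_comm (C : CC σ r M U Z) (k : ℕ) {a b : G} (ha : a ∈ U) (hb : b ∈ U) :
    ⁅(σ ^ k) a, (σ ^ k) b⁆ = ⁅a, b⁆ := by
  rw [← map_commutatorElement]
  exact pow_fix_of_eq (C.fixZ _ (C.comU a ha b hb)) k

theorem pow_mul_r (C : CC σ r M U Z) (k : ℕ) : σ ^ (r * k) = 1 := by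
  rw [pow_mul, C.hσ, one_pow]

theorem shift (C : CC σ r M U Z) (k l : ℕ) {a b : G} (ha : a ∈ U) (hb : b ∈ U) :
    ⁅(σ ^ k) a, (σ ^ l) b⁆ = ⁅(σ ^ (k + (r - 1) * l)) a, b⁆ := by
  rw [← C.sig_comm ((r - 1) * l) (C.pow_mem ha k) (C.pow_mem hb l)]
  simp only [← MulAut.mul_apply, ← pow_add]
  have h : (r - 1) * l + l = r * l := by
    obtain ⟨m, hm⟩ := Nat.exists_eq_succ_of_ne_zero C.hr.ne_zero
    subst hm; simp [Nat.succ_mul]
  rw [h, C.pow_mul_r, MulAut.one_apply, add_comm]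

/-- The elements of `U` commuting with `b` modulo the centre. -/
def perpTo (C : CC σ r M U Z) (b : G) (hb : b ∈ U) : Subgroup G where
  carrier := {a | a ∈ U ∧ ⁅a, b⁆ ∈ center G}
  one_mem' := ⟨one_mem U, by rw [commutatorElement_one_left]; exact one_mem _⟩
  mul_mem' {a a'} ha ha' :=
    ⟨mul_mem ha.1 ha'.1, by rw [C.bilL ha.1 ha'.1 hb]; exact mul_mem ha.2 ha'.2⟩
  inv_mem' {a} ha := ⟨inv_mem ha.1, by rw [C.invL ha.1 hb]; exact ha.2⟩

theorem perp_orb (C : CC σ r M U Z) {x b : G} (hx : x ∈ U) (hb : b ∈ U)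
    (h : ∀ k : ℕ, ⁅(σ ^ k) x, b⁆ ∈ center G) {q : G} (hq : q ∈ orb σ x) : ⁅q, b⁆ ∈ center G :=
  (orb_le (H := C.perpTo b hb) (fun k => ⟨C.pow_mem hx k, h k⟩) hq).2

theorem orb_leU (C : CC σ r M U Z) {x : G} (hx : x ∈ U) : orb σ x ≤ U :=
  orb_le (C.pow_mem hx)

theorem orb_pair (C : CC σ r M U Z) {x : G} (hx : x ∈ U) (h : Singular σ x) {q q' : G}
    (hq : q ∈ orb σ x) (hq' : q' ∈ orb σ x) : ⁅q, q'⁆ ∈ center G := by
  have hU := C.orb_leU hx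
  refine C.perp_orb hx (hU hq') (fun k => ?_) hq
  rw [C.symm (hU hq') (C.pow_mem hx k)]
  refine C.perp_orb hx (C.pow_mem hx k) (fun l => ?_) hq'
  rw [C.shift l k hx hx]
  exact h _

theorem singular_of_mem (C : CC σ r M U Z) {x y : G} (hx : x ∈ U) (h : Singular σ x)
    (hy : y ∈ orb σ x) : Singular σ y :=
  fun k => C.orb_pair hx h (pow_apply_mem_orb hy k) hy

theorem exists_mul_sup (C : CC σ r M U Z) {x b : G} (hx : x ∈ U) (hb : b ∈ orb σ x ⊔ Z) :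
    ∃ q ∈ orb σ x, ∃ z ∈ Z, b = q * z := by
  let T : Subgroup G :=
    { carrier := {b | ∃ q ∈ orb σ x, ∃ z ∈ Z, b = q * z}
      one_mem' := ⟨1, one_mem _, 1, one_mem _, (one_mul 1).symm⟩
      mul_mem' := by
        rintro _ _ ⟨q, hq, z, hz, rfl⟩ ⟨q', hq', z', hz', rfl⟩
        refine ⟨q * q', mul_mem hq hq', z * z', mul_mem hz hz', ?_⟩
        rw [mul_assoc q z, ← mul_assoc z q', ← C.cenU q' (C.orb_leU hx hq') z hz]
        group
      inv_mem' := by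
        rintro _ ⟨q, hq, z, hz, rfl⟩
        exact ⟨q⁻¹, inv_mem hq, z⁻¹, inv_mem hz, by
          rw [mul_inv_rev]; exact (C.cenU _ (inv_mem (C.orb_leU hx hq)) _ (inv_mem hz)).symm⟩ }
  exact (sup_le (c := T) (fun q hq => ⟨q, hq, 1, one_mem _, (mul_one q).symm⟩)
    (fun z hz => ⟨1, one_mem _, z, hz, (one_mul z).symm⟩)) hb

theorem sup_leU (C : CC σ r M U Z) {x : G} (hx : x ∈ U) : orb σ x ⊔ Z ≤ U :=
  sup_le (C.orb_leU hx) C.hZU

theorem sup_pair (C : CC σ r M U Z) {x : G} (hx : x ∈ U) (h : Singular σ x) {a b : G}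
    (ha : a ∈ orb σ x ⊔ Z) (hb : b ∈ orb σ x ⊔ Z) : ⁅a, b⁆ ∈ center G := by
  obtain ⟨q, hq, z, hz, rfl⟩ := C.exists_mul_sup hx ha
  obtain ⟨q', hq', z', hz', rfl⟩ := C.exists_mul_sup hx hb
  have hqU := C.orb_leU hx hq
  have hq'U := C.orb_leU hx hq'
  rw [C.bilL hqU (C.hZU hz) (mul_mem hq'U (C.hZU hz')),
    C.zero_left hz (mul_mem hq'U (C.hZU hz')), mul_one, C.bilR hqU hq'U (C.hZU hz'),
    C.zero_right hz' hqU, mul_one]
  exact C.orb_pair hx h hq hq'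

theorem sup_apply (C : CC σ r M U Z) {x : G} (hx : x ∈ U) {a : G} (ha : a ∈ orb σ x ⊔ Z)
    (k : ℕ) : (σ ^ k) a ∈ orb σ x ⊔ Z := by
  obtain ⟨q, hq, z, hz, rfl⟩ := C.exists_mul_sup hx ha
  rw [map_mul, pow_fix_of_eq (C.fixZ z hz)]
  exact mul_mem_sup (pow_apply_mem_orb hq k) hz

/-- Self-duality: whatever commutes with a singular orbit modulo the centre is in its span. -/
theorem dual [Finite G] (C : CC σ r M U Z) {x b : G} (hx : x ∈ U) (hxZ : x ∉ Z)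
    (hs : Singular σ x) (hb : b ∈ U) (h : ∀ k : ℕ, ⁅(σ ^ k) x, b⁆ ∈ center G) :
    b ∈ orb σ x ⊔ Z := by
  let D : Subgroup G :=
    { carrier := {b | b ∈ U ∧ ∀ k : ℕ, ⁅(σ ^ k) x, b⁆ ∈ center G}
      one_mem' := ⟨one_mem U, fun k => by rw [commutatorElement_one_right]; exact one_mem _⟩
      mul_mem' := fun {a a'} ha ha' => ⟨mul_mem ha.1 ha'.1, fun k => by
        rw [C.bilR (C.pow_mem hx k) ha.1 ha'.1]; exact mul_mem (ha.2 k) (ha'.2 k)⟩
      inv_mem' := fun {a} ha => ⟨inv_mem ha.1, fun k => by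
        rw [C.invR (C.pow_mem hx k) ha.1]; exact ha.2 k⟩ }
  set Q := orb σ x ⊔ Z with hQ
  have hQD : Q ≤ D := fun a ha => ⟨C.sup_leU hx ha, fun k =>
    C.sup_pair hx hs (mem_sup_left (mem_orb σ x k)) ha⟩
  let K : Subgroup G → Subgroup G := fun A => D ⊓ centralizer (A : Set G)
  let P : Subgroup G → Prop := fun A =>
    Z ≤ A ∧ A ≤ Q ∧ Nat.card D * Nat.card Z ≤ Nat.card (K A) * Nat.card A
  have hKZ : K Z = D := inf_eq_left.mpr fun a ha z hz => (C.cenU a ha.1 z hz).symm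
  have : Nonempty {A : Subgroup G // P A} :=
    ⟨⟨Z, le_rfl, le_sup_right, by rw [hKZ]⟩⟩
  obtain ⟨⟨A, hZA, hAQ, hcard⟩, hmax⟩ :=
    Finite.exists_max (fun A : {A : Subgroup G // P A} => Nat.card A.1)
  have hAeq : A = Q := by
    by_contra hne
    obtain ⟨a, haQ, haA⟩ := SetLike.exists_of_lt (lt_of_le_of_ne hAQ hne)
    set A' := A ⊔ zpowers a with hA'
    have hlt : A < A' := lt_of_le_of_ne le_sup_left fun he =>
      haA (he ▸ mem_sup_right (mem_zpowers a))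
    have h2 : 2 * Nat.card A ≤ Nat.card A' := by
      obtain ⟨q, hq⟩ := card_dvd_of_le hlt.le
      have hA0 : 0 < Nat.card A := Nat.card_pos
      have hne' : Nat.card A ≠ Nat.card A' := fun he =>
        hlt.ne (eq_of_le_of_card_ge hlt.le he.ge)
      rcases q with _ | _ | q
      · have : 0 < Nat.card A' := Nat.card_pos
        omega
      · exact absurd (by simpa using hq.symm) hne'
      · rw [hq]; nlinarith
    have haU : a ∈ U := C.sup_leU hx haQ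
    have hval : ∀ w ∈ K A, ⁅a, w⁆ ∈ Z ∧ ⁅a, w⁆ ∈ center G := by
      intro w hw
      have hwU : w ∈ U := hw.1.1
      refine ⟨C.comU a haU w hwU, ?_⟩
      obtain ⟨q, hq, z, hz, rfl⟩ := C.exists_mul_sup hx haQ
      rw [C.bilL (C.orb_leU hx hq) (C.hZU hz) hwU, C.zero_left hz hwU, mul_one]
      exact C.perp_orb hx hwU hw.1.2 hq
    have hK : Nat.card (K A) ≤ 2 * Nat.card (K A') := by
      have hmem : ∀ w ∈ K A, ⁅a, w⁆ = 1 → w ∈ K A' := by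
        intro w hw h1
        refine ⟨hw.1, fun y hy => ?_⟩
        have hle : A' ≤ centralizer ({w} : Set G) := by
          refine sup_le (fun y hy => mem_centralizer_singleton_iff.mpr (hw.2 y hy)) ?_
          rw [zpowers_le, mem_centralizer_singleton_iff]
          exact commutatorElement_eq_one_iff_mul_comm.mp h1
        exact mem_centralizer_singleton_iff.mp (hle hy)
      classical
      by_cases hex : ∃ w ∈ K A, ⁅a, w⁆ ≠ 1
      · obtain ⟨w₀, hw₀, hw₀1⟩ := hex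
        have hdiv : ∀ w ∈ K A, ⁅a, w⁆ ≠ 1 → w₀⁻¹ * w ∈ K A' := by
          intro w hw hw1
          refine hmem _ (mul_mem (inv_mem hw₀) hw) ?_
          rw [C.bilR haU (inv_mem hw₀.1.1) hw.1.1, C.invR haU hw₀.1.1,
            C.two_center _ (hval w hw).1 _ (hval w₀ hw₀).1 (hval w hw).2 (hval w₀ hw₀).2 hw1 hw₀1]
          exact C.sqZ _ (hval w₀ hw₀).1
        let f : K A → K A' × Bool := fun w =>
          if h1 : ⁅a, (w : G)⁆ = 1 then (⟨w, hmem w w.2 h1⟩, true)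
          else (⟨w₀⁻¹ * w, hdiv w w.2 h1⟩, false)
        have hf : Function.Injective f := by
          intro v w hvw
          simp only [f] at hvw
          split at hvw <;> split at hvw <;> simp at hvw <;> exact hvw
        have h := Nat.card_le_card_of_injective f hf
        rwa [Nat.card_prod, Nat.card_eq_fintype_card (α := Bool), Fintype.card_bool, mul_comm] at h
      · have hle : K A ≤ K A' := fun w hw => hmem w hw (by_contra fun h1 => hex ⟨w, hw, h1⟩)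
        have h : Nat.card (K A) ≤ Nat.card (K A') :=
          Nat.card_le_card_of_injective _ (inclusion_injective hle)
        omega
    have hA'P : P A' := ⟨hZA.trans le_sup_left, sup_le hAQ (zpowers_le.mpr haQ), hcard.trans (by
      calc Nat.card (K A) * Nat.card A ≤ 2 * Nat.card (K A') * Nat.card A :=
            Nat.mul_le_mul_right _ hK
        _ = Nat.card (K A') * (2 * Nat.card A) := by ring
        _ ≤ Nat.card (K A') * Nat.card A' := Nat.mul_le_mul_left _ h2)⟩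
    have := hmax ⟨A', hA'P⟩
    have hA0 : 0 < Nat.card A := Nat.card_pos
    simp at this
    omega
  have hKle : K A ≤ Z := by
    intro w hw
    refine C.hQ x hx hxZ hs w hw.1.1 fun k => ?_
    exact hw.2 _ (by rw [hAeq]; exact mem_sup_left (mem_orb σ x k))
  have hle : Nat.card D ≤ Nat.card A := by
    have h1 : Nat.card (K A) * Nat.card A ≤ Nat.card A * Nat.card Z := by
      rw [mul_comm (Nat.card A)]
      exact Nat.mul_le_mul_right _ (card_le_of_le hKle)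
    exact Nat.le_of_mul_le_mul_right (hcard.trans h1) Nat.card_pos
  have hDA : A = D := eq_of_le_of_card_ge (hAeq ▸ hQD) hle
  rw [← hAeq, hDA]
  exact ⟨hb, h⟩

theorem inIm_mul (C : CC σ r M U Z) {c : G} (hc : c ∈ M) {a b : G} (ha : InIm U Z c a)
    (hb : InIm U Z c b) : InIm U Z c (a * b) := by
  obtain ⟨a₁, ha₁, z₁, hz₁, rfl⟩ := ha
  obtain ⟨a₂, ha₂, z₂, hz₂, rfl⟩ := hb
  have hk : ⁅c, a₂⁆ ∈ U := by
    rw [commutatorElement_def]; exact mul_mem (C.normU c hc a₂ ha₂) (inv_mem ha₂)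
  refine ⟨a₁ * a₂, mul_mem ha₁ ha₂, ⁅a₁, ⁅c, a₂⁆⁆⁻¹ * (z₁ * z₂), ?_, ?_⟩
  · exact mul_mem (inv_mem (C.comU a₁ ha₁ _ hk)) (mul_mem hz₁ hz₂)
  · rw [comm_mul_right]
    have e : a₁ * ⁅c, a₂⁆ * a₁⁻¹ = ⁅c, a₂⁆ * ⁅a₁, ⁅c, a₂⁆⁆ := by
      rw [C.cenU _ hk _ (C.comU a₁ ha₁ _ hk), commutatorElement_def a₁]; group
    rw [e]
    calc ⁅c, a₁⁆ * z₁ * (⁅c, a₂⁆ * z₂) = ⁅c, a₁⁆ * (z₁ * ⁅c, a₂⁆) * z₂ := by group
      _ = ⁅c, a₁⁆ * (⁅c, a₂⁆ * z₁) * z₂ := by rw [C.cenU _ hk z₁ hz₁]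
      _ = _ := by group

theorem inIm_inv (C : CC σ r M U Z) {c : G} (hc : c ∈ M) {a : G} (ha : InIm U Z c a) :
    InIm U Z c a⁻¹ := by
  obtain ⟨a, ha, z, hz, rfl⟩ := ha
  have hk : ⁅c, a⁻¹⁆ ∈ U := by
    rw [commutatorElement_def]; exact mul_mem (C.normU c hc _ (inv_mem ha)) (inv_mem (inv_mem ha))
  refine ⟨a⁻¹, inv_mem ha, ⁅a, ⁅c, a⁻¹⁆⁆ * z, mul_mem (C.comU a ha _ hk) hz, ?_⟩
  rw [← mul_assoc, C.cenU _ hk _ (C.comU a ha _ hk), mul_inv_rev, C.inv_eq hz]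
  have hkU : ⁅c, a⁆ ∈ U := by
    rw [commutatorElement_def]; exact mul_mem (C.normU c hc a ha) (inv_mem ha)
  rw [← C.cenU _ (inv_mem hkU) z hz]
  congr 1
  simp only [commutatorElement_def]; group

/-- `[U, c] Z` as a subgroup. -/
def imN (C : CC σ r M U Z) (c : G) (hc : c ∈ M) : Subgroup G where
  carrier := {b | InIm U Z c b}
  one_mem' := ⟨1, one_mem _, 1, one_mem _, by simp⟩
  mul_mem' := C.inIm_mul hc
  inv_mem' := C.inIm_inv hc

theorem imN_leU (C : CC σ r M U Z) {c : G} (hc : c ∈ M) : C.imN c hc ≤ U := by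
  rintro _ ⟨a, ha, z, hz, rfl⟩
  rw [commutatorElement_def]
  exact mul_mem (mul_mem (C.normU c hc a ha) (inv_mem ha)) (C.hZU hz)

theorem Z_le_imN (C : CC σ r M U Z) {c : G} (hc : c ∈ M) : Z ≤ C.imN c hc :=
  fun z hz => ⟨1, one_mem _, z, hz, by simp⟩

theorem comm_mem_imN (C : CC σ r M U Z) {c a : G} (hc : c ∈ M) (ha : a ∈ U) :
    ⁅c, a⁆ ∈ C.imN c hc := ⟨a, ha, 1, one_mem _, (mul_one _).symm⟩

theorem imN_apply (C : CC σ r M U Z) {c : G} (hc : c ∈ M) (hσc : σ c = c) {b : G}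
    (hb : b ∈ C.imN c hc) (k : ℕ) : (σ ^ k) b ∈ C.imN c hc := by
  obtain ⟨a, ha, z, hz, rfl⟩ := hb
  refine ⟨(σ ^ k) a, C.pow_mem ha k, z, hz, ?_⟩
  rw [map_mul, map_commutatorElement, pow_fix_of_eq (C.fixZ z hz), pow_fix_of_eq hσc]

theorem imN_le_Z (C : CC σ r M U Z) {c : G} (hc : c ∈ M) (h : ∀ a ∈ U, c * a = a * c) :
    C.imN c hc ≤ Z := by
  rintro _ ⟨a, ha, z, hz, rfl⟩
  rwa [commutatorElement_eq_one_iff_mul_comm.mpr (h a ha), one_mul]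

theorem comm_imN_mem (C : CC σ r M U Z) {c : G} (hc : c ∈ M)
    (h2 : ∀ a ∈ U, c * c * a = a * (c * c)) {b : G} (hb : b ∈ C.imN c hc) : ⁅c, b⁆ ∈ Z := by
  obtain ⟨a, ha, z, hz, rfl⟩ := hb
  have hcZ : ⁅c, z⁆ ∈ Z := by
    rw [commutatorElement_def]; exact mul_mem (C.normZ c hc z hz) (inv_mem hz)
  have hy : c * a * c⁻¹ ∈ U := C.normU c hc a ha
  have hk : ⁅c, a⁆ ∈ U := by
    rw [commutatorElement_def]; exact mul_mem hy (inv_mem ha)
  rw [comm_mul_right, C.conjZ hk hcZ]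
  refine mul_mem ?_ hcZ
  have e : ⁅c, ⁅c, a⁆⁆ = (a * (c * a * c⁻¹)⁻¹) * (a * (c * a * c⁻¹)⁻¹) := by
    calc ⁅c, ⁅c, a⁆⁆ = c * c * a * (c * c)⁻¹ * (c * a⁻¹ * c⁻¹ * a * (c * a * c⁻¹)⁻¹) := by
          simp only [commutatorElement_def]; group
      _ = a * (c * a⁻¹ * c⁻¹ * a * (c * a * c⁻¹)⁻¹) := by
          rw [h2 a ha, mul_inv_cancel_right]
      _ = _ := by group
  rw [e]
  exact C.sqU _ (mul_mem ha (inv_mem hy))

/-- A transvection is self-adjoint for the commutator pairing modulo the centre. -/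
theorem trans_adj (C : CC σ r M U Z) {c : G} (hc : c ∈ M)
    (h2 : ∀ a ∈ U, c * c * a = a * (c * c)) (htr : ∀ z ∈ Z, ⁅c, z⁆ ∈ center G) {a b : G}
    (ha : a ∈ U) (hb : b ∈ U) : ⁅⁅c, a⁆, b⁆ * ⁅a, ⁅c, b⁆⁆ ∈ center G := by
  have hca : c * a * c⁻¹ ∈ U := C.normU c hc a ha
  have hcb : c * b * c⁻¹ ∈ U := C.normU c hc b hb
  have e1 : ⁅⁅c, a⁆, b⁆ = ⁅c * a * c⁻¹, b⁆ * ⁅a, b⁆ := by
    rw [commutatorElement_def c a, C.bilL hca (inv_mem ha) hb, C.invL ha hb]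
  have e2 : ⁅a, ⁅c, b⁆⁆ = ⁅a, c * b * c⁻¹⁆ * ⁅a, b⁆ := by
    rw [commutatorElement_def c b, C.bilR ha hcb (inv_mem hb), C.invR ha hb]
  have e3 : c * ⁅a, c * b * c⁻¹⁆ * c⁻¹ = ⁅c * a * c⁻¹, b⁆ := by
    rw [conjugate_commutatorElement]
    congr 1
    calc c * (c * b * c⁻¹) * c⁻¹ = c * c * b * (c * c)⁻¹ := by group
      _ = b := by rw [h2 b hb, mul_inv_cancel_right]
  set x := ⁅a, c * b * c⁻¹⁆ with hxdef
  have hxZ : x ∈ Z := C.comU a ha _ hcb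
  have hyZ : ⁅c * a * c⁻¹, b⁆ ∈ Z := C.comU _ hca b hb
  have e4 : ⁅c * a * c⁻¹, b⁆ * x = ⁅c, x⁆ := by
    rw [commutatorElement_def c x, e3, C.inv_eq hxZ]
  rw [e1, e2]
  have e5 : ⁅c * a * c⁻¹, b⁆ * ⁅a, b⁆ * (x * ⁅a, b⁆) = ⁅c, x⁆ := by
    calc ⁅c * a * c⁻¹, b⁆ * ⁅a, b⁆ * (x * ⁅a, b⁆) =
        ⁅c * a * c⁻¹, b⁆ * (⁅a, b⁆ * x) * ⁅a, b⁆ := by group
      _ = ⁅c * a * c⁻¹, b⁆ * x * (⁅a, b⁆ * ⁅a, b⁆) := by
        rw [C.mulZ (C.comU a ha b hb) hxZ]; group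
      _ = ⁅c, x⁆ := by rw [C.sqZ _ (C.comU a ha b hb), mul_one, e4]
  rw [e5]
  exact htr x hxZ

/-- For a transvection, `[U, c]` is totally singular. -/
theorem imN_singular (C : CC σ r M U Z) {c : G} (hc : c ∈ M) (hσc : σ c = c)
    (h2 : ∀ a ∈ U, c * c * a = a * (c * c)) (htr : ∀ z ∈ Z, ⁅c, z⁆ ∈ center G) {b : G}
    (hb : b ∈ C.imN c hc) : Singular σ b := by
  intro k
  have hbk := C.imN_apply hc hσc hb k
  obtain ⟨a, ha, z, hz, hbk'⟩ := hbk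
  have hbU := C.imN_leU hc hb
  have hkU : ⁅c, a⁆ ∈ U := C.imN_leU hc (C.comm_mem_imN hc ha)
  rw [hbk', C.bilL hkU (C.hZU hz) hbU, C.zero_left hz hbU, mul_one]
  have h := C.trans_adj hc h2 htr ha hbU
  rwa [C.zero_right (C.comm_imN_mem hc h2 hb) ha, mul_one] at h

theorem q0_notMem (C : CC σ r M U Z) {u : G} (hu : u ∈ U) (huZ : u ∉ Z) : u⁻¹ * σ u ∉ Z := by
  intro h
  apply huZ
  set z := u⁻¹ * σ u with hzd
  have hk : ∀ k : ℕ, (σ ^ k) u = u * z ^ k := by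
    intro k
    induction k with
    | zero => simp
    | succ n ih =>
      rw [pow_succ', MulAut.mul_apply, ih, map_mul, map_pow, C.fixZ z h]
      rw [show σ u = u * z by rw [hzd, mul_inv_cancel_left], mul_assoc, ← pow_succ']
  obtain ⟨q, hq⟩ := C.hodd
  have h1 := hk r
  rw [C.hσ, MulAut.one_apply, hq, pow_succ, pow_mul, pow_two, C.sqZ z h, one_pow, one_mul] at h1
  refine C.fixU u hu ?_
  calc σ u = u * z := by rw [hzd, mul_inv_cancel_left]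
    _ = u := h1.symm

end CC

end H83.Shult
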