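import Cfsg.Agent.H83.Shult.CentreBasic
import Cfsg.Agent.H1.Turull.Basic

/-!
Steps for the closure of `Z` when it may meet the centre of `G`: an element `g` outside `M` with a
noncentral element of `Z` moved into `M` yields a singular orbit in `U` on each side.
-/

set_option autoImplicit false

open Subgroup
open scoped commutatorElement

namespace H83.Shult

variable {G : Type*} [Group G]

/-- All elements of `U ∩ gMg⁻¹` square into the centre. -/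
def Abel (M U : Subgroup G) (g : G) : Prop := ∀ v ∈ U, g⁻¹ * v * g ∈ M → v * v ∈ center G

/-- A noncentral element of `Z` is moved by `g` onto an element of `M` with singular part in `U`. -/
def Good (σ : MulAut G) (M U Z : Subgroup G) (g : G) : Prop :=
  ∃ e c u : G, e ∈ Z ∧ e ∉ center G ∧ c ∈ M ∧ σ c = c ∧ u ∈ U ∧ g * e * g⁻¹ = c * u ∧
    Singular σ u ∧ ((∀ a ∈ U, c * a = a * c) ∨ Abel M U g)

/-- `t` has 2-power order. -/
def Two (t : G) : Prop := ∃ n : ℕ, t ^ 2 ^ n = 1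

theorem Two.conj {t : G} (h : Two t) (g : G) : Two (g * t * g⁻¹) := by
  obtain ⟨n, hn⟩ := h
  exact ⟨n, by rw [conj_pow, hn, mul_one, mul_inv_cancel]⟩

theorem mul_self_mul (a b : G) : a * b * (a * b) = a * ⁅b, a⁆ * a * b * b := by
  simp only [commutatorElement_def]; group

namespace CC

variable {σ : MulAut G} {r : ℕ} {M U Z : Subgroup G}

theorem two_U (C : CC σ r M U Z) {u : G} (hu : u ∈ U) : Two u :=
  ⟨2, by
    rw [show (2 : ℕ) ^ 2 = 2 * 2 from rfl, pow_mul, pow_two, pow_two]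
    exact C.sqZ _ (C.sqU u hu)⟩

theorem exists_pow_mul (C : CC σ r M U Z) {c u : G} (hc : c ∈ M) (hu : u ∈ U) (n : ℕ) :
    ∃ u' ∈ U, (c * u) ^ n = c ^ n * u' := by
  induction n with
  | zero => exact ⟨1, one_mem _, by simp⟩
  | succ n ih =>
    obtain ⟨u', hu', he⟩ := ih
    refine ⟨c⁻¹ * u' * c * u, mul_mem ?_ hu, ?_⟩
    · simpa using C.normU c⁻¹ (inv_mem hc) u' hu'
    · rw [pow_succ, he, pow_succ]; group

theorem two_part (C : CC σ r M U Z) {c u : G} (hc : c ∈ M) (hσc : σ c = c) (hu : u ∈ U)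
    (h : Two (c * u)) : Two c := by
  obtain ⟨n, hn⟩ := h
  obtain ⟨u', hu', he⟩ := C.exists_pow_mul hc hu (2 ^ n)
  rw [hn] at he
  have hU : c ^ 2 ^ n ∈ U := by rw [eq_inv_of_mul_eq_one_left he.symm]; exact inv_mem hu'
  refine ⟨n + 1, ?_⟩
  rw [pow_succ, pow_mul, pow_two]
  exact C.sqZ _ (C.fixU _ hU (by rw [map_pow, hσc]))

variable [Finite G]

/-- A noncentral element of `Z` has no conjugate fixed by `σ` from outside `M`. -/
theorem hF (C : CC σ r M U Z) {e : G} (he : e ∈ Z) (hec : e ∉ center G) {g : G}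
    (hg : σ (g * e * g⁻¹) = g * e * g⁻¹) : g ∈ M := by
  have : Fact r.Prime := ⟨C.hr⟩
  set N := centralizer ({e} : Set G) with hN
  have hNσ : ∀ x ∈ N, σ x ∈ N := fun x hx => by
    rw [hN, mem_centralizer_singleton_iff] at hx ⊢
    calc σ x * e = σ (x * e) := by rw [map_mul, C.fixZ e he]
      _ = σ (e * x) := by rw [hx]
      _ = e * σ x := by rw [map_mul, C.fixZ e he]
  have ha : g⁻¹ * σ g ∈ N := by
    rw [map_mul, map_mul, map_inv, C.fixZ e he] at hg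
    rw [hN, mem_centralizer_singleton_iff]
    calc g⁻¹ * σ g * e = g⁻¹ * (σ g * e * (σ g)⁻¹) * σ g := by group
      _ = g⁻¹ * (g * e * g⁻¹) * σ g := by rw [hg]
      _ = e * (g⁻¹ * σ g) := by group
  obtain ⟨c, hc, hσc⟩ := H1.Turull.exists_fixed_coset σ C.hσ N hNσ
    (fun h => C.hcop (h.trans N.card_subgroup_dvd_card)) g ha
  have h := C.hC e he hec _ (mem_centralizer_singleton_iff.mp hc)
  simpa using mul_mem (C.hCM c hσc) (inv_mem h)

theorem meet (C : CC σ r M U Z) {g z : G} (hg : g ∉ M) (hz : z ∈ Z) (hw : g⁻¹ * z * g ∈ Z) :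
    z ∈ center G := by
  by_contra hc
  have e : g * (g⁻¹ * z * g) * g⁻¹ = z := by group
  refine hg (C.hF hw (fun h => hc ?_) (by rw [e]; exact C.fixZ z hz))
  rw [← e]; exact conj_mem_center h g

theorem modC (C : CC σ r M U Z) {h e : G} (he : e ∈ Z) (hec : e ∉ center G)
    (hh : ⁅h, e⁆ ∈ center G) : h ∈ M := by
  refine C.hF he hec ?_
  have e' : h * e * h⁻¹ = ⁅h, e⁆ * e := by simp only [commutatorElement_def]; group
  rw [e', map_mul, C.fixC _ hh, C.fixZ e he]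

theorem toB (C : CC σ r M U Z) {g e h : G} (he : e ∈ Z) (hec : e ∉ center G)
    (hh : ⁅h, g * e * g⁻¹⁆ ∈ center G) : g⁻¹ * h * g ∈ M := by
  refine C.modC he hec ?_
  have h' := conj_mem_center hh g⁻¹
  rw [conjugate_commutatorElement] at h'
  have e' : g⁻¹ * (g * e * g⁻¹) * g⁻¹⁻¹ = e := by group
  rwa [e', inv_inv] at h'

theorem inv_data (C : CC σ r M U Z) {g e c u : G} (hg : g ∉ M) (he : e ∈ Z) (hec : e ∉ center G)
    (hc : c ∈ M) (hσc : σ c = c) (hu : u ∈ U) (hx : g * e * g⁻¹ = c * u) :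
    c * c ∈ Z ∧ ⁅c, u⁆ ∈ Z ∧ u ∉ Z := by
  have hy : c * u * (c * u) = 1 := by
    rw [← hx]
    calc g * e * g⁻¹ * (g * e * g⁻¹) = g * (e * e) * g⁻¹ := by group
      _ = 1 := by rw [C.sqZ e he]; group
  have hc2 : c * c = (c * u * c⁻¹)⁻¹ * u⁻¹ := by
    calc c * c = (c * u * c⁻¹)⁻¹ * (c * u * (c * u)) * u⁻¹ := by group
      _ = _ := by rw [hy]; group
  have hc2U : c * c ∈ U := by
    rw [hc2]; exact mul_mem (inv_mem (C.normU c hc u hu)) (inv_mem hu)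
  have hc2Z : c * c ∈ Z := C.fixU _ hc2U (by rw [map_mul, hσc])
  refine ⟨hc2Z, ?_, fun huZ => hg (C.hF he hec (by rw [hx, map_mul, hσc, C.fixZ u huZ]))⟩
  have e1 : c * u * c⁻¹ = u⁻¹ * (c * c)⁻¹ := by rw [hc2]; group
  rw [commutatorElement_def, e1, C.cenU _ (inv_mem hu) _ (inv_mem hc2Z), mul_assoc, ← mul_inv_rev]
  exact mul_mem (inv_mem hc2Z) (inv_mem (C.sqU u hu))

/-- `u ∈ [U, c] Z` would make `c u` conjugate to a fixed element. -/
theorem conj_fixed (C : CC σ r M U Z) {g e c u : G} (hg : g ∉ M) (he : e ∈ Z)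
    (hec : e ∉ center G) (_hc : c ∈ M) (hσc : σ c = c) (hx : g * e * g⁻¹ = c * u)
    (hc2 : c * c ∈ Z) (hu : InIm U Z c u) : False := by
  obtain ⟨a, ha, z, hz, rfl⟩ := hu
  have h2 : c * c * a = a * (c * c) := (C.cenU a ha _ hc2).symm
  have hcca : c⁻¹ * a * c = c * a * c⁻¹ := by
    calc c⁻¹ * a * c = c⁻¹ * (a * (c * c)) * c⁻¹ := by group
      _ = c⁻¹ * (c * c * a) * c⁻¹ := by rw [h2]
      _ = _ := by group
  have hx' : (a⁻¹ * g) * e * (a⁻¹ * g)⁻¹ = c * z := by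
    calc (a⁻¹ * g) * e * (a⁻¹ * g)⁻¹ = a⁻¹ * (g * e * g⁻¹) * a := by group
      _ = a⁻¹ * (c * (c * a * c⁻¹ * a⁻¹ * z)) * a := by rw [hx, commutatorElement_def]
      _ = a⁻¹ * (c * (c⁻¹ * a * c * a⁻¹ * z)) * a := by rw [hcca]
      _ = c * a⁻¹ * (z * a) := by group
      _ = c * z := by rw [← C.cenU a ha z hz]; group
  have h := C.hF he hec (g := a⁻¹ * g) (by rw [hx', map_mul, hσc, C.fixZ z hz])
  exact hg (by simpa using mul_mem (C.hUM ha) h)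

/-- A transvection is never the fixed part of a moved element of `Z`. -/
theorem exact_of_trans (C : CC σ r M U Z) {g e c u : G} (hg : g ∉ M) (he : e ∈ Z)
    (hec : e ∉ center G) (hc : c ∈ M) (hσc : σ c = c) (hu : u ∈ U) (hx : g * e * g⁻¹ = c * u)
    (htr : ∀ z ∈ Z, ⁅c, z⁆ ∈ center G) : ∀ a ∈ U, c * a = a * c := by
  obtain ⟨hc2, hcu, huZ⟩ := C.inv_data hg he hec hc hσc hu hx
  by_cases h : ∀ a ∈ U, ⁅c, a⁆ ∈ Z
  · have hgen : U ≤ centralizer ({c} : Set G) := C.genU.trans ((closure_le _).mpr (by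
      rintro _ ⟨a, ha, rfl⟩
      rw [SetLike.mem_coe, mem_centralizer_singleton_iff]
      have hk : c * a * c⁻¹ = ⁅c, a⁆ * a := by simp only [commutatorElement_def]; group
      have hk' : c * σ a * c⁻¹ = ⁅c, a⁆ * σ a := by
        have h' := congrArg σ hk
        rwa [map_mul, map_mul, map_inv, hσc, map_mul, C.fixZ _ (h a ha)] at h'
      have e' : c * (a⁻¹ * σ a) * c⁻¹ = a⁻¹ * σ a := by
        calc c * (a⁻¹ * σ a) * c⁻¹ = (c * a * c⁻¹)⁻¹ * (c * σ a * c⁻¹) := by group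
          _ = a⁻¹ * σ a := by rw [hk, hk']; group
      calc a⁻¹ * σ a * c = c * (a⁻¹ * σ a) * c⁻¹ * c := by rw [e']
        _ = c * (a⁻¹ * σ a) := by group))
    exact fun a ha => (mem_centralizer_singleton_iff.mp (hgen ha)).symm
  · exfalso
    obtain ⟨a₀, ha₀, hn₀⟩ : ∃ a, a ∈ U ∧ ⁅c, a⁆ ∉ Z := by simpa using h
    have h2 : ∀ a ∈ U, c * c * a = a * (c * c) := fun a ha => (C.cenU a ha _ hc2).symm
    have hmem := C.comm_mem_imN hc ha₀
    have hxU := C.imN_leU hc hmem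
    have hperp : ∀ k : ℕ, ⁅(σ ^ k) ⁅c, a₀⁆, u⁆ ∈ center G := by
      intro k
      rw [map_commutatorElement, pow_fix_of_eq hσc]
      have h' := C.trans_adj hc h2 htr (C.pow_mem ha₀ k) hu
      rwa [C.zero_right hcu (C.pow_mem ha₀ k), mul_one] at h'
    have hu' := C.dual hxU hn₀ (C.imN_singular hc hσc h2 htr hmem) hu hperp
    exact C.conj_fixed hg he hec hc hσc hx hc2
      (sup_le (orb_le (C.imN_apply hc hσc hmem)) (C.Z_le_imN hc) hu')

/-- An element of `gUg⁻¹ ∩ M` commutes with `Z ∩ gMg⁻¹` modulo the centre. -/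
theorem stepA (C : CC σ r M U Z) {g t z : G} (hg : g ∉ M) (ht : t ∈ M) (htg : g⁻¹ * t * g ∈ U)
    (hz : z ∈ Z) (hzg : g⁻¹ * z * g ∈ M) : ⁅t, z⁆ ∈ center G := by
  by_contra hdc
  have hdZ : ⁅t, z⁆ ∈ Z := by
    rw [commutatorElement_def]; exact mul_mem (C.normZ t ht z hz) (inv_mem hz)
  set d := ⁅t, z⁆ with hd
  set u := g⁻¹ * t * g with hu
  set y := g⁻¹ * z * g with hy
  have hdg : g⁻¹ * d * g = u * (y * u⁻¹ * y⁻¹) := by
    rw [hd, hu, hy, commutatorElement_def]; group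
  have hdU : g⁻¹ * d * g ∈ U := by
    rw [hdg]; exact mul_mem htg (C.normU y hzg _ (inv_mem htg))
  have hcomm : ∀ z' ∈ Z, g * z' * g⁻¹ ∈ M := by
    intro z' hz'
    refine C.hC d hdZ hdc _ ?_
    calc g * z' * g⁻¹ * d = g * (z' * (g⁻¹ * d * g)) * g⁻¹ := by group
      _ = g * ((g⁻¹ * d * g) * z') * g⁻¹ := by rw [C.cenU _ hdU z' hz']
      _ = d * (g * z' * g⁻¹) := by group
  have hgi : g⁻¹ ∉ M := fun h => hg (by simpa using inv_mem h)
  have hcen : ∀ z' ∈ Z, ⁅y, z'⁆ ∈ center G := by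
    intro z' hz'
    have hqZ : ⁅y, z'⁆ ∈ Z := by
      rw [commutatorElement_def]; exact mul_mem (C.normZ y hzg z' hz') (inv_mem hz')
    refine C.meet hgi hqZ ?_
    rw [inv_inv, conjugate_commutatorElement, hy]
    have e : g * (g⁻¹ * z * g) * g⁻¹ = z := by group
    rw [e, commutatorElement_def, mul_assoc, mul_assoc, ← mul_assoc (g * z' * g⁻¹)]
    exact mul_mem hz (C.normZ _ (hcomm z' hz') _ (inv_mem hz))
  obtain ⟨c, hc, hσc, u₁, hu₁, hyeq⟩ := C.decomp y hzg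
  have htr : ∀ z' ∈ Z, ⁅c, z'⁆ ∈ center G := fun z' hz' => by
    have h := hcen z' hz'
    rwa [hyeq, comm_mul_left, C.zero_right hz' hu₁, mul_one, mul_inv_cancel, one_mul] at h
  have hzc : z ∉ center G := fun h => hdc (by
    rw [hd, commutatorElement_eq_one_iff_mul_comm.mpr (mem_center_iff.mp h t)]; exact one_mem _)
  have hcu := C.exact_of_trans hgi hz hzc hc hσc hu₁ (by rw [inv_inv, ← hy, hyeq]) htr
  refine hdc (C.meet hg hdZ ?_)
  have e : g⁻¹ * d * g = ⁅u, u₁⁆ := by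
    rw [hdg, hyeq, commutatorElement_def]
    calc u * (c * u₁ * u⁻¹ * (c * u₁)⁻¹) = u * (c * (u₁ * u⁻¹ * u₁⁻¹)) * c⁻¹ := by group
      _ = u * ((u₁ * u⁻¹ * u₁⁻¹) * c) * c⁻¹ := by
        rw [hcu _ (mul_mem (mul_mem hu₁ (inv_mem htg)) (inv_mem hu₁))]
      _ = _ := by group
  rw [e]
  exact C.comU u htg u₁ hu₁

/-- An element of `gUg⁻¹ ∩ M` with noncentral square gives a good element, and `U ∩ gMg⁻¹` has
elements with noncentral square. -/
theorem stepB (C : CC σ r M U Z) {g t : G} (hg : g ∉ M) (ht : t ∈ M) (htg : g⁻¹ * t * g ∈ U)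
    (ht2 : t * t ∉ center G) : Good σ M U Z g ∧ ¬ Abel M U g := by
  set e := g⁻¹ * (t * t) * g with hed
  have he : e ∈ Z := by
    rw [hed, show g⁻¹ * (t * t) * g = (g⁻¹ * t * g) * (g⁻¹ * t * g) by group]
    exact C.sqU _ htg
  have hpe : g * e * g⁻¹ = t * t := by rw [hed]; group
  have hec : e ∉ center G := fun h => ht2 (by rw [← hpe]; exact conj_mem_center h g)
  have htwo : Two t := by
    have := (C.two_U htg).conj g
    rwa [show g * (g⁻¹ * t * g) * g⁻¹ = t by group] at this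
  have hZ : ∀ z ∈ Z, ⁅t, z⁆ ∈ center G := by
    have h2 : ∀ z ∈ Z, ⁅t * t, z⁆ ∈ center G → ⁅t, z⁆ ∈ center G := by
      intro z hz h
      refine C.stepA hg ht htg hz (C.toB he hec ?_)
      rw [hpe, ← commutatorElement_inv]
      exact inv_mem h
    have hcZ : ∀ q ∈ M, ∀ z ∈ Z, ⁅q, z⁆ ∈ Z := fun q hq z hz => by
      rw [commutatorElement_def]; exact mul_mem (C.normZ q hq z hz) (inv_mem hz)
    have key : ∀ k : ℕ, ∀ z ∈ Z, ⁅t ^ 2 ^ k, z⁆ ∈ center G → ⁅t, z⁆ ∈ center G := by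
      intro k
      induction k with
      | zero => intro z _ h; simpa using h
      | succ k ih =>
        intro z hz hq2
        set q := t ^ 2 ^ k with hq
        rw [pow_succ, pow_mul, ← hq, pow_two] at hq2
        have hqM : q ∈ M := _root_.pow_mem ht _
        have hwZ := hcZ q hqM z hz
        have hqw : ⁅q, ⁅q, z⁆⁆ ∈ center G := by
          rw [comm_mul_left] at hq2
          have h : ⁅q, ⁅q, z⁆⁆ = q * ⁅q, z⁆ * q⁻¹ * ⁅q, z⁆ := by
            rw [commutatorElement_def q ⁅q, z⁆, C.inv_eq hwZ]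
          rwa [h]
        have htw := ih _ hwZ hqw
        have hz₁ := hcZ t ht z hz
        have hqz₁ : ⁅q, ⁅t, z⁆⁆ ∈ center G := by
          have hqt : q * t * q⁻¹ = t := by
            rw [hq, ← pow_succ, pow_succ']; group
          have e1 : q * z * q⁻¹ = ⁅q, z⁆ * z := by simp only [commutatorElement_def]; group
          have e2 : q * ⁅t, z⁆ * q⁻¹ = ⁅t, ⁅q, z⁆⁆ * ⁅t, z⁆ := by
            rw [conjugate_commutatorElement, hqt, e1, comm_mul_right,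
              C.conjZ (C.hZU hwZ) hz₁]
          rw [commutatorElement_def q, e2, mul_assoc, mul_inv_cancel, mul_one]
          exact htw
        have htz₁ := ih _ hz₁ hqz₁
        refine h2 z hz ?_
        rw [comm_mul_left]
        have h : ⁅t, ⁅t, z⁆⁆ = t * ⁅t, z⁆ * t⁻¹ * ⁅t, z⁆ := by
          rw [commutatorElement_def t ⁅t, z⁆, C.inv_eq hz₁]
        rwa [← h]
    obtain ⟨n, hn⟩ := htwo
    intro z hz
    exact key n z hz (by rw [hn, commutatorElement_one_left]; exact one_mem _)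
  obtain ⟨c, hc, hσc, a, ha, hteq⟩ := C.decomp t ht
  have htr : ∀ z ∈ Z, ⁅c, z⁆ ∈ center G := fun z hz => by
    have h := hZ z hz
    rwa [hteq, comm_mul_left, C.zero_right hz ha, mul_one, mul_inv_cancel, one_mul] at h
  have hc2 : ∀ x ∈ U, c * c * x = x * (c * c) := by
    obtain ⟨n, hn⟩ := C.two_part hc hσc ha (hteq ▸ htwo)
    refine C.cent (c * c) (mul_mem hc hc) (by rw [map_mul, hσc]) ⟨n, ?_⟩ fun z hz => ?_
    · rw [← pow_two, ← pow_mul, mul_comm, pow_mul, hn, one_pow]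
    · have hk : ⁅c, z⁆ ∈ Z := by
        rw [commutatorElement_def]; exact mul_mem (C.normZ c hc z hz) (inv_mem hz)
      have h1 : ⁅c * c, z⁆ = 1 := by
        rw [comm_mul_left, conj_eq_self_of_mem_center (htr z hz), C.sqZ _ hk]
      exact commutatorElement_eq_one_iff_mul_comm.mp h1
  set u := ⁅c, a⁆ * (a * a) with hud
  have hkU : ⁅c, a⁆ ∈ U := C.imN_leU hc (C.comm_mem_imN hc ha)
  have huim : u ∈ C.imN c hc := ⟨a, ha, a * a, C.sqU a ha, rfl⟩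
  have huU : u ∈ U := C.imN_leU hc huim
  have hp : g * e * g⁻¹ = c * c * u := by
    have hcca : c⁻¹ * a * c = c * a * c⁻¹ := by
      calc c⁻¹ * a * c = c⁻¹ * (a * (c * c)) * c⁻¹ := by group
        _ = c⁻¹ * (c * c * a) * c⁻¹ := by rw [hc2 a ha]
        _ = _ := by group
    calc g * e * g⁻¹ = c * a * (c * a) := by rw [hpe, hteq]
      _ = c * c * (c⁻¹ * a * c * a) := by group
      _ = c * c * u := by rw [hcca, hud, commutatorElement_def]; group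
  have hσ2 : σ (c * c) = c * c := by rw [map_mul, hσc]
  obtain ⟨-, -, huZ⟩ := C.inv_data hg he hec (mul_mem hc hc) hσ2 huU hp
  have hsing := C.imN_singular hc hσc hc2 htr huim
  refine ⟨⟨e, c * c, u, he, hec, mul_mem hc hc, hσ2, huU, hp, hsing, Or.inl hc2⟩, fun hab => ?_⟩
  -- `[a, n a]` is additive and invariant, hence central
  let F : Subgroup G :=
    { carrier := {x | x ∈ U ∧ ⁅x, ⁅c, x⁆⁆ ∈ center G}
      one_mem' := ⟨one_mem U, by rw [commutatorElement_one_left]; exact one_mem _⟩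
      mul_mem' := by
        intro x y hx hy
        refine ⟨mul_mem hx.1 hy.1, ?_⟩
        have hnx := C.imN_leU hc (C.comm_mem_imN hc hx.1)
        have hny := C.imN_leU hc (C.comm_mem_imN hc hy.1)
        have e1 : ⁅c, x * y⁆ = ⁅c, x⁆ * (⁅c, y⁆ * ⁅x, ⁅c, y⁆⁆) := by
          rw [comm_mul_right, C.cenU _ hny _ (C.comU x hx.1 _ hny), commutatorElement_def x]
          group
        have hzz := C.hZU (C.comU x hx.1 _ hny)
        have e2 : ∀ w ∈ U, ⁅w, ⁅c, x * y⁆⁆ = ⁅w, ⁅c, x⁆⁆ * ⁅w, ⁅c, y⁆⁆ := fun w hw => by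
          rw [e1, C.bilR hw hnx (mul_mem hny hzz), C.bilR hw hny hzz,
            C.zero_right (C.comU x hx.1 _ hny) hw, mul_one]
        rw [C.bilL hx.1 hy.1 (C.imN_leU hc (C.comm_mem_imN hc (mul_mem hx.1 hy.1))), e2 x hx.1,
          e2 y hy.1]
        have hadj := C.trans_adj hc hc2 htr hx.1 hy.1
        rw [C.symm hy.1 hnx] at hadj
        have e3 : ⁅x, ⁅c, x⁆⁆ * ⁅x, ⁅c, y⁆⁆ * (⁅y, ⁅c, x⁆⁆ * ⁅y, ⁅c, y⁆⁆) =
            ⁅x, ⁅c, x⁆⁆ * (⁅y, ⁅c, x⁆⁆ * ⁅x, ⁅c, y⁆⁆) * ⁅y, ⁅c, y⁆⁆ := by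
          rw [C.mulZ (C.comU y hy.1 _ hnx) (C.comU x hx.1 _ hny)]; group
        rw [e3]
        exact mul_mem (mul_mem hx.2 hadj) hy.2
      inv_mem' := by
        intro x hx
        refine ⟨inv_mem hx.1, ?_⟩
        have hnx := C.imN_leU hc (C.comm_mem_imN hc hx.1)
        have hnx' := C.imN_leU hc (C.comm_mem_imN hc (inv_mem hx.1))
        have e1 : ⁅c, x⁻¹⁆ = x⁻¹ * ⁅c, x⁆⁻¹ * x⁻¹⁻¹ := by
          simp only [commutatorElement_def]; group
        have e2 : ⁅c, x⁻¹⁆ = ⁅c, x⁆⁻¹ * ⁅⁅c, x⁆, x⁻¹⁆ := by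
          rw [e1]; simp only [commutatorElement_def]; group
        rw [C.invL hx.1 hnx', e2, C.bilR hx.1 (inv_mem hnx)
          (C.hZU (C.comU _ hnx _ (inv_mem hx.1))), C.invR hx.1 hnx,
          C.zero_right (C.comU _ hnx _ (inv_mem hx.1)) hx.1, mul_one]
        exact hx.2 }
  have hFσ : ∀ x ∈ F, σ x ∈ F := fun x hx => ⟨C.sigU x hx.1, by
    have h' : ⁅σ x, ⁅c, σ x⁆⁆ = ⁅x, ⁅c, x⁆⁆ := by
      rw [← hσc, ← map_commutatorElement, ← map_commutatorElement, hσc,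
        C.fixZ _ (C.comU x hx.1 _ (C.imN_leU hc (C.comm_mem_imN hc hx.1)))]
    rw [h']; exact hx.2⟩
  have hFU : U ≤ F := C.genU.trans ((closure_le _).mpr (by
    rintro _ ⟨x, hx, rfl⟩
    have hσx := C.sigU x hx
    have hnx := C.imN_leU hc (C.comm_mem_imN hc hx)
    have hnσ := C.imN_leU hc (C.comm_mem_imN hc hσx)
    refine ⟨mul_mem (inv_mem hx) hσx, ?_⟩
    have h' : ⁅σ x, ⁅c, σ x⁆⁆ = ⁅x, ⁅c, x⁆⁆ := by
      rw [← hσc, ← map_commutatorElement, ← map_commutatorElement, hσc,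
        C.fixZ _ (C.comU x hx _ hnx)]
    have e1 : ⁅c, x⁻¹ * σ x⁆ = ⁅c, x⁆⁻¹ * ⁅c, σ x⁆ *
        (⁅⁅c, x⁆, x⁻¹⁆ * ⁅x⁻¹, ⁅c, σ x⁆⁆) := by
      have e2 : ⁅c, x⁻¹⁆ = ⁅c, x⁆⁻¹ * ⁅⁅c, x⁆, x⁻¹⁆ := by
        simp only [commutatorElement_def]; group
      have e3 : x⁻¹ * ⁅c, σ x⁆ * x⁻¹⁻¹ = ⁅x⁻¹, ⁅c, σ x⁆⁆ * ⁅c, σ x⁆ := by
        simp only [commutatorElement_def]; group
      have hz1 := C.comU _ hnx _ (inv_mem hx)
      have hz2 := C.comU _ (inv_mem hx) _ hnσ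
      rw [comm_mul_right, e2, e3]
      calc ⁅c, x⁆⁻¹ * ⁅⁅c, x⁆, x⁻¹⁆ * (⁅x⁻¹, ⁅c, σ x⁆⁆ * ⁅c, σ x⁆) =
          ⁅c, x⁆⁻¹ * ((⁅⁅c, x⁆, x⁻¹⁆ * ⁅x⁻¹, ⁅c, σ x⁆⁆) * ⁅c, σ x⁆) := by group
        _ = _ := by rw [← C.cenU _ hnσ _ (mul_mem hz1 hz2)]; group
    have hz12 : ⁅⁅c, x⁆, x⁻¹⁆ * ⁅x⁻¹, ⁅c, σ x⁆⁆ ∈ Z :=
      mul_mem (C.comU _ hnx _ (inv_mem hx)) (C.comU _ (inv_mem hx) _ hnσ)
    have hnn : ⁅c, x⁆⁻¹ * ⁅c, σ x⁆ ∈ U := mul_mem (inv_mem hnx) hnσ
    rw [e1, C.bilR (mul_mem (inv_mem hx) hσx) hnn (C.hZU hz12),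
      C.zero_right hz12 (mul_mem (inv_mem hx) hσx), mul_one, C.bilL (inv_mem hx) hσx hnn,
      C.invL hx hnn, C.bilR hx (inv_mem hnx) hnσ, C.invR hx hnx, C.bilR hσx (inv_mem hnx) hnσ,
      C.invR hσx hnx, h']
    have hadj : ⁅x, ⁅c, σ x⁆⁆ * ⁅σ x, ⁅c, x⁆⁆ ∈ center G := by
      have h := C.trans_adj hc hc2 htr hσx hx
      rwa [C.symm hx hnσ] at h
    have e4 : ⁅x, ⁅c, x⁆⁆ * ⁅x, ⁅c, σ x⁆⁆ * (⁅σ x, ⁅c, x⁆⁆ * ⁅x, ⁅c, x⁆⁆) =
        ⁅x, ⁅c, σ x⁆⁆ * ⁅σ x, ⁅c, x⁆⁆ := by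
      have hz := C.comU x hx _ hnx
      have hw := mul_mem (C.comU x hx _ hnσ) (C.comU (σ x) hσx _ hnx)
      calc _ = ⁅x, ⁅c, x⁆⁆ * ((⁅x, ⁅c, σ x⁆⁆ * ⁅σ x, ⁅c, x⁆⁆) * ⁅x, ⁅c, x⁆⁆) := by group
        _ = ⁅x, ⁅c, x⁆⁆ * (⁅x, ⁅c, x⁆⁆ * (⁅x, ⁅c, σ x⁆⁆ * ⁅σ x, ⁅c, x⁆⁆)) := by
          rw [C.mulZ hw hz]
        _ = _ := by rw [← mul_assoc, C.sqZ _ hz, one_mul]
    rw [e4]
    exact hadj))
  -- hence `a` lies in `gMg⁻¹`
  have hau : ⁅a, u⁆ ∈ center G := by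
    rw [hud, C.bilR ha hkU (C.hZU (C.sqU a ha)), C.zero_right (C.sqU a ha) ha, mul_one]
    exact (hFU ha).2
  have hag : g⁻¹ * a * g ∈ M := by
    refine C.toB he hec ?_
    rw [hp, comm_mul_right, commutatorElement_eq_one_iff_mul_comm.mpr (hc2 a ha).symm, one_mul]
    exact conj_mem_center hau _
  set x := u⁻¹ * σ u with hxd
  have hxU : x ∈ U := mul_mem (inv_mem huU) (C.sigU u huU)
  have hxorb : x ∈ orb σ u :=
    mul_mem (inv_mem (self_mem_orb σ u)) (apply_mem_orb (self_mem_orb σ u))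
  have hxB : ∀ k : ℕ, g⁻¹ * (σ ^ k) x * g ∈ M := fun k => by
    have hq := pow_apply_mem_orb hxorb k
    have hqU := C.orb_leU huU hq
    refine C.toB he hec ?_
    rw [hp, comm_mul_right, commutatorElement_eq_one_iff_mul_comm.mpr (hc2 _ hqU).symm, one_mul]
    exact conj_mem_center (C.orb_pair huU hsing hq (self_mem_orb σ u)) _
  have hperp : ∀ k : ℕ, ⁅(σ ^ k) x, a⁆ ∈ center G := by
    intro k
    have hqU := C.pow_mem hxU k
    have hqa : g⁻¹ * (a * (σ ^ k) x) * g ∈ M := by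
      rw [show g⁻¹ * (a * (σ ^ k) x) * g = (g⁻¹ * a * g) * (g⁻¹ * (σ ^ k) x * g) by group]
      exact mul_mem hag (hxB k)
    have h := hab _ (mul_mem ha hqU) hqa
    rw [mul_self_mul, C.cenU a ha _ (C.comU _ hqU a ha)] at h
    rw [show ⁅(σ ^ k) x, a⁆ * a * a * (σ ^ k) x * (σ ^ k) x =
      ⁅(σ ^ k) x, a⁆ * ((a * a) * ((σ ^ k) x * (σ ^ k) x)) by group] at h
    exact (Subgroup.mul_mem_cancel_right _ (mul_mem (hab a ha hag) (hab _ hqU (hxB k)))).mp h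
  have haim : a ∈ C.imN c hc := sup_le (orb_le (C.imN_apply hc hσc
      (mul_mem (inv_mem huim) (by simpa using C.imN_apply hc hσc huim 1)))) (C.Z_le_imN hc)
    (C.dual hxU (C.q0_notMem huU huZ) (C.singular_of_mem huU hsing hxorb) ha hperp)
  refine huZ ?_
  rw [hud]
  exact mul_mem (C.comm_imN_mem hc hc2 haim) (C.sqU a ha)

end CC

end H83.Shult
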