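import Cfsg.Agent.H83.Shult.FixedTools
import Cfsg.Agent.H8.Coprime
import Cfsg.Agent.H10.Shult.CaseFixed

/-!
The case `C(σ) ≤ H₀` of Shult's theorem is impossible when `|Z : Z ∩ Z(G)| ≥ 4`: then `H₀` is the
normaliser of `U`, the configuration `H83.Shult.CC` holds, and the endgame makes `Z` central.
-/

set_option autoImplicit false

open Subgroup
open scoped commutatorElement

namespace H83.Shult

open H85.Shult (Inv disp fixed Cfg Top)

variable {G : Type*} [Group G] [Finite G] {σ : MulAut G} {r m p : ℕ} {S U Z H₀ : Subgroup G}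

theorem pow_val {M : Type*} [Group M] {K : Subgroup M} {a : M} {ha : a ∈ K} {n : ℕ}
    (h : (⟨a, ha⟩ : K) ^ n = 1) : a ^ n = 1 := by
  simpa using congrArg Subtype.val h

theorem isPGroup_not_dvd {q l : ℕ} (hq : q.Prime) (hl : l.Prime) (hne : l ≠ q) {K : Subgroup G}
    (hK : IsPGroup q K) : ¬ l ∣ Nat.card K := by
  have : Fact q.Prime := ⟨hq⟩
  obtain ⟨k, hk⟩ := IsPGroup.iff_card.mp hK
  rw [hk]
  exact fun h => hne ((Nat.prime_dvd_prime_iff_eq hl hq).mp (hl.dvd_of_dvd_pow h))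

omit [Finite G] in
theorem eq_one_of_two_pgroup {q : ℕ} (hq : q.Prime) (hq2 : q ≠ 2) {K : Subgroup G}
    (hK : IsPGroup q K) {y : G} (hy : y ∈ K) {n : ℕ} (hn : y ^ 2 ^ n = 1) : y = 1 := by
  obtain ⟨b, hb⟩ := hK ⟨y, hy⟩
  have hb' : y ^ q ^ b = 1 := congrArg Subtype.val hb
  have hcp : (q ^ b).Coprime (2 ^ n) :=
    Nat.Coprime.pow _ _ ((Nat.coprime_primes hq Nat.prime_two).mpr hq2)
  have h1 := pow_gcd_eq_one.mpr ⟨hb', hn⟩
  rwa [hcp, pow_one] at h1

theorem invariant_two_le (C : Cfg σ r m p S U Z) (T : Top σ U Z H₀) (hC : fixed σ ≤ H₀)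
    {A : Subgroup G} (hA : IsPGroup 2 A) (hAinv : Inv σ A) : A ≤ H₀ := by
  have : Fact r.Prime := ⟨C.hr⟩
  obtain ⟨c, hc, hcA⟩ := exists_conj_le C.hσ C.hcop C.pS C.invS C.indexS hA hAinv
  intro a ha
  have hc' : c ∈ H₀ := hC hc
  have h := mul_mem (mul_mem hc' ((C.S_le_normU.trans T.normU_le) (hcA a ha))) (inv_mem hc')
  simpa [mul_assoc] using h

/-- The `p`-part of `H₀` is central. -/
theorem p_part_le_center (C : Cfg σ r m p S U Z) (T : Top σ U Z H₀) (hC : fixed σ ≤ H₀)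
    {K : Subgroup G} (_hKH : K ≤ H₀) (hK : IsPGroup p K) (hKinv : Inv σ K)
    (hnorm : H₀ ≤ normalizer (K : Set G)) : K ≤ center G := by
  classical
  have : Fact r.Prime := ⟨C.hr⟩
  have : Fact p.Prime := ⟨C.hp⟩
  have hSH : S ≤ H₀ := C.S_le_normU.trans T.normU_le
  -- the index of `H₀` is a power of `p`
  have hidx : ∀ q : ℕ, q.Prime → q ∣ H₀.index → q = p := by
    intro q hq hd
    by_contra hqp
    by_cases hq2 : q = 2
    · subst hq2
      exact C.indexS (hd.trans (index_dvd_of_le hSH))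
    · have : Fact q.Prime := ⟨hq⟩
      obtain ⟨Q, hQ⟩ := Cfsg.Agent.H29.exists_invariant_sylow C.hσ C.hcop q
      have hQH : (Q : Subgroup G) ≤ H₀ := fun x hx =>
        hC (C.odd_fixed q hq hq2 hqp Q Q.2 hQ x hx)
      exact Q.not_dvd_index (hd.trans (index_dvd_of_le hQH))
  have hpa : H₀.index = p ^ H₀.index.primeFactorsList.length :=
    Nat.eq_prime_pow_of_unique_prime_dvd index_ne_zero_of_finite (fun {q} hq hd => hidx q hq hd)
  obtain ⟨P, hKP⟩ := hK.exists_le_sylow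
  -- a Sylow `p`-subgroup is transitive on the cosets
  set b : G ⧸ H₀ := ((1 : G) : G ⧸ H₀) with hb
  have htrans : MulAction.orbit (P : Subgroup G) b = Set.univ := by
    refine Set.eq_univ_of_univ_subset (Set.eq_of_subset_of_ncard_le (Set.subset_univ _) ?_).ge
    rw [Set.ncard_univ, ← MulAction.index_stabilizer, ← Subgroup.index_eq_card]
    set St := MulAction.stabilizer (P : Subgroup G) b with hSt
    obtain ⟨k, hk⟩ := IsPGroup.iff_card.mp (P.2.to_subgroup St)
    have hdvd : Nat.card St ∣ Nat.card H₀ := by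
      have hmem : ∀ x : St, ((x : (P : Subgroup G)) : G) ∈ H₀ := by
        intro x
        have hx : ((x : (P : Subgroup G)) : G) • ((1 : G) : G ⧸ H₀) = ((1 : G) : G ⧸ H₀) := x.2
        rw [MulAction.Quotient.smul_coe, smul_eq_mul, mul_one, eq_comm, QuotientGroup.eq, inv_one,
          one_mul] at hx
        exact hx
      let f : St →* H₀ :=
        { toFun := fun x => ⟨_, hmem x⟩
          map_one' := rfl
          map_mul' := fun _ _ => rfl }
      exact Subgroup.card_dvd_of_injective f fun x y h =>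
        Subtype.ext (Subtype.ext (congrArg (fun z : H₀ => (z : G)) h))
    set a := H₀.index.primeFactorsList.length with ha
    have h1 : p ^ (k + a) ∣ Nat.card G := by
      rw [pow_add, ← hk, ← hpa, ← Subgroup.card_mul_index H₀]
      exact Nat.mul_dvd_mul_right hdvd _
    have h2 := P.pow_dvd_card_of_pow_dvd_card h1
    rw [← Subgroup.card_mul_index St, pow_add, ← hk] at h2
    have h3 := Nat.le_of_dvd (Nat.pos_of_ne_zero index_ne_zero_of_finite)
      ((Nat.mul_dvd_mul_iff_left Nat.card_pos).mp h2)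
    rwa [← hpa] at h3
  set N := normalClosure (K : Set G) with hN
  have hNP : N ≤ (P : Subgroup G) := by
    rw [hN, normalClosure, closure_le]
    intro y hy
    obtain ⟨k, hk, hky⟩ := Group.mem_conjugatesOfSet_iff.mp hy
    obtain ⟨g, rfl⟩ := isConj_iff.mp hky
    have hg : (g : G ⧸ H₀) ∈ MulAction.orbit (P : Subgroup G) b := by rw [htrans]; trivial
    obtain ⟨x, hx⟩ := hg
    change (x : G) • ((1 : G) : G ⧸ H₀) = (g : G ⧸ H₀) at hx
    rw [MulAction.Quotient.smul_coe, smul_eq_mul, mul_one, QuotientGroup.eq] at hx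
    have hk' := (mem_normalizer_iff.mp (hnorm hx) k).mp hk
    have h := mul_mem (mul_mem x.2 (hKP hk')) (inv_mem x.2)
    show g * k * g⁻¹ ∈ (P : Subgroup G)
    have e : g * k * g⁻¹ = (x : G) * (((x : G)⁻¹ * g) * k * ((x : G)⁻¹ * g)⁻¹) * (x : G)⁻¹ := by
      group
    rw [e]; exact h
  have hNinv : Inv σ N := by
    intro y hy
    have h := map_normalClosure_le (K : Set G) σ.toMonoidHom (mem_map_of_mem σ.toMonoidHom hy)
    refine normalClosure_mono ?_ h
    rintro _ ⟨k, hk, rfl⟩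
    exact hKinv k hk
  have hNtop : N ≠ ⊤ := by
    intro h
    obtain ⟨u, hu, hne⟩ := C.exists_moved
    obtain ⟨n, hn⟩ := C.pU ⟨u, hu⟩
    have h1 : u = 1 := eq_one_of_two_pgroup C.hp C.hp2 P.2 (hNP (h ▸ mem_top u))
      (pow_val hn : u ^ 2 ^ n = 1)
    exact hne (by rw [h1, map_one])
  exact le_normalClosure.trans (C.normal_le N normalClosure_normal hNinv hNtop)

/-- `[H₀, σ] = U`. -/
theorem disp_top (C : Cfg σ r m p S U Z) (T : Top σ U Z H₀) (hC : fixed σ ≤ H₀) :
    disp σ H₀ = U := by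
  have : Fact r.Prime := ⟨C.hr⟩
  have : Fact (Nat.Prime 2) := ⟨Nat.prime_two⟩
  have hSH : S ≤ H₀ := C.S_le_normU.trans T.normU_le
  refine le_antisymm ?_ (by rw [C.defU]; exact H85.Shult.disp_mono hSH)
  obtain ⟨K, hKH, hK, hKinv, hnorm, hpow⟩ := C.small H₀ T.inv T.ne_top
  have hKc := p_part_le_center C T hC hKH hK hKinv hnorm
  set D := disp σ H₀ with hD
  obtain ⟨A, hAD, hA, hAmax, hsplit⟩ :=
    exists_two_split C.hp C.hp2 (D := D) hK (fun d _ k hk => mem_center_iff.mp (hKc hk) d) hpow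
  have hnormA : ∀ h ∈ H₀, ∀ a ∈ A, h * a * h⁻¹ ∈ A := by
    intro h hh a ha
    refine hAmax _ ((mem_normalizer_iff.mp (H85.Shult.le_normalizer_disp (σ := σ) hh) a).mp
      (hAD ha)) ?_
    obtain ⟨n, hn⟩ := hA ⟨a, ha⟩
    exact ⟨n, by rw [conj_pow, (pow_val hn : a ^ 2 ^ n = 1), mul_one, mul_inv_cancel]⟩
  have hAS : A ≤ S := by
    have hSA : S ≤ normalizer (A : Set G) :=
      H8.le_normalizer_of_conj_mem fun s hs a ha => hnormA s (hSH hs) a ha
    have h2 : IsPGroup 2 ↥(S ⊔ A) := C.pS.to_sup_of_normal_right' hA hSA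
    have h1 : S.relIndex (S ⊔ A) = 1 := by
      obtain ⟨k, hk⟩ := IsPGroup.iff_card.mp h2
      have h1 : S.relIndex (S ⊔ A) ∣ 2 ^ k := hk ▸ relIndex_dvd_card S _
      obtain ⟨j, -, hj⟩ := (Nat.dvd_prime_pow Nat.prime_two).mp h1
      have h3 := relIndex_dvd_index_of_le (le_sup_left : S ≤ S ⊔ A)
      rcases j with _ | j
      · simpa using hj
      · exact absurd ((Dvd.intro_left _ (pow_succ 2 j).symm).trans (hj ▸ h3)) C.indexS
    exact le_sup_right.trans (relIndex_eq_one.mp h1)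
  have hAinv : ∀ a ∈ A, σ a ∈ A := fun a ha => hAmax _ (H85.Shult.inv_disp T.inv a (hAD ha)) (by
    obtain ⟨n, hn⟩ := hA ⟨a, ha⟩
    exact ⟨n, by rw [← map_pow, (pow_val hn : a ^ 2 ^ n = 1), map_one]⟩)
  rw [hD, disp, closure_le]
  rintro _ ⟨h, hh, rfl⟩
  obtain ⟨c, hc, hσc, d, hd, rfl⟩ := exists_fixed_mul C.hσ C.hcop T.inv hh
  obtain ⟨t, ht, k, hk, -, rfl⟩ := hsplit d hd
  have e : σ (c * (t * k)) * (c * (t * k))⁻¹ = σ (c * t * c⁻¹) * (c * t * c⁻¹)⁻¹ := by
    rw [map_mul, map_mul, map_mul, map_mul, map_inv, hσc, C.center_fix k (hKc hk)]; group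
  show σ (c * (t * k)) * (c * (t * k))⁻¹ ∈ U
  rw [e, C.defU]
  exact H85.Shult.subset_disp (hAS (hnormA c hc t ht))

/-- Normalisers of invariant 2-subgroups containing a singular orbit lie in `H₀`. -/
theorem normalizer_le_top (C : Cfg σ r m p S U Z) (h4 : 4 ≤ (Z ⊓ center G).relIndex Z)
    (T : Top σ U Z H₀) (hC : fixed σ ≤ H₀) (hU : disp σ H₀ = U)
    {R : Subgroup G} (hRM : R ≤ H₀) (hR : IsPGroup 2 R) (hRinv : Inv σ R)
    {x : G} (hxU : x ∈ U) (hxZ : x ∉ Z) (hxR : ∀ k : ℕ, (σ ^ k) x ∈ R) :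
    normalizer (R : Set G) ≤ H₀ := by
  classical
  have : Fact r.Prime := ⟨C.hr⟩
  have : Fact (Nat.Prime 2) := ⟨Nat.prime_two⟩
  have hxc : x ∉ center G := fun h => hxZ (C.mem_Z hxU (C.center_fix x h))
  set N := normalizer (R : Set G) with hN
  have hNtop : N ≠ ⊤ := by
    intro h
    have hRn : R.Normal := normalizer_eq_top_iff.mp h
    refine hxc (C.normal_le R hRn hRinv (fun ht => T.ne_top (top_le_iff.mp (ht ▸ hRM))) ?_)
    simpa using hxR 0
  obtain ⟨K, hKN, hK, hKinv, hnorm, hpow⟩ := C.small N (inv_normalizer hRinv) hNtop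
  -- `K` centralises `R`
  have hKR : ∀ k ∈ K, ∀ y ∈ R, k * y = y * k := by
    intro k hk y hy
    have h1 : k * y * k⁻¹ * y⁻¹ ∈ R :=
      mul_mem ((mem_normalizer_iff.mp (hKN hk) y).mp hy) (inv_mem hy)
    have hyN : y ∈ N := le_normalizer hy
    have h2 : k * y * k⁻¹ * y⁻¹ ∈ K := by
      rw [show k * y * k⁻¹ * y⁻¹ = k * (y * k⁻¹ * y⁻¹) by group]
      exact mul_mem hk ((mem_normalizer_iff.mp (hnorm hyN) _).mp (inv_mem hk))
    obtain ⟨n, hn⟩ := hR ⟨_, h1⟩
    have h3 := eq_one_of_two_pgroup C.hp C.hp2 hK h2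
      (pow_val hn : (k * y * k⁻¹ * y⁻¹) ^ 2 ^ n = 1)
    calc k * y = k * y * k⁻¹ * y⁻¹ * (y * k) := by group
      _ = y * k := by rw [h3, one_mul]
  -- the centraliser of the orbit
  set H := centralizer (Set.range fun k : ℕ => (σ ^ k) x) with hH
  have memH : ∀ h : G, h ∈ H ↔ ∀ k : ℕ, (σ ^ k) x * h = h * (σ ^ k) x := by
    intro h
    rw [hH, mem_centralizer_iff]
    exact ⟨fun hh k => hh _ ⟨k, rfl⟩, fun hh y ⟨k, hk⟩ => hk ▸ hh k⟩
  have hHinv : Inv σ H := by
    intro h hh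
    rw [memH] at hh ⊢
    have hper : ∀ k : ℕ, (σ ^ (k + r)) x = (σ ^ k) x := fun k => by rw [pow_add, C.hσ, mul_one]
    intro k
    have hk := congrArg σ (hh (k + r - 1))
    have hs : σ ((σ ^ (k + r - 1)) x) = (σ ^ k) x := by
      rw [← MulAut.mul_apply, ← pow_succ', Nat.sub_add_cancel (le_add_left C.hr.one_le), hper]
    rw [map_mul, map_mul, hs] at hk
    exact hk
  have hHtop : H ≠ ⊤ := fun h => hxc (mem_center_iff.mpr fun g =>
    (by simpa using (memH g).mp (h ▸ mem_top g) 0 : x * g = g * x).symm)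
  obtain ⟨K', hK'H, hK', hK'inv, hnorm', hpow'⟩ := C.small H hHinv hHtop
  have hU' : ∀ k : ℕ, (σ ^ k) x ∈ U := by
    intro k
    induction k with
    | zero => exact hxU
    | succ n ih => rw [pow_succ', MulAut.mul_apply]; exact C.invU _ ih
  have hZH : Z ≤ H := fun z hz => (memH z).mpr fun k => C.cenU _ (hU' k) z hz
  -- a four-group in `Z` meeting the centre trivially
  obtain ⟨e, f, he, hf, hec, hfc, hefc⟩ : ∃ e f : G, e ∈ Z ∧ f ∈ Z ∧ e ∉ center G ∧ f ∉ center G ∧
      e * f ∉ center G := by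
    set Z₀ := (Z ⊓ center G).subgroupOf Z with hZ₀
    have h4' : 4 ≤ Nat.card (Z ⧸ Z₀) := h4
    have hkey : ∀ b : Z ⧸ Z₀, ∃ q : Z ⧸ Z₀, q ≠ ((1 : Z) : Z ⧸ Z₀) ∧ q ≠ b := by
      intro b
      by_contra hno
      push Not at hno
      let g : Z ⧸ Z₀ → Bool := fun q => decide (q = b)
      have hg : Function.Injective g := by
        intro q q' hqq
        have hiff : q = b ↔ q' = b := by simpa [g] using hqq
        by_cases hq : q = b
        · rw [hq, hiff.mp hq]
        · have hq' : q' ≠ b := fun h => hq (hiff.mpr h)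
          exact (by_contra fun h => hq (hno q h) : q = ((1 : Z) : Z ⧸ Z₀)).trans
            (by_contra fun h => hq' (hno q' h) : q' = ((1 : Z) : Z ⧸ Z₀)).symm
      have := Nat.card_le_card_of_injective g hg
      simp at this
      omega
    obtain ⟨q, hq, -⟩ := hkey ((1 : Z) : Z ⧸ Z₀)
    obtain ⟨e, rfl⟩ := QuotientGroup.mk_surjective q
    obtain ⟨q', hq', hq'e⟩ := hkey (e : Z ⧸ Z₀)
    obtain ⟨f, rfl⟩ := QuotientGroup.mk_surjective q'
    have hone : ∀ z : Z, (z : Z ⧸ Z₀) ≠ ((1 : Z) : Z ⧸ Z₀) → (z : G) ∉ center G := by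
      intro z hz hc
      refine hz ((QuotientGroup.eq.mpr ?_).symm)
      simpa [hZ₀, mem_subgroupOf] using hc
    refine ⟨e, f, e.2, f.2, hone e hq, hone f hq', fun hc => hq'e ?_⟩
    rw [QuotientGroup.eq, hZ₀, mem_subgroupOf]
    refine ⟨(f⁻¹ * e : Z).2, ?_⟩
    have : ((f : G))⁻¹ * (e : G) = (e : G) * f := by
      rw [inv_eq_of_mul_eq_one_right (C.sqZ _ f.2), C.cenU _ (C.Z_le_U f.2) _ e.2]
    show ((f : G))⁻¹ * (e : G) ∈ center G
    rw [this]; exact hc
  let A : Subgroup G :=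
    { carrier := {a | a = 1 ∨ a = e ∨ a = f ∨ a = e * f}
      one_mem' := Or.inl rfl
      mul_mem' := by
        have hee := C.sqZ e he
        have hff := C.sqZ f hf
        have hfe : f * e = e * f := (C.cenU e (C.Z_le_U he) f hf).symm
        have h1 : e * (e * f) = f := by rw [← mul_assoc, hee, one_mul]
        have h2 : f * (e * f) = e := by rw [← mul_assoc, hfe, mul_assoc, hff, mul_one]
        have h3 : e * f * e = f := by rw [mul_assoc, hfe, h1]
        have h4 : e * f * f = e := by rw [mul_assoc, hff, mul_one]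
        have h5 : e * f * (e * f) = 1 := by rw [mul_assoc, h2, hee]
        rintro a b (rfl | rfl | rfl | rfl) (rfl | rfl | rfl | rfl) <;>
          simp only [Set.mem_ofPred_eq, one_mul, mul_one, hee, hff, hfe, h1, h2, h3, h4, h5] <;>
          simp
      inv_mem' := by
        rintro a (rfl | rfl | rfl | rfl)
        · exact Or.inl inv_one
        · exact Or.inr (Or.inl (inv_eq_of_mul_eq_one_right (C.sqZ _ he)))
        · exact Or.inr (Or.inr (Or.inl (inv_eq_of_mul_eq_one_right (C.sqZ _ hf))))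
        · exact Or.inr (Or.inr (Or.inr (inv_eq_of_mul_eq_one_right (C.sqZ _ (mul_mem he hf))))) }
  have hAZ : A ≤ Z := by
    rintro a (rfl | rfl | rfl | rfl)
    · exact one_mem Z
    · exact he
    · exact hf
    · exact mul_mem he hf
  have hAea : Cfsg.IsElementaryAbelian 2 A :=
    ⟨⟨⟨fun a b => Subtype.ext (C.cenU _ (C.Z_le_U (hAZ a.2)) _ (hAZ b.2))⟩⟩,
      fun a ha => by rw [pow_two]; exact C.sqZ a (hAZ ha)⟩
  have hne : ∀ a b : G, a ∈ Z → b ∈ Z → a * b ∉ center G → a ≠ b := fun a b _ hb h hab => h (by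
    rw [hab, C.sqZ b hb]; exact one_mem _)
  have hA4 : 2 ^ 2 ≤ Nat.card A := by
    let v : Bool × Bool → A := fun
      | (false, false) => ⟨1, Or.inl rfl⟩
      | (true, false) => ⟨e, Or.inr (Or.inl rfl)⟩
      | (false, true) => ⟨f, Or.inr (Or.inr (Or.inl rfl))⟩
      | (true, true) => ⟨e * f, Or.inr (Or.inr (Or.inr rfl))⟩
    have he1 : e ≠ 1 := fun h => hec (h ▸ one_mem _)
    have hf1 : f ≠ 1 := fun h => hfc (h ▸ one_mem _)
    have hef1 : e * f ≠ 1 := fun h => hefc (h ▸ one_mem _)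
    have hef : e ≠ f := hne e f he hf hefc
    have hv : Function.Injective v := by
      rintro ⟨a, b⟩ ⟨a', b'⟩ h
      have h' := congrArg Subtype.val h
      cases a <;> cases b <;> cases a' <;> cases b' <;>
        simp_all [v, eq_comm (a := (1 : G)), C.sqZ e he]
    have := Nat.card_le_card_of_injective v hv
    simpa using this
  have hK'H₀ : K' ≤ H₀ := by
    refine H8.generation_elements hAea hA4 ((hAZ.trans hZH).trans hnorm')
      (isPGroup_not_dvd C.hp Nat.prime_two C.hp2.symm hK') fun a ha ha1 => ?_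
    have hac : a ∉ center G := by
      rcases ha with h | h | h | h
      · exact absurd h ha1
      · exact h ▸ hec
      · exact h ▸ hfc
      · exact h ▸ hefc
    exact inf_le_right.trans (T.cen_le a (hAZ ha) hac)
  -- `K` is fixed
  have hKH : K ≤ H := fun k hk => (memH k).mpr fun i => (hKR k hk _ (hxR i)).symm
  have hdispK : disp σ K ≤ H₀ := by
    rw [disp, closure_le]
    rintro _ ⟨k, hk, rfl⟩
    have hy : σ k * k⁻¹ ∈ K := mul_mem (hKinv k hk) (inv_mem hk)
    obtain ⟨n, hn⟩ := hpow' _ (H85.Shult.subset_disp (σ := σ) (hKH hk))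
    obtain ⟨b, hb⟩ := hK ⟨_, hy⟩
    have hb' : (σ k * k⁻¹) ^ p ^ b = 1 := congrArg Subtype.val hb
    obtain ⟨u, v, huv⟩ : IsCoprime ((p ^ b : ℕ) : ℤ) ((2 ^ n : ℕ) : ℤ) :=
      Nat.isCoprime_iff_coprime.mpr
        (Nat.Coprime.pow _ _ ((Nat.coprime_primes C.hp Nat.prime_two).mpr C.hp2))
    show σ k * k⁻¹ ∈ H₀
    have he' : σ k * k⁻¹ = ((σ k * k⁻¹) ^ 2 ^ n) ^ v := by
      conv_lhs => rw [← zpow_one (σ k * k⁻¹), ← huv, zpow_add, mul_comm u, zpow_mul, zpow_natCast,
        hb', one_zpow, one_mul, mul_comm v, zpow_mul, zpow_natCast]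
    rw [he']
    exact zpow_mem (hK'H₀ hn) v
  have hKfix : ∀ k ∈ K, σ k = k := by
    intro k hk
    obtain ⟨c, hc, hσc, d, hd, rfl⟩ := exists_fixed_mul C.hσ C.hcop hKinv hk
    have hy : σ (c * d) * (c * d)⁻¹ ∈ K := mul_mem (hKinv _ hk) (inv_mem hk)
    have hyU : σ (c * d) * (c * d)⁻¹ ∈ U :=
      hU ▸ H85.Shult.subset_disp (mul_mem (hC hσc) (hdispK hd))
    obtain ⟨n, hn⟩ := C.pU ⟨_, hyU⟩
    have h := eq_one_of_two_pgroup C.hp C.hp2 hK hy
      (pow_val hn : (σ (c * d) * (c * d)⁻¹) ^ 2 ^ n = 1)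
    exact mul_inv_eq_one.mp h
  -- `[N, σ]` centralises `K`
  have hDK : ∀ d ∈ disp σ N, ∀ k ∈ K, d * k = k * d := by
    intro d hd
    have : disp σ N ≤ centralizer (K : Set G) := by
      rw [disp, closure_le]
      rintro _ ⟨y, hy, rfl⟩
      rw [SetLike.mem_coe, mem_centralizer_iff]
      intro k hk
      have hk' : y⁻¹ * k * y ∈ K := by
        simpa using (mem_normalizer_iff.mp (hnorm (inv_mem hy)) k).mp hk
      have h1 : σ y * (y⁻¹ * k * y) * (σ y)⁻¹ = k := by
        rw [← hKfix _ hk', ← map_inv, ← map_mul, ← map_mul,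
          show y * (y⁻¹ * k * y) * y⁻¹ = k by group, hKfix k hk]
      calc k * (σ y * y⁻¹) = σ y * (y⁻¹ * k * y) * (σ y)⁻¹ * (σ y * y⁻¹) := by rw [h1]
        _ = σ y * y⁻¹ * k := by group
    exact fun k hk => (mem_centralizer_iff.mp (this hd) k hk).symm
  obtain ⟨A₂, hA₂D, hA₂, hA₂max, hsplit⟩ := exists_two_split C.hp C.hp2 hK hDK hpow
  have hA₂inv : Inv σ A₂ := fun a ha => hA₂max _
    (H85.Shult.inv_disp (inv_normalizer hRinv) a (hA₂D ha)) (by
      obtain ⟨n, hn⟩ := hA₂ ⟨a, ha⟩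
      exact ⟨n, by rw [← map_pow, (pow_val hn : a ^ 2 ^ n = 1), map_one]⟩)
  intro y hy
  obtain ⟨c, -, hσc, d, hd, rfl⟩ := exists_fixed_mul C.hσ C.hcop (inv_normalizer hRinv) hy
  obtain ⟨t, ht, k, hk, -, rfl⟩ := hsplit d hd
  exact mul_mem (hC hσc) (mul_mem (invariant_two_le C T hC hA₂ hA₂inv ht) (hC (hKfix k hk)))

/-- The case `C(σ) ≤ H₀`, given the two consequences of the block structure on `U`. -/
theorem not_fixed_le_top_of (C : Cfg σ r m p S U Z) (h4 : 4 ≤ (Z ⊓ center G).relIndex Z)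
    (T : Top σ U Z H₀) (hC : fixed σ ≤ H₀)
    (hcent : ∀ c : G, σ c = c → c ∈ normalizer (U : Set G) → (∃ n : ℕ, c ^ 2 ^ n = 1) →
      (∀ z ∈ Z, c * z = z * c) → ∀ u ∈ U, c * u = u * c)
    (hQ : ∀ x ∈ U, x ∉ Z → Singular σ x →
      ∀ h ∈ U, (∀ k : ℕ, Commute ((σ ^ k) x) h) → h ∈ Z) : False := by
  classical
  have : Fact r.Prime := ⟨C.hr⟩
  have : Fact (Nat.Prime 2) := ⟨Nat.prime_two⟩
  have hU := disp_top C T hC
  have hUH : U ≤ H₀ := le_normalizer.trans T.normU_le
  have hN : H₀ ≤ normalizer (U : Set G) := hU ▸ H85.Shult.le_normalizer_disp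
  have hnormU : ∀ g ∈ H₀, ∀ u ∈ U, g * u * g⁻¹ ∈ U := fun g hg u hu =>
    (mem_normalizer_iff.mp (hN hg) u).mp hu
  have hdec : ∀ g ∈ H₀, ∃ c ∈ H₀, σ c = c ∧ ∃ u ∈ U, g = c * u := by
    intro g hg
    obtain ⟨c, hc, hσc, d, hd, e⟩ := exists_fixed_mul C.hσ C.hcop T.inv hg
    exact ⟨c, hc, hσc, d, hU ▸ hd, e⟩
  have hgen : U ≤ closure {b | ∃ a ∈ U, b = a⁻¹ * σ a} := by
    conv_lhs => rw [C.defU]
    rw [disp, closure_le]
    rintro _ ⟨s, hs, rfl⟩
    obtain ⟨c, hc, hσc, d, hd, rfl⟩ := exists_fixed_mul C.hσ C.hcop C.invS hs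
    have hd' : d ∈ U := C.defU ▸ hd
    have hcd : c * d * c⁻¹ ∈ U := hnormU c (hC hσc) d hd'
    have e : σ (c * d) * (c * d)⁻¹ = ((c * d * c⁻¹)⁻¹⁻¹ * σ (c * d * c⁻¹)⁻¹)⁻¹ := by
      simp only [map_mul, map_inv, hσc]; group
    show σ (c * d) * (c * d)⁻¹ ∈ _
    rw [e]
    exact inv_mem (subset_closure ⟨(c * d * c⁻¹)⁻¹, inv_mem hcd, rfl⟩)
  have hCC : CC σ r H₀ U Z :=
    { hr := C.hr
      hodd := ⟨2 ^ (m - 1), by
        obtain ⟨m', hm'⟩ := Nat.exists_eq_succ_of_ne_zero C.m_pos.ne'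
        rw [C.hrm, hm', Nat.succ_sub_one, pow_succ]; ring⟩
      hσ := C.hσ
      hcop := C.hcop
      hCM := fun g hg => hC hg
      hUM := hUH
      hZU := C.Z_le_U
      normU := hnormU
      normZ := by
        intro g hg z hz
        obtain ⟨c, hc, hσc, u, hu, rfl⟩ := hdec g hg
        refine C.mem_Z (hnormU _ hg z (C.Z_le_U hz)) ?_
        have e : c * u * z * (c * u)⁻¹ = c * z * c⁻¹ := by
          calc c * u * z * (c * u)⁻¹ = c * (u * z) * u⁻¹ * c⁻¹ := by group
            _ = c * (z * u) * u⁻¹ * c⁻¹ := by rw [C.cenU u hu z hz]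
            _ = _ := by group
        rw [e, map_mul, map_mul, map_inv, hσc, C.fixZ hz]
      sqU := C.sqU
      comU := fun u hu v hv => by rw [commutatorElement_def]; exact C.comU u hu v hv
      cenU := C.cenU
      sqZ := C.sqZ
      sigU := C.invU
      fixZ := fun z hz => C.fixZ hz
      fixU := fun u hu h => C.mem_Z hu h
      fixC := C.center_fix
      genU := hgen
      decomp := hdec
      cent := fun c hc hσc h2 hz => hcent c hσc (hN hc) h2 hz
      two_center := by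
        intro a ha b hb hac hbc ha1 hb1
        by_contra hab
        let v : Fin 3 → ↥(Z ⊓ center G) := ![⟨1, one_mem _⟩, ⟨a, ha, hac⟩, ⟨b, hb, hbc⟩]
        have hv : Function.Injective v := by
          intro i j h
          have h' := congrArg Subtype.val h
          fin_cases i <;> fin_cases j <;>
            first | rfl | exact absurd h' ha1 | exact absurd h'.symm ha1 | exact absurd h' hb1 |
              exact absurd h'.symm hb1 | exact absurd h' hab | exact absurd h'.symm hab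
        have h3 := Nat.card_le_card_of_injective v hv
        have h2 := C.centre_two
        rw [Nat.card_eq_fintype_card (α := Fin 3), Fintype.card_fin] at h3
        omega
      hC := fun e he hec g hg => T.cen_le e he hec (mem_centralizer_singleton_iff.mpr hg)
      hQ := hQ
      hN := fun R hRM hR hRinv ⟨x, hxU, hxZ, _, hxR⟩ =>
        normalizer_le_top C h4 T hC hU hRM hR hRinv hxU hxZ hxR }
  have hodd : Odd H₀.index := by
    refine Nat.not_even_iff_odd.mp fun h => C.indexS ?_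
    exact (even_iff_two_dvd.mp h).trans (index_dvd_of_le (C.S_le_normU.trans T.normU_le))
  have hO : Cfsg.pPrimeCore 2 G ≤ center G := by
    have hn := H1.pPrimeCore_normal' 2 G
    refine C.normal_le _ hn ?_ ?_
    · intro y hy
      have : (Cfsg.pPrimeCore 2 G).map σ.toMonoidHom ≤ Cfsg.pPrimeCore 2 G :=
        H1.map_pPrimeCore_le_of_surjective 2 σ.toMonoidHom σ.surjective
      exact this (mem_map_of_mem _ hy)
    · intro h
      obtain ⟨u, hu, hne⟩ := C.exists_moved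
      have hcop := H1.card_pPrimeCore_coprime 2 G
      rw [h, card_top] at hcop
      obtain ⟨n, hn⟩ := C.pU ⟨u, hu⟩
      have hn' : u ^ 2 ^ n = 1 := pow_val hn
      have h1 : orderOf u ∣ 2 ^ n := orderOf_dvd_of_pow_eq_one hn'
      have h2 : (Nat.card G).Coprime (2 ^ n) := Nat.Coprime.pow_right _ hcop
      exact hne (by
        rw [orderOf_eq_one_iff.mp (Nat.eq_one_of_dvd_coprimes h2 (orderOf_dvd_natCard u) h1),
          map_one])
  have hZ := H10.Shult.le_center_of_fixed_le hCC C.pU T.ne_top hodd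
    (fun A hA hAinv => invariant_two_le C T hC hA hAinv) C.perfect hO
  rw [inf_eq_left.mpr hZ, relIndex_self] at h4
  omega

end H83.Shult
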