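import Cfsg.Agent.H85.Shult.Setting
import Cfsg.Agent.H1.Turull.Basic
import Cfsg.Agent.H29.CommutatorFixedBasic

/-!
Tools for the case `C(σ) ≤ H₀` of Shult's theorem: displacements of invariant subgroups, invariant
2-subgroups, and groups that are central extensions of 2-groups.
-/

set_option autoImplicit false

open Subgroup

namespace H83.Shult

open H85.Shult (Inv disp fixed Cfg)

variable {G : Type*} [Group G] [Finite G] {σ : MulAut G} {r : ℕ}

theorem inv_symm {H : Subgroup G} (hH : Inv σ H) {y : G} (hy : y ∈ H) :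
    ∃ x ∈ H, σ x = y := by
  have hle : H.map σ.toMonoidHom ≤ H := by
    rintro _ ⟨x, hx, rfl⟩; exact hH x hx
  have he : H.map σ.toMonoidHom = H := eq_of_le_of_card_ge hle
    (le_of_eq (Nat.card_congr (H.equivMapOfInjective _ σ.injective).toEquiv))
  rw [← he] at hy
  obtain ⟨x, hx, hxy⟩ := hy
  exact ⟨x, hx, hxy⟩

theorem inv_normalizer {R : Subgroup G} (hR : Inv σ R) : Inv σ (normalizer (R : Set G)) := by
  intro g hg
  refine mem_normalizer_fintype fun y hy => ?_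
  obtain ⟨x, hx, rfl⟩ := inv_symm hR hy
  rw [← map_inv, ← map_mul, ← map_mul]
  exact hR _ ((mem_normalizer_iff.mp hg x).mp hx)

/-- An element of an invariant subgroup is fixed times displaced. -/
theorem exists_fixed_mul [Fact r.Prime] (hσ : σ ^ r = 1) (hcop : ¬ r ∣ Nat.card G) {H : Subgroup G}
    (hH : Inv σ H) {h : G} (hh : h ∈ H) : ∃ c ∈ H, σ c = c ∧ ∃ d ∈ disp σ H, h = c * d := by
  set D := disp σ H with hD
  have hDH : D ≤ H := H85.Shult.disp_le hH
  have ha : h⁻¹ * σ h ∈ D := by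
    have h1 := H85.Shult.subset_disp (σ := σ) hh
    have h2 := (mem_normalizer_iff.mp (H85.Shult.le_normalizer_disp (σ := σ) (inv_mem hh)) _).mp h1
    simpa [mul_assoc] using h2
  obtain ⟨c, hc, hσc⟩ := H1.Turull.exists_fixed_coset σ hσ D (H85.Shult.inv_disp hH)
    (fun hd => hcop (hd.trans D.card_subgroup_dvd_card)) h ha
  refine ⟨c, ?_, hσc, c⁻¹ * h, ?_, by group⟩
  · simpa using mul_mem hh (hDH hc)
  · simpa using inv_mem hc

/-- Two invariant Sylow subgroups are conjugate by a fixed element, and invariant `2`-subgroups lie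
in invariant Sylow subgroups. -/
theorem exists_conj_le [Fact r.Prime] (hσ : σ ^ r = 1) (hcop : ¬ r ∣ Nat.card G) {S T : Subgroup G}
    (hS : IsPGroup 2 S) (hSinv : Inv σ S) (hSi : ¬ 2 ∣ S.index) (hT : IsPGroup 2 T)
    (hTinv : Inv σ T) : ∃ c : G, σ c = c ∧ ∀ t ∈ T, c⁻¹ * t * c ∈ S := by
  classical
  have : Fact (Nat.Prime 2) := ⟨Nat.prime_two⟩
  have : Nonempty {A : Subgroup G // IsPGroup 2 A ∧ Inv σ A ∧ T ≤ A} := ⟨⟨T, hT, hTinv, le_rfl⟩⟩
  obtain ⟨⟨A, hA, hAinv, hTA⟩, hmax⟩ :=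
    Finite.exists_max (fun A : {A : Subgroup G // IsPGroup 2 A ∧ Inv σ A ∧ T ≤ A} => Nat.card A.1)
  set N := normalizer (A : Set G) with hN
  have hNinv : Inv σ N := inv_normalizer hAinv
  let f : N →* N := (σ.toMonoidHom.comp N.subtype).codRestrict N fun g => hNinv g g.2
  have hf : Function.Bijective f := Finite.injective_iff_bijective.mp fun a b hab =>
    Subtype.ext (σ.injective (congrArg Subtype.val hab))
  let τ : MulAut N := MulEquiv.ofBijective f hf
  have hτ : ∀ (k : ℕ) (g : N), ((τ ^ k) g : G) = (σ ^ k) (g : G) := by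
    intro k
    induction k with
    | zero => simp
    | succ k ih => intro g; rw [pow_succ, pow_succ, MulAut.mul_apply, MulAut.mul_apply, ih]; rfl
  have hτr : τ ^ r = 1 := by
    ext g
    rw [hτ, hσ]; rfl
  obtain ⟨Q, hQ⟩ := Cfsg.Agent.H29.exists_invariant_sylow hτr
    (fun h => hcop (h.trans (card_subgroup_dvd_card N))) 2
  have hAN : (A.subgroupOf N).Normal := inferInstance
  have hAp : IsPGroup 2 ↥(A.subgroupOf N) := hA.comap_of_injective N.subtype N.subtype_injective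
  have hAQ : A.subgroupOf N ≤ (Q : Subgroup N) :=
    le_sup_left.trans (Q.3 (hAp.to_sup_of_normal_left Q.2) le_sup_right).le
  set B := (Q : Subgroup N).map N.subtype with hB
  have hAB : A ≤ B := fun a ha =>
    ⟨⟨a, le_normalizer ha⟩, hAQ (mem_subgroupOf.mpr ha), rfl⟩
  have hBinv : Inv σ B := by
    rintro _ ⟨q, hq, rfl⟩
    exact ⟨τ q, hQ q hq, rfl⟩
  have hBA : A = B := eq_of_le_of_card_ge hAB
    (hmax ⟨B, Q.2.map _, hBinv, hTA.trans hAB⟩)
  -- so `A` is a Sylow subgroup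
  obtain ⟨P, hP⟩ := hA.exists_le_sylow
  have hPA : (P : Subgroup G) = A := by
    by_contra hne
    have hlt : A.subgroupOf (P : Subgroup G) < ⊤ := lt_top_iff_ne_top.2 fun h =>
      hne (le_antisymm (subgroupOf_eq_top.1 h) hP)
    have hnil : Group.IsNilpotent (P : Subgroup G) := P.2.isNilpotent
    obtain ⟨x, hx, hxA⟩ := SetLike.exists_of_lt (Group.normalizerCondition_of_isNilpotent _ hlt)
    have hxN : (x : G) ∈ N := by
      refine mem_normalizer_fintype fun a ha => ?_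
      have h := (mem_normalizer_iff.mp hx ⟨a, hP ha⟩).mp (mem_subgroupOf.mpr ha)
      exact mem_subgroupOf.mp h
    -- the `2`-element `x` of `N` lies in a conjugate of `Q`, and `A` is normal
    have hxp : IsPGroup 2 ↥(A.subgroupOf N ⊔ zpowers (⟨x, hxN⟩ : N)) := by
      refine hAp.to_sup_of_normal_left ?_
      have h1 : IsPGroup 2 (zpowers (x : G)) := P.2.to_le (zpowers_le.mpr x.2)
      refine IsPGroup.to_le (h1.comap_of_injective N.subtype N.subtype_injective) ?_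
      rw [zpowers_le, mem_comap]
      exact mem_zpowers _
    obtain ⟨Q', hQ'⟩ := hxp.exists_le_sylow
    obtain ⟨n, hn⟩ := MulAction.exists_smul_eq N Q' Q
    have hxQ : n * ⟨x, hxN⟩ * n⁻¹ ∈ (Q : Subgroup N) := by
      rw [← hn]; exact ⟨⟨x, hxN⟩, hQ' (mem_sup_right (mem_zpowers _)), rfl⟩
    have h2 : (n : G) * x * (n : G)⁻¹ ∈ A := by
      rw [hBA]; exact ⟨_, hxQ, rfl⟩
    exact hxA (mem_subgroupOf.mpr ((mem_normalizer_iff.mp n.2 (x : G)).mpr h2))
  obtain ⟨P₀, hP₀⟩ := hS.exists_le_sylow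
  have hSP : S = (P₀ : Subgroup G) := by
    refine le_antisymm hP₀ (relIndex_eq_one.mp ?_)
    obtain ⟨k, hk⟩ := IsPGroup.iff_card.mp P₀.2
    have h1 : S.relIndex (P₀ : Subgroup G) ∣ 2 ^ k := hk ▸ relIndex_dvd_card S _
    obtain ⟨j, -, hj⟩ := (Nat.dvd_prime_pow Nat.prime_two).mp h1
    have h2 := relIndex_dvd_index_of_le hP₀
    rcases j with _ | j
    · simpa using hj
    · exact absurd ((Dvd.intro_left _ (pow_succ 2 j).symm).trans (hj ▸ h2)) hSi
  obtain ⟨g, hg⟩ := MulAction.exists_smul_eq G P₀ P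
  have hgS : ∀ a, a ∈ A ↔ g⁻¹ * a * g ∈ S := by
    intro a
    rw [hSP, ← hPA, ← hg]
    constructor
    · rintro ⟨y, hy, rfl⟩
      simp [MulAut.conj_apply, mul_assoc]
      exact hy
    · intro h
      exact ⟨_, h, by simp [MulAut.conj_apply, mul_assoc]⟩
  have hn : g⁻¹ * σ g ∈ normalizer (S : Set G) := by
    refine mem_normalizer_fintype fun y hy => ?_
    obtain ⟨x, hx, rfl⟩ := inv_symm hSinv hy
    have h1 : g * x * g⁻¹ ∈ A := (hgS _).mpr (by simpa [mul_assoc] using hx)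
    have h2 := (hgS _).mp (hAinv _ h1)
    rw [map_mul, map_mul, map_inv] at h2
    simpa [mul_assoc] using h2
  obtain ⟨c, hc, hσc⟩ := H1.Turull.exists_fixed_coset σ hσ _ (inv_normalizer hSinv)
    (fun hd => hcop (hd.trans (card_subgroup_dvd_card _))) g hn
  refine ⟨c, hσc, fun t ht => ?_⟩
  have h1 := (hgS t).mp (hTA ht)
  have h2 := (mem_normalizer_iff.mp (inv_mem hc) _).mp h1
  simpa [mul_assoc] using h2

/-- A group with a central `p`-part over which it is a 2-group splits. -/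
theorem exists_two_split {p : ℕ} (hp : p.Prime) (hp2 : p ≠ 2) {D K : Subgroup G}
    (hK : IsPGroup p K) (hDK : ∀ d ∈ D, ∀ k ∈ K, d * k = k * d)
    (hpow : ∀ x ∈ D, ∃ n : ℕ, x ^ 2 ^ n ∈ K) :
    ∃ T : Subgroup G, T ≤ D ∧ IsPGroup 2 T ∧ (∀ x ∈ D, (∃ n : ℕ, x ^ 2 ^ n = 1) → x ∈ T) ∧
      ∀ x ∈ D, ∃ t ∈ T, ∃ k ∈ K, k ∈ D ∧ x = t * k := by
  classical
  have : Fact (Nat.Prime 2) := ⟨Nat.prime_two⟩
  have hq : IsPGroup 2 (D ⧸ center D) := by
    intro y
    obtain ⟨x, rfl⟩ := QuotientGroup.mk_surjective y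
    obtain ⟨n, hn⟩ := hpow x x.2
    refine ⟨n, ?_⟩
    rw [← QuotientGroup.mk_pow, QuotientGroup.eq_one_iff, mem_center_iff]
    exact fun d => Subtype.ext (hDK d d.2 _ (by simpa using hn))
  have hnil : Group.IsNilpotent D := Group.of_quotient_center_nilpotent hq.isNilpotent
  obtain ⟨P⟩ : Nonempty (Sylow 2 D) := inferInstance
  have hPn : (P : Subgroup D).Normal :=
    P.normal_of_normalizerCondition Group.normalizerCondition_of_isNilpotent
  have := Sylow.unique_of_normal P hPn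
  set T := (P : Subgroup D).map D.subtype with hT
  have htwo : ∀ x ∈ D, (∃ n : ℕ, x ^ 2 ^ n = 1) → x ∈ T := by
    intro x hx ⟨n, hn⟩
    have hx2 : IsPGroup 2 (zpowers (⟨x, hx⟩ : D)) := by
      intro y
      obtain ⟨k, hk⟩ := mem_zpowers_iff.mp y.2
      refine ⟨n, Subtype.ext ?_⟩
      rw [Subgroup.coe_pow, ← hk, ← zpow_natCast, ← zpow_mul, mul_comm, zpow_mul, zpow_natCast,
        show (⟨x, hx⟩ : D) ^ 2 ^ n = 1 from Subtype.ext (by simpa using hn), one_zpow]
      rfl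
    obtain ⟨P', hP'⟩ := hx2.exists_le_sylow
    exact ⟨⟨x, hx⟩, Subsingleton.elim P' P ▸ hP' (mem_zpowers _), rfl⟩
  refine ⟨T, map_subtype_le _, P.2.map _, htwo, fun x hx => ?_⟩
  obtain ⟨n, hn⟩ := hpow x hx
  obtain ⟨b, hb⟩ := hK ⟨_, hn⟩
  have hb' : (x ^ 2 ^ n) ^ p ^ b = 1 := congrArg Subtype.val hb
  have hcp : IsCoprime ((p ^ b : ℕ) : ℤ) ((2 ^ n : ℕ) : ℤ) :=
    Nat.isCoprime_iff_coprime.mpr (Nat.Coprime.pow _ _ ((Nat.coprime_primes hp Nat.prime_two).mpr hp2))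
  obtain ⟨u, v, huv⟩ := hcp
  have h2 : (x ^ p ^ b) ^ 2 ^ n = 1 := by rw [← pow_mul, mul_comm, pow_mul, hb']
  refine ⟨(x ^ p ^ b) ^ u, zpow_mem (htwo _ (pow_mem hx _) ⟨n, h2⟩) u, (x ^ 2 ^ n) ^ v,
    zpow_mem hn v, zpow_mem (pow_mem hx _) v, ?_⟩
  rw [← zpow_natCast x, ← zpow_natCast x, ← zpow_mul, ← zpow_mul, ← zpow_add, mul_comm _ u,
    mul_comm _ v, huv, zpow_one]

end H83.Shult
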