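import Cfsg.Agent.H83.Shult.FixedInTop
import Cfsg.Agent.H3.Shult.Blocks

/-!
The case `C(σ) ≤ H₀` of Shult's theorem, with the inputs from the block structure filled in.
-/

set_option autoImplicit false

open Subgroup

namespace H83.Shult

open H85.Shult (fixed Cfg Top)

variable {G : Type*} [Group G] [Finite G] {σ : MulAut G} {r m p : ℕ} {S U Z H₀ : Subgroup G}

/-- The fixed points do not lie in the unique maximal invariant overgroup of `U`. -/
theorem not_fixed_le_top (C : Cfg σ r m p S U Z) (h4 : 4 ≤ (Z ⊓ center G).relIndex Z)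
    (T : Top σ U Z H₀) (hC : fixed σ ≤ H₀) : False :=
  not_fixed_le_top_of C h4 T hC (fun _ hc hcN _ hcZ => H3.Shult.cent C hc hcN hcZ)
    (fun _ hx hxZ hs _ hh hcomm => H3.Shult.hQ C hx hxZ hs hh hcomm)

end H83.Shult
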