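import Cfsg.Agent.H83.Shult.TCaseFixed
import Cfsg.Agent.H83.FrobeniusAction
import Mathlib.SetTheory.Cardinal.NatCard

/-!
No invariant normal 2-subgroup is moved in the irreducible fixed-point-free setting of Shult's
theorem. If an invariant Sylow `p`-subgroup `P` is not displaced into the kernel `N`, then
`G = T₀ P` and `P⟨σ⟩` is a Frobenius group on `T₀` modulo the centre, whose order is then
`c ^ r = c * 2 ^ (2 m)`.
-/

set_option autoImplicit false
set_option linter.unusedSectionVars false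
set_option linter.style.haveILetI false

open Subgroup

namespace H83.Shult.TCase

open H85.Shult (Inv disp fixed Rep Irred)
open H3.Shult (cm)

universe u v w

variable {G : Type u} [Group G] [Finite G] {σ : MulAut G} {r p m : ℕ} {T₀ : Subgroup G} {z : G}
  {k : Type v} [Field k] [IsAlgClosed k] {V : Type w} [AddCommGroup V] [Module k V]
  [FiniteDimensional k V] [Nontrivial V] [Fact p.Prime] [CharP k p]
  {ρ : G →* Module.End k V} {T : Module.End k V}

theorem eq_two_of_pow {c m : ℕ} (hm : 0 < m) (h : c ^ 2 ^ m = (2 ^ m) ^ 2) : c = 2 := by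
  have h2 : 2 ^ m ≠ 0 := (Nat.two_pow_pos m).ne'
  have hd : c ∣ 2 ^ (m * 2) := by rw [pow_mul, ← h]; exact dvd_pow_self c h2
  obtain ⟨i, -, rfl⟩ := (Nat.dvd_prime_pow Nat.prime_two).mp hd
  rw [← pow_mul, ← pow_mul] at h
  have h' : i * 2 ^ m = m * 2 := Nat.pow_right_injective le_rfl h
  have hlt : m < 2 ^ m := Nat.lt_two_pow_self
  rcases i with _ | _ | i
  · omega
  · rfl
  · exfalso
    have h3 : 2 * 2 ^ m ≤ (i + 1 + 1) * 2 ^ m := Nat.mul_le_mul_right _ (by omega)
    rw [h'] at h3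
    omega

/-- The second case is impossible. -/
theorem false_of_not_disp_le (R : Rep σ r ρ T) (hp2 : p ≠ 2) (hD : disp σ ⊤ = ⊤)
    (hsmall : ∀ H : Subgroup G, Inv σ H → H ≠ ⊤ →
      ∃ K : Subgroup G, K ≤ H ∧ IsPGroup p K ∧ Inv σ K ∧ H ≤ normalizer (K : Set G) ∧
        ∀ x ∈ disp σ H, ∃ n : ℕ, x ^ 2 ^ n ∈ K)
    (M : MinT σ T₀) (d : QData σ r m T₀ z) (P : Sylow p G) (hPi : Inv σ (P : Subgroup G))
    (hPd : ¬ disp σ (P : Subgroup G) ≤ cker (T₀ : Set G)) : False := by
  classical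
  haveI : Fact (Nat.Prime 2) := ⟨Nat.prime_two⟩
  haveI : Fact r.Prime := ⟨R.hr⟩
  haveI hn := M.normal
  set N := cker (T₀ : Set G) with hN
  have hop := H85.Shult.op_iff R.hσ R.hcop
  have hsup : T₀ ⊔ (P : Subgroup G) = ⊤ :=
    by_contra fun h => hPd (disp_le_cker hp2 hsmall M hPi P.2 h)
  obtain ⟨x₀, hx₀, hx₀N⟩ : ∃ x ∈ (P : Subgroup G), σ x * x⁻¹ ∉ N := by
    by_contra h
    push Not at h
    exact hPd (by rw [disp, closure_le]; rintro _ ⟨x, hx, rfl⟩; exact h x hx)
  -- proper invariant subgroups of `P` are displaced into `N`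
  have hprop : ∀ Y : Subgroup G, Y ≤ (P : Subgroup G) → Inv σ Y → Y ≠ (P : Subgroup G) →
      disp σ Y ≤ N := by
    intro Y hYP hYi hne
    refine disp_le_cker hp2 hsmall M hYi (P.2.to_le hYP) fun htop => hne ?_
    refine eq_of_le_of_card_ge hYP (Nat.le_of_dvd Nat.card_pos ?_)
    have h1 : Nat.card (P : Subgroup G) ∣ Nat.card Y * Nat.card T₀ := by
      refine Dvd.dvd.trans ?_ (H1.card_sup_dvd_mul Y T₀)
      rw [sup_comm, htop, Subgroup.card_top]
      exact card_subgroup_dvd_card _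
    refine Nat.Coprime.dvd_of_dvd_mul_right ?_ h1
    obtain ⟨a, ha⟩ := IsPGroup.iff_card.mp P.2
    obtain ⟨b, hb⟩ := IsPGroup.iff_card.mp M.two
    rw [ha, hb]
    exact Nat.Coprime.pow _ _ ((Nat.coprime_primes Fact.out Nat.prime_two).mpr hp2)
  -- a subgroup of `T₀` over the central part, normalised by `P`, is normal
  have hnormal : ∀ Y : Subgroup G, Y ≤ T₀ → (∀ t ∈ T₀, t ∈ center G → t ∈ Y) →
      (∀ y ∈ (P : Subgroup G), ∀ t ∈ Y, y * t * y⁻¹ ∈ Y) → Y.Normal := by
    intro Y hYT hYc hYP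
    rw [← normalizer_eq_top_iff, eq_top_iff, ← hsup]
    refine sup_le (fun a ha => ?_) fun a ha => mem_normalizer_fintype (hYP a ha)
    refine mem_normalizer_fintype fun t ht => ?_
    rw [cm_eq_conj]
    exact mul_mem (hYc _ (mul_mem (hn.conj_mem t (hYT ht) a) (inv_mem (hYT ht)))
      (cm_mem_center hD M ha (hYT ht))) ht
  -- `W = T₀` modulo the centre
  set Tc := (center G).subgroupOf T₀ with hTc
  haveI hTcn : Tc.Normal := inferInstance
  letI : CommGroup (↥T₀ ⧸ Tc) :=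
    { (inferInstance : Group (↥T₀ ⧸ Tc)) with
      mul_comm := fun a b => by
        induction a using QuotientGroup.induction_on with
        | H a =>
          induction b using QuotientGroup.induction_on with
          | H b =>
            rw [← QuotientGroup.mk_mul, ← QuotientGroup.mk_mul, QuotientGroup.eq_iff_div_mem,
              mem_subgroupOf, div_eq_mul_inv]
            have e : ((a * b * (b * a)⁻¹ : T₀) : G) = cm (a : G) (b : G) := by
              simp only [cm, Subgroup.coe_mul, Subgroup.coe_inv]; group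
            rw [e]
            exact cm_mem_center hD M a.2 b.2 }
  haveI : Finite (MulAut (↥T₀ ⧸ Tc)) :=
    Finite.of_injective (fun e => (e : ↥T₀ ⧸ Tc → ↥T₀ ⧸ Tc)) DFunLike.coe_injective
  have hmk : ∀ a b : T₀, (a : ↥T₀ ⧸ Tc) = b ↔ (a : G) * (b : G)⁻¹ ∈ center G := by
    intro a b
    rw [QuotientGroup.eq_iff_div_mem, mem_subgroupOf, div_eq_mul_inv]
    rfl
  have hexp : ∀ w : ↥T₀ ⧸ Tc, w ^ 2 = 1 := by
    intro w
    induction w using QuotientGroup.induction_on with
    | H a =>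
      rw [← QuotientGroup.mk_pow, QuotientGroup.eq_one_iff, mem_subgroupOf, Subgroup.coe_pow,
        pow_two]
      exact sq_center hD M a.2
  have hTconj : ∀ g : G, Tc.map (MulAut.conjNormal g : MulAut T₀).toMonoidHom = Tc := by
    intro g
    ext a
    simp only [mem_map, MulEquiv.coe_toMonoidHom]
    constructor
    · rintro ⟨b, hb, rfl⟩
      rw [hTc, mem_subgroupOf] at hb ⊢
      rwa [MulAut.conjNormal_apply, conj_self hb]
    · intro ha
      rw [hTc, mem_subgroupOf] at ha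
      exact ⟨a, mem_subgroupOf.mpr ha,
        Subtype.ext (by rw [MulAut.conjNormal_apply, conj_self ha])⟩
  let φ : G →* MulAut (↥T₀ ⧸ Tc) :=
    { toFun := fun g => QuotientGroup.congr Tc Tc (MulAut.conjNormal g) (hTconj g)
      map_one' := MulEquiv.ext fun w => by
        induction w using QuotientGroup.induction_on with
        | H a => simp
      map_mul' := fun g h => MulEquiv.ext fun w => by
        induction w using QuotientGroup.induction_on with
        | H a =>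
          show (((MulAut.conjNormal (g * h) a : T₀)) : ↥T₀ ⧸ Tc) =
            ((MulAut.conjNormal g (MulAut.conjNormal h a) : T₀) : ↥T₀ ⧸ Tc)
          rw [map_mul, MulAut.mul_apply] }
  have hφ : ∀ (g : G) (a : T₀),
      φ g (a : ↥T₀ ⧸ Tc) = ((MulAut.conjNormal g a : T₀) : ↥T₀ ⧸ Tc) := fun g a => rfl
  have hφfix : ∀ (g : G) (a : T₀), φ g (a : ↥T₀ ⧸ Tc) = a ↔ cm g (a : G) ∈ center G := by
    intro g a
    rw [hφ, hmk, MulAut.conjNormal_apply]
    rfl
  have hφker : ∀ g : G, φ g = 1 ↔ g ∈ N := by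
    intro g
    refine ⟨fun h t ht => (hφfix g ⟨t, ht⟩).mp (by rw [h]; rfl),
      fun h => MulEquiv.ext fun w => ?_⟩
    induction w using QuotientGroup.induction_on with
    | H a => exact (hφfix g a).mpr (h a a.2)
  have hφeq : ∀ g h : G, φ g = φ h ↔ g * h⁻¹ ∈ N := fun g h => by
    rw [← hφker, map_mul, map_inv, mul_inv_eq_one]
  have hTci : H12.RComp.Inv (H12.RComp.restrict σ T₀ M.inv) Tc := by
    intro a ha
    rw [hTc, mem_subgroupOf] at ha ⊢
    exact map_center_mem ha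
  set τ := H12.RComp.quot (H12.RComp.restrict σ T₀ M.inv) Tc hTci with hτdef
  have hτr : τ ^ r = 1 := ((hop.restrict T₀ M.inv).quot Tc hTci).1
  have hτ : ∀ a : T₀, τ (a : ↥T₀ ⧸ Tc) = ((⟨σ a, M.inv a a.2⟩ : T₀) : ↥T₀ ⧸ Tc) := fun a => rfl
  have hconj : ∀ g : G, τ * φ g * τ⁻¹ = φ (σ g) := by
    intro g
    rw [mul_inv_eq_iff_eq_mul]
    refine MulEquiv.ext fun w => ?_
    induction w using QuotientGroup.induction_on with
    | H a =>
      rw [MulAut.mul_apply, MulAut.mul_apply, hφ, hτ, hτ, hφ]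
      congr 1
      exact Subtype.ext (by simp)
  set K := (P : Subgroup G).map φ with hK
  have hKi : H12.RComp.Inv (MulAut.conj τ) K := by
    rintro _ ⟨g, hg, rfl⟩
    exact ⟨σ g, hPi g hg, by rw [MulAut.conj_apply, hconj]⟩
  set θ := H12.RComp.restrict (MulAut.conj τ) K hKi with hθdef
  have hθ : ∀ (y : G) (hy : y ∈ (P : Subgroup G)),
      θ ⟨φ y, mem_map_of_mem φ hy⟩ = ⟨φ (σ y), mem_map_of_mem φ (hPi y hy)⟩ := fun y hy =>
    Subtype.ext (by rw [hθdef, H12.RComp.coe_restrict, MulAut.conj_apply, hconj])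
  have hKp : IsPGroup p K := P.2.map φ
  have hmin : H36.MinAct.IsMin θ p r := by
    refine ⟨hKp, Fact.out, R.hr, R.ne_char (p := p), fun a => ?_,
      ⟨⟨φ x₀, mem_map_of_mem φ hx₀⟩, fun h => ?_⟩, fun S hS hSi a ha => ?_⟩
    · have key : ∀ n : ℕ, (θ : K → K)^[n] a = (θ ^ n) a := by
        intro n
        induction n with
        | zero => rfl
        | succ n ih => rw [Function.iterate_succ_apply', ih, pow_succ', MulAut.mul_apply]
      refine (key r).trans (Subtype.ext ?_)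
      rw [H12.RComp.coe_restrict_pow, ← map_pow, hτr, map_one]
      rfl
    · exact hx₀N ((hφeq _ _).mp (congrArg Subtype.val ((hθ x₀ hx₀).symm.trans h)))
    · let Y : Subgroup G := (P : Subgroup G) ⊓ (S.map K.subtype).comap φ
      have hYi : Inv σ Y := by
        rintro y ⟨hy, s, hs, hsy⟩
        refine ⟨hPi y hy, θ s, hSi s hs, ?_⟩
        rw [show s = (⟨φ y, mem_map_of_mem φ hy⟩ : K) from Subtype.ext hsy, hθ y hy]
        rfl
      have hYne : Y ≠ (P : Subgroup G) := by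
        intro he
        refine hS (eq_top_iff.mpr ?_)
        rintro ⟨_, y, hy, rfl⟩ -
        obtain ⟨-, s, hs, hsy⟩ := he.ge hy
        rwa [show (⟨φ y, y, hy, rfl⟩ : K) = s from Subtype.ext hsy.symm]
      obtain ⟨y, hy, hay⟩ := a.2
      have hyY : y ∈ Y := ⟨hy, a, ha, hay.symm⟩
      show θ a = a
      rw [show a = (⟨φ y, mem_map_of_mem φ hy⟩ : K) from Subtype.ext hay.symm, hθ y hy]
      exact Subtype.ext
        ((hφeq _ _).mpr (hprop Y inf_le_left hYi hYne (H85.Shult.subset_disp hyY)))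
  obtain ⟨q₀, hq₀, hq₀c⟩ := d.exists_noncentral
  -- `σ` has no fixed points on `K`
  have hfixK : ∀ c ∈ (P : Subgroup G), σ c = c → c ∈ N := by
    intro c hc hcf
    have hcc := hmin.fixed_central (f := ⟨φ c, mem_map_of_mem φ hc⟩)
      (by rw [hθ c hc]; exact Subtype.ext (congrArg φ hcf))
    let Fc := rker T₀ ({c} : Set G)
    have hFn : Fc.Normal := hnormal Fc (fun t ht => ht.1)
      (fun t ht htc => ⟨ht, fun g _ => by rw [cm_center htc]; exact one_mem _⟩)
      fun y hy t ht => by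
        have hyt : y * t * y⁻¹ ∈ T₀ := hn.conj_mem t ht.1 y
        refine ⟨hyt, fun g hg => ?_⟩
        obtain rfl : g = c := hg
        have hcomm : φ g * φ y = φ y * φ g :=
          congrArg Subtype.val (mem_center_iff.mp hcc ⟨φ y, mem_map_of_mem φ hy⟩).symm
        have hyw : ((⟨y * t * y⁻¹, hyt⟩ : T₀) : ↥T₀ ⧸ Tc) = φ y ((⟨t, ht.1⟩ : T₀) : ↥T₀ ⧸ Tc) := by
          rw [hφ]; congr 1
        refine (hφfix g ⟨_, hyt⟩).mp ?_
        rw [hyw, ← MulAut.mul_apply, hcomm, MulAut.mul_apply,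
          (hφfix g ⟨t, ht.1⟩).mpr (ht.2 g rfl)]
    have hFi : Inv σ Fc := by
      refine fun t ht => ⟨M.inv t ht.1, fun g hg => ?_⟩
      obtain rfl : g = c := hg
      rw [← hcf, ← H3.Shult.map_cm]
      exact map_center_mem (ht.2 g rfl)
    have he := d.eq_T₀ hD M hFn hFi (fun t ht => ht.1) fun q hq =>
      ⟨H85.Shult.disp_le M.inv hq, fun g hg => by
        obtain rfl : g = c := hg
        rw [H3.Shult.cm_eq_one_iff.mpr (d.cent g hcf q hq)]; exact one_mem _⟩
    exact fun t ht => (he.ge ht).2 c rfl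
  have hτ1 : τ ≠ 1 := fun h => hx₀N ((hφeq _ _).mp (by rw [← hconj x₀, h, one_mul, inv_one, mul_one]))
  have hord : orderOf τ = r := orderOf_eq_prime hτr hτ1
  have hcardR : Nat.card (zpowers τ) = r := by rw [Nat.card_zpowers, hord]
  have hfpf : ∀ s ∈ zpowers τ, s ≠ 1 → ∀ a ∈ K, s * a * s⁻¹ = a → a = 1 := by
    intro s hs hs1 a ha hsa
    obtain ⟨g, hg, rfl⟩ := ha
    have hsr : orderOf s = r := ((Nat.dvd_prime R.hr).mp
      (hord ▸ orderOf_dvd_of_mem_zpowers hs)).resolve_left (by simpa using hs1)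
    have heq : zpowers s = zpowers τ := eq_of_le_of_card_ge (zpowers_le.mpr hs) (by
      rw [Nat.card_zpowers, Nat.card_zpowers, hsr, hord])
    have hle : zpowers s ≤ centralizer ({φ g} : Set _) :=
      zpowers_le.mpr (mem_centralizer_singleton_iff.mpr (mul_inv_eq_iff_eq_mul.mp hsa))
    have hc := mem_centralizer_singleton_iff.mp (hle (heq ▸ mem_zpowers τ))
    have hgf : φ (σ g) = φ g := by rw [← hconj g, hc, mul_inv_cancel_right]
    have hd : g⁻¹ * σ g ∈ (P : Subgroup G) ⊓ N := by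
      refine ⟨(mul_mem (inv_mem hg) (hPi g hg) : _ ∈ (P : Subgroup G)), ?_⟩
      show g⁻¹ * σ g ∈ N
      rw [← hφker, map_mul, map_inv, hgf, inv_mul_cancel]
    obtain ⟨e, he, hef⟩ := H12.RComp.exists_fixed_lift R.hσ
      (H12.RComp.Inv.inf hPi (inv_cker M.inv)) (hop.not_dvd _) hd
    rw [hφker]
    exact (Subgroup.mul_mem_cancel_right N he.2).mp (hfixK _ (mul_mem hg he.1) hef)
  have hRK : zpowers τ ≤ normalizer (K : Set (MulAut (↥T₀ ⧸ Tc))) :=
    zpowers_le.mpr (mem_normalizer_fintype fun a ha => hKi a ha)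
  have hfK : fixedOf (MonoidHom.id (MulAut (↥T₀ ⧸ Tc))) K = ⊥ := by
    rw [eq_bot_iff]
    intro w hw
    induction w using QuotientGroup.induction_on with
    | H a =>
      let F₀ := rker T₀ ((P : Subgroup G) : Set G)
      have hFn : F₀.Normal := hnormal F₀ (fun t ht => ht.1)
        (fun t ht htc => ⟨ht, fun g _ => by rw [cm_center htc]; exact one_mem _⟩)
        fun y hy t ht => ⟨hn.conj_mem t ht.1 y, fun g hg => by
          have hc := ht.2 (y⁻¹ * g * y) (mul_mem (mul_mem (inv_mem hy) hg) hy)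
          have e : cm g (y * t * y⁻¹) = y * cm (y⁻¹ * g * y) t * y⁻¹ := by simp only [cm]; group
          rw [e, conj_self hc]
          exact hc⟩
      have hne : F₀ ≠ T₀ := fun he => hx₀N fun t ht =>
        (he.ge ht).2 _ (mul_mem (hPi x₀ hx₀) (inv_mem hx₀))
      have hle := le_center_of_lt hD M hFn (inv_rker M.inv hPi) (fun t ht => ht.1) hne
      rw [mem_bot, QuotientGroup.eq_one_iff, mem_subgroupOf]
      exact hle ⟨a.2, fun g hg => (hφfix g a).mp (hw (φ g) (mem_map_of_mem φ hg))⟩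
  have hℓK : ¬ 2 ∣ Nat.card K := by
    obtain ⟨j, hj⟩ := IsPGroup.iff_card.mp hKp
    rw [hj]
    exact fun h => hp2 ((Nat.prime_dvd_prime_iff_eq Nat.prime_two Fact.out).mp
      (Nat.prime_two.dvd_of_dvd_pow h)).symm
  have hℓR : ¬ 2 ∣ Nat.card (zpowers τ) := by
    rw [hcardR, d.hr, Nat.dvd_add_right (dvd_pow_self 2 d.form.m_pos.ne')]
    norm_num
  have hsol : Group.IsSolvable K := by
    haveI := hKp.isNilpotent
    infer_instance
  obtain ⟨hcard, -⟩ :=
    frobenius_card_elemAb hexp (MonoidHom.id _) hRK hfpf hsol hℓK hℓR hfK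
  rw [hcardR] at hcard
  -- the order of `W`
  let δ : (↥T₀ ⧸ Tc) →* ↥T₀ ⧸ Tc :=
    { toFun := fun w => τ w * w⁻¹
      map_one' := by simp
      map_mul' := fun a b => by simp only [map_mul, mul_inv]; exact mul_mul_mul_comm _ _ _ _ }
  let ψ : disp σ T₀ →* ↥T₀ ⧸ Tc :=
    (QuotientGroup.mk' Tc).comp (Subgroup.inclusion (H85.Shult.disp_le M.inv))
  have hker : δ.ker = fixedOf (MonoidHom.id (MulAut (↥T₀ ⧸ Tc))) (zpowers τ) := by
    ext w
    rw [MonoidHom.mem_ker]
    refine ⟨fun h s hs => H85.Shult.fixed_of_mem_zpowers (mul_inv_eq_one.mp h) hs, fun h => ?_⟩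
    exact mul_inv_eq_one.mpr (h τ (mem_zpowers τ))
  have hrange : δ.range = ψ.range := by
    apply le_antisymm
    · rintro _ ⟨w, rfl⟩
      induction w using QuotientGroup.induction_on with
      | H a =>
        refine ⟨⟨σ a * (a : G)⁻¹, H85.Shult.subset_disp a.2⟩, ?_⟩
        show _ = τ (a : ↥T₀ ⧸ Tc) * (a : ↥T₀ ⧸ Tc)⁻¹
        rw [hτ, ← QuotientGroup.mk_inv, ← QuotientGroup.mk_mul]
        rfl
    · rintro _ ⟨q, rfl⟩
      have hle : disp σ T₀ ≤ ((δ.range.comap (QuotientGroup.mk' Tc)).map T₀.subtype) := by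
        rw [disp, closure_le]
        rintro _ ⟨t, ht, rfl⟩
        exact ⟨⟨σ t * t⁻¹, mul_mem (M.inv t ht) (inv_mem ht)⟩,
          ⟨((⟨t, ht⟩ : T₀) : ↥T₀ ⧸ Tc), rfl⟩, rfl⟩
      obtain ⟨a, ha, haq⟩ := hle q.2
      rwa [show ψ q = QuotientGroup.mk' Tc a from
        congrArg (QuotientGroup.mk' Tc) (Subtype.ext haq.symm : Subgroup.inclusion _ q = a)]
  have hψ : ψ.ker.index = (2 ^ m) ^ 2 := by
    rw [← d.block.idx]
    refine congrArg Subgroup.index ?_
    ext q
    rw [MonoidHom.mem_ker, mem_subgroupOf]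
    show ((Subgroup.inclusion _ q : T₀) : ↥T₀ ⧸ Tc) = 1 ↔ _
    rw [QuotientGroup.eq_one_iff, mem_subgroupOf]
    refine ⟨fun h => ⟨q.2, center_two_fixed R hp2 M.two M.inv (H85.Shult.disp_le M.inv q.2) h⟩,
      fun h => ?_⟩
    rcases d.fix_cases q q.2 h.2 with h1 | h1
    · exact h1.symm ▸ one_mem _
    · exact h1.symm ▸ d.z_center
  set c := Nat.card (fixedOf (MonoidHom.id (MulAut (↥T₀ ⧸ Tc))) (zpowers τ)) with hc
  have hmul : Nat.card (↥T₀ ⧸ Tc) = c * (2 ^ m) ^ 2 := by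
    rw [← card_mul_index δ.ker, index_ker, hrange, ← index_ker, hψ, hker]
  have hc2 : c = 2 := by
    refine eq_two_of_pow d.form.m_pos (Nat.eq_of_mul_eq_mul_left (n := c) Nat.card_pos ?_)
    rw [← hmul, hcard, d.hr, pow_succ']
  obtain ⟨w₀, -, huniq⟩ := (Nat.card_eq_two_iff'
    (1 : fixedOf (MonoidHom.id (MulAut (↥T₀ ⧸ Tc))) (zpowers τ))).mp hc2
  -- fixed elements of `T₀` commute, so they are central
  have hfcomm : ∀ f ∈ T₀, σ f = f → ∀ f' ∈ T₀, σ f' = f' → f * f' = f' * f := by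
    intro f hf hff f' hf' hff'
    by_cases h1 : f ∈ center G
    · exact (mem_center_iff.mp h1 f').symm
    by_cases h2 : f' ∈ center G
    · exact mem_center_iff.mp h2 f
    have hmem : ∀ (t : G) (ht : t ∈ T₀), σ t = t → ((⟨t, ht⟩ : T₀) : ↥T₀ ⧸ Tc) ∈
        fixedOf (MonoidHom.id (MulAut (↥T₀ ⧸ Tc))) (zpowers τ) := fun t ht htf =>
      hker ▸ (MonoidHom.mem_ker.mpr (mul_inv_eq_one.mpr (by
        rw [hτ]; exact congrArg _ (Subtype.ext htf))) : _ ∈ δ.ker)
    have hne : ∀ (t : G) (ht : t ∈ T₀) (htf : σ t = t), t ∉ center G →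
        (⟨_, hmem t ht htf⟩ : fixedOf (MonoidHom.id (MulAut (↥T₀ ⧸ Tc))) (zpowers τ)) ≠ 1 := by
      intro t ht htf htc h
      exact htc (mem_subgroupOf.mp ((QuotientGroup.eq_one_iff _).mp (congrArg Subtype.val h)))
    have he := (hmk _ _).mp (congrArg Subtype.val
      ((huniq _ (hne f hf hff h1)).trans (huniq _ (hne f' hf' hff' h2)).symm))
    rw [show f = f * f'⁻¹ * f' by group]
    calc f * f'⁻¹ * f' * f' = (f * f'⁻¹) * f' * f' := rfl
      _ = f' * (f * f'⁻¹) * f' := by rw [mem_center_iff.mp he f']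
      _ = f' * (f * f'⁻¹ * f') := by group
  have hfc : ∀ f ∈ T₀, σ f = f → f ∈ center G := by
    intro f hf hff
    have hF : T₀ ⊓ centralizer (T₀ : Set G) ≤ center G := by
      have hN₀ : (centralizer (T₀ : Set G)).Normal := Subgroup.normal_centralizer
      refine le_center_of_lt hD M (Subgroup.normal_inf_normal _ _)
        (H12.RComp.Inv.inf M.inv (H12.RComp.Inv.centralizer M.inv)) inf_le_left fun he => ?_
      obtain ⟨a, ha, b, hb, hab⟩ := d.nonab
      exact hab (mem_centralizer_iff.mp (he.ge (H85.Shult.disp_le M.inv hb)).2 a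
        (H85.Shult.disp_le M.inv ha))
    refine hF ⟨hf, mem_centralizer_iff.mpr fun t ht => ?_⟩
    obtain ⟨e, he, hef, q, hq, rfl⟩ := H85.Shult.exists_fixed_mul R.hr R.hσ R.hcop M.inv ht
    calc e * q * f = e * (q * f) := mul_assoc _ _ _
      _ = e * (f * q) := by rw [d.cent f hff q hq]
      _ = (e * f) * q := (mul_assoc _ _ _).symm
      _ = (f * e) * q := by rw [hfcomm e he hef f hf hff]
      _ = f * (e * q) := mul_assoc _ _ _
  have hc1 : fixedOf (MonoidHom.id (MulAut (↥T₀ ⧸ Tc))) (zpowers τ) = ⊥ := by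
    rw [eq_bot_iff]
    intro w hw
    induction w using QuotientGroup.induction_on with
    | H a =>
      have h1 : (σ a : G) * (a : G)⁻¹ ∈ center G :=
        (hmk ⟨σ a, M.inv a a.2⟩ a).mp ((hτ a).symm.trans (hw τ (mem_zpowers τ)))
      rw [mem_bot, QuotientGroup.eq_one_iff, mem_subgroupOf]
      exact hfc a a.2 (fixed_of_central_disp R hp2 M a.2 h1)
  rw [hc, hc1, Subgroup.card_bot] at hc2
  exact absurd hc2 (by norm_num)

end H83.Shult.TCase

namespace H83.Shult

open H85.Shult (Inv disp Rep Irred)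

universe u v w

/-- **The T-case.** No invariant normal 2-subgroup is moved. -/
theorem no_moved_normal_two {G : Type u} [Group G] [Finite G] {k : Type v} [Field k]
    [IsAlgClosed k] {V : Type w} [AddCommGroup V] [Module k V] [FiniteDimensional k V]
    [Nontrivial V] {σ : MulAut G} {r p : ℕ} [Fact p.Prime] [CharP k p]
    {ρ : G →* Module.End k V} {T : Module.End k V} (R : Rep σ r ρ T) (hp2 : p ≠ 2)
    (hI : Irred ρ T) (hD : disp σ ⊤ = ⊤) (hnot : ¬ IsPGroup 2 G)
    (hsmall : ∀ H : Subgroup G, Inv σ H → H ≠ ⊤ →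
      ∃ K : Subgroup G, K ≤ H ∧ IsPGroup p K ∧ Inv σ K ∧ H ≤ normalizer (K : Set G) ∧
        ∀ x ∈ disp σ H, ∃ n : ℕ, x ^ 2 ^ n ∈ K)
    (T0 : Subgroup G) [T0.Normal] (h2 : IsPGroup 2 T0) (hinv : Inv σ T0)
    (hmov : ∃ x ∈ T0, σ x ≠ x) : False := by
  haveI : Fact r.Prime := ⟨R.hr⟩
  obtain ⟨T₁, -, M⟩ := TCase.exists_minT inferInstance h2 hinv hmov
  obtain ⟨m, z, d⟩ := TCase.exists_qdata R hp2 hI hD M
  obtain ⟨P, hP⟩ := H12.RComp.exists_inv_sylow (H85.Shult.op_iff R.hσ R.hcop) p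
  by_cases hPd : disp σ (P : Subgroup G) ≤ TCase.cker (T₁ : Set G)
  · exact TCase.false_of_disp_le R hp2 hI hD hnot hsmall M d P hP hPd
  · exact TCase.false_of_not_disp_le R hp2 hD hsmall M d P hP hPd

end H83.Shult
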