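import Cfsg.Agent.H83.Shult.TCaseKer
import Mathlib.GroupTheory.Nilpotent

/-!
The case of the moved normal 2-subgroup in which an invariant Sylow `p`-subgroup is displaced into
the kernel `N`: then `C(σ) N` has 2-power index, and `N` would be everything.
-/

set_option autoImplicit false
set_option linter.unusedSectionVars false
set_option linter.style.haveILetI false

open Subgroup
open scoped commutatorElement

namespace H83.Shult.TCase

open H85.Shult (Inv disp fixed Rep Irred)
open H3.Shult (cm)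

universe u v w

variable {G : Type u} [Group G] [Finite G] {σ : MulAut G} {r p m : ℕ} {T₀ : Subgroup G} {z : G}
  {k : Type v} [Field k] [IsAlgClosed k] {V : Type w} [AddCommGroup V] [Module k V]
  [FiniteDimensional k V] [Nontrivial V] [Fact p.Prime] [CharP k p]
  {ρ : G →* Module.End k V} {T : Module.End k V}

/-- An element of `T₀` moved by a central factor is fixed. -/
theorem fixed_of_central_disp (R : Rep σ r ρ T) (hp2 : p ≠ 2) (M : MinT σ T₀) {t : G}
    (ht : t ∈ T₀) (hc : σ t * t⁻¹ ∈ center G) : σ t = t := by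
  have : Fact r.Prime := ⟨R.hr⟩
  set y := σ t * t⁻¹ with hy
  have hyT : y ∈ T₀ := mul_mem (M.inv t ht) (inv_mem ht)
  have hyf : σ y = y := center_two_fixed R hp2 M.two M.inv hyT hc
  have hit : ∀ j : ℕ, (σ ^ j) t = y ^ j * t := by
    intro j
    induction j with
    | zero => simp
    | succ j ih =>
      rw [pow_succ', MulAut.mul_apply, ih, map_mul, map_pow, hyf, pow_succ, mul_assoc, hy,
        inv_mul_cancel_right]
  have hyr : y ^ r = 1 := by
    have := hit r
    rwa [R.hσ, MulAut.one_apply, eq_comm, mul_eq_right] at this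
  have : y = 1 := by
    by_contra hne
    exact R.hcop ((orderOf_eq_prime hyr hne) ▸ orderOf_dvd_natCard y)
  exact mul_inv_eq_one.mp this

/-- `C(σ) N` has index a power of two. -/
theorem index_fixed_sup (R : Rep σ r ρ T) (P : Sylow p G)
    (hPi : Inv σ (P : Subgroup G)) (hPd : disp σ (P : Subgroup G) ≤ cker (T₀ : Set G)) :
    ∃ a, (fixed σ ⊔ cker (T₀ : Set G)).index = 2 ^ a := by
  set H := fixed σ ⊔ cker (T₀ : Set G) with hH
  refine ⟨_, Nat.eq_prime_pow_of_unique_prime_dvd index_ne_zero_of_finite fun {q} hq hdvd => ?_⟩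
  by_contra hq2
  haveI : Fact q.Prime := ⟨hq⟩
  obtain ⟨Q, hQle⟩ : ∃ Q : Sylow q G, (Q : Subgroup G) ≤ H := by
    by_cases hqp : q = p
    · subst hqp
      refine ⟨P, fun x hx => ?_⟩
      obtain ⟨c, -, hc, d, hd, rfl⟩ := H85.Shult.exists_fixed_mul R.hr R.hσ R.hcop hPi hx
      exact mul_mem (mem_sup_left hc) (mem_sup_right (hPd hd))
    · have : Fact r.Prime := ⟨R.hr⟩
      obtain ⟨Q, hQ⟩ := H12.RComp.exists_inv_sylow (H85.Shult.op_iff R.hσ R.hcop) q
      refine ⟨Q, fun x hx => mem_sup_left (show σ x = x from ?_)⟩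
      by_contra hne
      exact hq2 (R.fermat hq (Ne.symm hqp) Q.2 hQ ⟨x, hx, hne⟩).1
  exact Q.not_dvd_index (hdvd.trans (index_dvd_of_le hQle))

/-- The first case is impossible. -/
theorem false_of_disp_le (R : Rep σ r ρ T) (hp2 : p ≠ 2) (hI : Irred ρ T) (hD : disp σ ⊤ = ⊤)
    (hnot : ¬ IsPGroup 2 G) (hsmall : ∀ H : Subgroup G, Inv σ H → H ≠ ⊤ →
      ∃ K : Subgroup G, K ≤ H ∧ IsPGroup p K ∧ Inv σ K ∧ H ≤ normalizer (K : Set G) ∧
        ∀ x ∈ disp σ H, ∃ n : ℕ, x ^ 2 ^ n ∈ K)
    (M : MinT σ T₀) (d : QData σ r m T₀ z) (P : Sylow p G) (hPi : Inv σ (P : Subgroup G))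
    (hPd : disp σ (P : Subgroup G) ≤ cker (T₀ : Set G)) : False := by
  classical
  haveI : Fact (Nat.Prime 2) := ⟨Nat.prime_two⟩
  haveI : Fact r.Prime := ⟨R.hr⟩
  have hn := M.normal
  have hNn : (cker (T₀ : Set G)).Normal := cker_normal
  obtain ⟨a, ha⟩ := index_fixed_sup R P hPi hPd
  obtain ⟨S, hSi⟩ := H12.RComp.exists_inv_sylow (H85.Shult.op_iff R.hσ R.hcop) 2
  have hTS : T₀ ≤ (S : Subgroup G) := M.two.le_sylow_of_normal S
  have hprod : ∀ g : G, ∃ c : G, σ c = c ∧ ∃ n ∈ cker (T₀ : Set G), ∃ s ∈ (S : Subgroup G),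
      g = c * n * s := by
    intro g
    obtain ⟨x, hx, hgx⟩ := exists_mul_of_index_pow S _ ha g
    obtain ⟨c, hc, n, hn', hcn⟩ := mem_sup_of_normal_right.mp hgx
    exact ⟨c, hc, n, hn', x⁻¹, inv_mem hx, by rw [hcn, mul_inv_cancel_right]⟩
  -- an element of `T₀` central in `S` modulo the centre
  obtain ⟨t, ht, htc⟩ : ∃ t ∈ rker T₀ ((S : Subgroup G) : Set G), t ∉ center G := by
    have hnil : Group.IsNilpotent (S : Subgroup G) := S.2.isNilpotent
    obtain ⟨n₀, hn₀⟩ := Group.IsNilpotent.nilpotent (S : Subgroup G)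
    have hex : ∃ i, ∃ t : (S : Subgroup G), (t : G) ∈ T₀ ∧ (t : G) ∉ center G ∧
        t ∈ Subgroup.upperCentralSeries (S : Subgroup G) i := by
      obtain ⟨q, hq, hqc⟩ := d.exists_noncentral
      have hqT := H85.Shult.disp_le M.inv hq
      exact ⟨n₀, ⟨q, hTS hqT⟩, hqT, hqc, hn₀ ▸ mem_top _⟩
    obtain ⟨t, htT, htc, hti⟩ := Nat.find_spec hex
    refine ⟨t, ⟨htT, fun s hs => ?_⟩, htc⟩
    rcases hi : Nat.find hex with _ | j
    · rw [hi, Subgroup.upperCentralSeries_zero, mem_bot] at hti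
      exact absurd (by rw [hti]; exact one_mem _) htc
    · rw [hi, Subgroup.mem_upperCentralSeries_succ_iff] at hti
      have h1 := hti ⟨s, hs⟩
      have h2 : ((⁅t, (⟨s, hs⟩ : (S : Subgroup G))⁆ : (S : Subgroup G)) : G) = (cm s t)⁻¹ := by
        simp only [commutatorElement_def, cm, Subgroup.coe_mul, Subgroup.coe_inv]; group
      by_contra hne
      refine Nat.find_min hex (hi ▸ Nat.lt_succ_self j) ⟨_, ?_, ?_, h1⟩
      · rw [h2]
        exact inv_mem (mul_mem (hn.conj_mem _ htT s) (inv_mem htT))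
      · rw [h2]
        exact fun h => hne (by simpa using inv_mem h)
  set Y := rker T₀ ((S : Subgroup G) : Set G) with hY
  have hYi : Inv σ Y := inv_rker M.inv hSi
  set y := σ t * t⁻¹ with hy
  by_cases hyc : y ∈ center G
  · -- then all conjugates of `t` are fixed
    have htf : σ t = t := fixed_of_central_disp R hp2 M ht.1 hyc
    have hconj : ∀ g : G, σ (g * t * g⁻¹) = g * t * g⁻¹ := by
      intro g
      obtain ⟨c, hc, n, hn', s, hs, rfl⟩ := hprod g
      have hk1 : cm s t ∈ T₀ := mul_mem (hn.conj_mem t ht.1 s) (inv_mem ht.1)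
      have hk2 : cm n t ∈ T₀ := mul_mem (hn.conj_mem t ht.1 n) (inv_mem ht.1)
      have hf1 := center_two_fixed R hp2 M.two M.inv hk1 (ht.2 s hs)
      have hf2 := center_two_fixed R hp2 M.two M.inv hk2 (hn' t ht.1)
      have e : c * n * s * t * (c * n * s)⁻¹ = cm s t * (cm n t * (c * t * c⁻¹)) := by
        calc c * n * s * t * (c * n * s)⁻¹ = (c * n) * (s * t * s⁻¹) * (c * n)⁻¹ := by group
          _ = (c * n) * (cm s t * t) * (c * n)⁻¹ := by rw [cm_eq_conj s t]
          _ = ((c * n) * cm s t * (c * n)⁻¹) * (c * (n * t * n⁻¹) * c⁻¹) := by group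
          _ = cm s t * (c * (cm n t * t) * c⁻¹) := by
              rw [conj_self (ht.2 s hs), cm_eq_conj n t]
          _ = cm s t * ((c * cm n t * c⁻¹) * (c * t * c⁻¹)) := by group
          _ = _ := by rw [conj_self (hn' t ht.1)]
      rw [e]
      simp only [map_mul, map_inv, hf1, hf2, hc, htf]
    have hcl : normalClosure ({t} : Set G) ≤ fixed σ := by
      rw [normalClosure, closure_le]
      intro x hx
      obtain ⟨_, rfl, hx'⟩ := Group.mem_conjugatesOfSet_iff.mp hx
      obtain ⟨g, rfl⟩ := isConj_iff.mp hx'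
      exact hconj g
    exact htc (fixed_normal_central hD normalClosure_normal (fun x hx => hcl hx)
      (subset_normalClosure rfl))
  · -- then `Q` is central in `S` modulo the centre
    have hyQ : y ∈ disp σ T₀ := H85.Shult.subset_disp ht.1
    have hQY : disp σ T₀ ≤ Y := by
      refine d.block.le_of_moved d.form hYi (fun w hw => ⟨H85.Shult.disp_le M.inv hw.1,
        fun g _ => ?_⟩) hyQ (mul_mem (hYi t ht) (inv_mem ht)) fun h => ?_
      · rcases d.fix_cases w hw.1 hw.2 with rfl | rfl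
        · simp [cm]
        · rw [cm_center d.z_center]; exact one_mem _
      · rcases d.fix_cases y hyQ h.2 with h1 | h1
        · exact hyc (h1 ▸ one_mem _)
        · exact hyc (h1 ▸ d.z_center)
    refine cker_ne_top R hp2 hI hD hnot hsmall M d (cker_top_of_disp hD M d ?_)
    rw [eq_top_iff]
    intro g _
    obtain ⟨c, hc, n, hn', s, hs, rfl⟩ := hprod g
    refine mul_mem (mul_mem ?_ ?_) fun q hq => (hQY hq).2 s hs
    · exact fun q hq => by
        rw [H3.Shult.cm_eq_one_iff.mpr (d.cent c hc q hq)]; exact one_mem _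
    · exact fun q hq => hn' q (H85.Shult.disp_le M.inv hq)

end H83.Shult.TCase
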