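import Cfsg.Agent.H85.Shult.RepBlocks
import Cfsg.Agent.H85.Shult.Irred
import Cfsg.Agent.H3.Shult.Blocks
import Cfsg.Agent.H83.Shult.FixedTools
import Cfsg.Agent.H1.Cores

/-!
A minimal moved invariant normal 2-subgroup `T₀` in the faithful fixed-point-free irreducible
setting: `Q = [T₀, σ]` has centre `{1, z}` with `z = -1`, index `2 ^ (2m)` over it, and is
centralised by every fixed element.
-/

set_option autoImplicit false
set_option linter.unusedSectionVars false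
set_option linter.style.haveILetI false

open Subgroup

namespace H83.Shult.TCase

open H85.Shult (Inv disp fixed Rep Irred)
open H3.Shult (cm)

universe u v w

variable {G : Type u} [Group G] [Finite G] {k : Type v} [Field k]
  {V : Type w} [AddCommGroup V] [Module k V]

theorem cm_left (a b c : G) : cm (a * b) c = a * cm b c * a⁻¹ * cm a c := by
  simp only [cm]; group

theorem cm_right (a b c : G) : cm a (b * c) = cm a b * (b * cm a c * b⁻¹) := by
  simp only [cm]; group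

theorem cm_eq_conj (a b : G) : a * b * a⁻¹ = cm a b * b := by
  simp only [cm]; group

theorem conj_self {z : G} (hz : z ∈ center G) (g : G) : g * z * g⁻¹ = z := by
  rw [mem_center_iff.mp hz g, mul_inv_cancel_right]

theorem cm_center {a z : G} (hz : z ∈ center G) : cm a z = 1 :=
  H3.Shult.cm_eq_one_iff.mpr (mem_center_iff.mp hz a)

/-- A coset product decomposition against a Sylow subgroup. -/
theorem exists_mul_of_index_pow {q : ℕ} [Fact q.Prime] (P : Sylow q G) (H : Subgroup G) {a : ℕ}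
    (hidx : H.index = q ^ a) (g : G) : ∃ x ∈ (P : Subgroup G), g * x ∈ H := by
  classical
  set b : G ⧸ H := ((1 : G) : G ⧸ H) with hb
  have htrans : MulAction.orbit (P : Subgroup G) b = Set.univ := by
    refine Set.eq_univ_of_univ_subset (Set.eq_of_subset_of_ncard_le (Set.subset_univ _) ?_).ge
    rw [Set.ncard_univ, ← MulAction.index_stabilizer, ← Subgroup.index_eq_card]
    set St := MulAction.stabilizer (P : Subgroup G) b with hSt
    obtain ⟨j, hj⟩ := IsPGroup.iff_card.mp (P.2.to_subgroup St)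
    have hdvd : Nat.card St ∣ Nat.card H := by
      have hmem : ∀ x : St, ((x : (P : Subgroup G)) : G) ∈ H := by
        intro x
        have hx : ((x : (P : Subgroup G)) : G) • ((1 : G) : G ⧸ H) = ((1 : G) : G ⧸ H) := x.2
        rw [MulAction.Quotient.smul_coe, smul_eq_mul, mul_one, eq_comm, QuotientGroup.eq, inv_one,
          one_mul] at hx
        exact hx
      let f : St →* H :=
        { toFun := fun x => ⟨_, hmem x⟩
          map_one' := rfl
          map_mul' := fun _ _ => rfl }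
      exact Subgroup.card_dvd_of_injective f fun x y h =>
        Subtype.ext (Subtype.ext (congrArg (fun z : H => (z : G)) h))
    have h1 : q ^ (j + a) ∣ Nat.card G := by
      rw [pow_add, ← hj, ← hidx, ← Subgroup.card_mul_index H]
      exact Nat.mul_dvd_mul_right hdvd _
    have h2 := P.pow_dvd_card_of_pow_dvd_card h1
    rw [← Subgroup.card_mul_index St, pow_add, ← hj] at h2
    have h3 := Nat.le_of_dvd (Nat.pos_of_ne_zero index_ne_zero_of_finite)
      ((Nat.mul_dvd_mul_iff_left Nat.card_pos).mp h2)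
    rwa [← hidx] at h3
  obtain ⟨x, hx⟩ : (((g⁻¹ : G)) : G ⧸ H) ∈ MulAction.orbit (P : Subgroup G) b := by rw [htrans]; trivial
  change (x : G) • ((1 : G) : G ⧸ H) = ((g⁻¹ : G) : G ⧸ H) at hx
  rw [MulAction.Quotient.smul_coe, smul_eq_mul, mul_one, QuotientGroup.eq] at hx
  refine ⟨x, x.2, ?_⟩
  have := inv_mem hx
  rwa [mul_inv_rev, inv_inv, inv_inv] at this

/-- A minimal moved invariant normal 2-subgroup. -/
structure MinT (σ : MulAut G) (T₀ : Subgroup G) : Prop where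
  normal : T₀.Normal
  two : IsPGroup 2 T₀
  inv : Inv σ T₀
  moved : ∃ x ∈ T₀, σ x ≠ x
  min : ∀ Y : Subgroup G, Y.Normal → Inv σ Y → Y ≤ T₀ → Y ≠ T₀ → ∀ y ∈ Y, σ y = y

theorem exists_minT {σ : MulAut G} {T₀ : Subgroup G} (hn : T₀.Normal) (h2 : IsPGroup 2 T₀)
    (hinv : Inv σ T₀) (hmov : ∃ x ∈ T₀, σ x ≠ x) : ∃ T₁, T₁ ≤ T₀ ∧ MinT σ T₁ := by
  obtain ⟨S, ⟨hSn, hS2, hSinv, hSmov, hST⟩, hmin⟩ := wellFounded_lt.has_min
    {S : Subgroup G | S.Normal ∧ IsPGroup 2 S ∧ Inv σ S ∧ (∃ x ∈ S, σ x ≠ x) ∧ S ≤ T₀}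
    ⟨T₀, hn, h2, hinv, hmov, le_rfl⟩
  refine ⟨S, hST, hSn, hS2, hSinv, hSmov, fun Y hY hYinv hle hne y hy => ?_⟩
  by_contra h
  exact hmin Y ⟨hY, hS2.to_le hle, hYinv, ⟨y, hy, h⟩, hle.trans hST⟩ (lt_of_le_of_ne hle hne)

variable {σ : MulAut G} {r p : ℕ} [Fact p.Prime] [CharP k p]
  {ρ : G →* Module.End k V} {T : Module.End k V}

theorem fixed_normal_central (hD : disp σ ⊤ = ⊤) {N : Subgroup G} (hN : N.Normal)
    (hf : ∀ n ∈ N, σ n = n) : N ≤ center G := by
  intro n hn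
  have h : disp σ ⊤ ≤ centralizer (N : Set G) := by
    rw [disp, closure_le]
    rintro _ ⟨g, -, rfl⟩
    rw [SetLike.mem_coe, mem_centralizer_iff]
    intro k hk
    have hk' : g⁻¹ * k * g ∈ N := by simpa using hN.conj_mem k hk g⁻¹
    have h1 : σ g * (g⁻¹ * k * g) * (σ g)⁻¹ = k := by
      rw [← hf _ hk', ← map_inv, ← map_mul, ← map_mul,
        show g * (g⁻¹ * k * g) * g⁻¹ = k by group, hf k hk]
    calc k * (σ g * g⁻¹) = σ g * (g⁻¹ * k * g) * (σ g)⁻¹ * (σ g * g⁻¹) := by rw [h1]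
      _ = σ g * g⁻¹ * k := by group
  rw [hD] at h
  exact mem_center_iff.mpr fun g => (mem_centralizer_iff.mp (h (mem_top g)) n hn).symm

variable [IsAlgClosed k] [FiniteDimensional k V] [Nontrivial V]

theorem center_two_fixed (R : Rep σ r ρ T) (hp2 : p ≠ 2) {A : Subgroup G} (hA : IsPGroup 2 A)
    (hinv : Inv σ A) {a : G} (ha : a ∈ A) (hac : a ∈ center G) : σ a = a := by
  refine R.abelian_fixed (p := p) Nat.prime_two hp2 (Q := A ⊓ center G) (hA.to_le inf_le_left)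
    (fun x hx => ⟨hinv x hx.1, ?_⟩) (fun x hx y _ => (mem_center_iff.mp hx.2 y).symm) ⟨ha, hac⟩
  refine mem_center_iff.mpr fun g => ?_
  obtain ⟨g', rfl⟩ := σ.surjective g
  rw [← map_mul, ← map_mul, mem_center_iff.mp hx.2 g']

theorem neg_unique (R : Rep σ r ρ T) (hI : Irred ρ T) {z z' : G} (hz : z ∈ center G)
    (hf : σ z = z) (h2 : z * z = 1) (h1 : z ≠ 1) (hz' : z' ∈ center G) (hf' : σ z' = z')
    (h2' : z' * z' = 1) (h1' : z' ≠ 1) : z = z' :=
  R.inj (LinearMap.ext fun v => by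
    rw [R.neg_of_central hI hz hf h2 h1, R.neg_of_central hI hz' hf' h2' h1'])

variable {T₀ : Subgroup G}

theorem le_center_of_lt (hD : disp σ ⊤ = ⊤) (M : MinT σ T₀) {Y : Subgroup G} (hY : Y.Normal)
    (hinv : Inv σ Y) (hle : Y ≤ T₀) (hne : Y ≠ T₀) : Y ≤ center G :=
  fixed_normal_central hD hY (M.min Y hY hinv hle hne)

/-- `T₀` is abelian of exponent two modulo the centre. -/
theorem sq_center (hD : disp σ ⊤ = ⊤) (M : MinT σ T₀) {a : G} (ha : a ∈ T₀) :
    a * a ∈ center G := by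
  have := M.normal
  set Φ := closure {x : G | ∃ t ∈ T₀, x = t * t} with hΦ
  have hn : Φ.Normal := by
    refine ⟨fun x hx g => ?_⟩
    have h : Φ.map (MulAut.conj g).toMonoidHom ≤ Φ := by
      rw [hΦ, MonoidHom.map_closure, closure_le]
      rintro _ ⟨_, ⟨t, ht, rfl⟩, rfl⟩
      exact subset_closure ⟨g * t * g⁻¹, M.normal.conj_mem t ht g, by simp⟩
    exact h ⟨x, hx, rfl⟩
  have hinv : Inv σ Φ := by
    intro x hx
    have h : Φ.map σ.toMonoidHom ≤ Φ := by
      rw [hΦ, MonoidHom.map_closure, closure_le]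
      rintro _ ⟨_, ⟨t, ht, rfl⟩, rfl⟩
      exact subset_closure ⟨σ t, M.inv t ht, by simp⟩
    exact h ⟨x, hx, rfl⟩
  have hle : Φ ≤ T₀ := by
    rw [hΦ, closure_le]; rintro _ ⟨t, ht, rfl⟩; exact mul_mem ht ht
  refine le_center_of_lt hD M hn hinv hle (fun he => ?_) (subset_closure ⟨a, ha, rfl⟩)
  obtain ⟨x, hx, hmov⟩ := M.moved
  have : Nontrivial T₀ := ⟨⟨x, hx⟩, 1, fun h => hmov (by
    have h' : x = 1 := congrArg Subtype.val h
    rw [h', map_one])⟩
  have h2 : Φ ≤ (frattini T₀).map T₀.subtype := by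
    rw [hΦ, closure_le]
    rintro _ ⟨t, ht, rfl⟩
    haveI : Fact (Nat.Prime 2) := ⟨Nat.prime_two⟩
    exact ⟨⟨t, ht⟩ ^ 2, H76.pow_mem_frattini M.two _, by simp [pow_two]⟩
  have h3 : frattini T₀ = ⊤ := by
    refine eq_top_iff.mpr fun y _ => ?_
    obtain ⟨y', hy', e⟩ := h2 (he.ge y.2)
    rwa [Subtype.ext e] at hy'
  obtain ⟨C, hC⟩ := IsCoatomic.exists_coatom (α := Subgroup T₀)
  exact hC.1 (top_le_iff.mp (h3 ▸ frattini_le_coatom hC))

theorem cm_mem_center (hD : disp σ ⊤ = ⊤) (M : MinT σ T₀) {a b : G} (ha : a ∈ T₀) (hb : b ∈ T₀) :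
    cm a b ∈ center G := by
  have h1 := sq_center hD M (mul_mem ha hb)
  have h2 := sq_center hD M ha
  have h3 := sq_center hD M hb
  have e : cm a b = a * b * (a * b) * ((b⁻¹ * (a * a)⁻¹ * b) * (b * b)⁻¹) := by
    simp only [cm]; group
  rw [e]
  refine mul_mem h1 (mul_mem ?_ (inv_mem h3))
  have h4 := conj_self (inv_mem h2) b⁻¹
  rw [inv_inv] at h4
  rw [h4]
  exact inv_mem h2

/-- The data carried by `Q = [T₀, σ]`. -/
structure QData (σ : MulAut G) (r m : ℕ) (T₀ : Subgroup G) (z : G) : Prop where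
  hr : r = 2 ^ m + 1
  z_mem : z ∈ disp σ T₀ ⊓ fixed σ
  z_center : z ∈ center G
  z_sq : z * z = 1
  z_ne : z ≠ 1
  fix_cases : ∀ q ∈ disp σ T₀, σ q = q → q = 1 ∨ q = z
  form : H3.Shult.Form σ r m (disp σ T₀) (disp σ T₀ ⊓ fixed σ)
  block : H3.Shult.Block m (disp σ T₀) (disp σ T₀ ⊓ fixed σ) ⊥ (disp σ T₀ ⊓ fixed σ)
  cent : ∀ c : G, σ c = c → ∀ q ∈ disp σ T₀, c * q = q * c
  nonab : ∃ a ∈ disp σ T₀, ∃ b ∈ disp σ T₀, a * b ≠ b * a

theorem exists_qdata (R : Rep σ r ρ T) (hp2 : p ≠ 2) (hI : Irred ρ T) (hD : disp σ ⊤ = ⊤)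
    (M : MinT σ T₀) : ∃ m z, QData σ r m T₀ z := by
  classical
  haveI : Fact (Nat.Prime 2) := ⟨Nat.prime_two⟩
  set Q := disp σ T₀ with hQdef
  set Zq := Q ⊓ fixed σ with hZq
  have hQT : Q ≤ T₀ := H85.Shult.disp_le M.inv
  have hQ2 : IsPGroup 2 Q := M.two.to_le hQT
  have hQinv : Inv σ Q := H85.Shult.inv_disp M.inv
  have hgen : disp σ Q = Q := H85.Shult.disp_disp R.hr R.hσ R.hcop M.inv
  obtain ⟨hsp, hcen, hsq, hcom, hcomm, hsqZ⟩ := R.special (p := p) hp2 hQ2 hQinv hgen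
  have hQmov : ∃ x ∈ Q, σ x ≠ x := by
    by_contra h
    push Not at h
    have hbot : Q = ⊥ := by
      rw [← hgen, disp, eq_bot_iff, closure_le]
      rintro _ ⟨x, hx, rfl⟩
      simp [h x hx]
    obtain ⟨x, hx, hne⟩ := M.moved
    have := H85.Shult.subset_disp (σ := σ) hx
    rw [← hQdef, hbot, mem_bot, mul_inv_eq_one] at this
    exact hne this
  obtain ⟨-, ⟨m, hm⟩, a, ha, b, hb, hab⟩ :=
    R.fermat (p := p) Nat.prime_two hp2 hQ2 hQinv hQmov
  have hm0 : 0 < m := by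
    rcases Nat.eq_zero_or_pos m with rfl | h
    · exfalso
      obtain ⟨j, hj⟩ := IsPGroup.iff_card.mp hQ2
      obtain ⟨x, hx, hne⟩ := hQmov
      rcases j with _ | j
      · rw [pow_zero, Subgroup.card_eq_one] at hj
        rw [hj, mem_bot] at hx
        exact hne (by rw [hx, map_one])
      · refine R.hcop (Dvd.dvd.trans ?_ Q.card_subgroup_dvd_card)
        rw [hj, hm]; exact ⟨2 ^ j, by rw [pow_succ]; ring⟩
    · exact h
  -- fixed elements of `Q` are central in `G`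
  have hfixc : ∀ q ∈ Q, σ q = q → q ∈ center G := by
    intro q hq hf
    have h1 : commutator Q ≤ (center G).subgroupOf Q := by
      rw [_root_.commutator_def, commutator_le]
      intro x _ y _
      rw [mem_subgroupOf, commutatorElement_def]
      exact cm_mem_center hD M (hQT x.2) (hQT y.2)
    exact h1 (hsp.2.2.symm ▸ (hcen ⟨q, hq⟩).mpr hf : (⟨q, hq⟩ : Q) ∈ commutator Q)
  set z := cm a b with hzd
  have hzQ : z ∈ Q := mul_mem (mul_mem (mul_mem ha hb) (inv_mem ha)) (inv_mem hb)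
  have hzf : σ z = z := hcom a ha b hb
  have hzc : z ∈ center G := hfixc z hzQ hzf
  have hz2 : z * z = 1 := hsqZ z hzQ hzf
  have hz1 : z ≠ 1 := fun h => hab (H3.Shult.cm_eq_one_iff.mp h)
  have hcases : ∀ q ∈ Q, σ q = q → q = 1 ∨ q = z := by
    intro q hq hf
    by_cases hq1 : q = 1
    · exact Or.inl hq1
    · exact Or.inr (neg_unique R hI (hfixc q hq hf) hf (hsqZ q hq hf) hq1 hzc hzf hz2 hz1)
  have hF : H3.Shult.Form σ r m Q Zq :=
    { hr := R.hr
      hrm := hm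
      m_pos := hm0
      hσ := R.hσ
      hcop := R.hcop
      pU := hQ2
      invU := hQinv
      defZ := fun u => Iff.rfl
      comU := fun u hu v hv =>
        ⟨(mul_mem (mul_mem (mul_mem hu hv) (inv_mem hu)) (inv_mem hv) : _ ∈ Q), hcom u hu v hv⟩
      cenU := fun u hu z hz => hcomm u hu z hz.1 hz.2
      sqU := fun u hu => ⟨mul_mem hu hu, hsq u hu⟩
      sqZ := fun z hz => hsqZ z hz.1 hz.2 }
  obtain ⟨Z₁, R₀, hle, hzn, hrel, -, hR₀, hidx⟩ :=
    R.blocks (p := p) hp2 hQ2 hQinv hgen (Z := Zq) (fun u => Iff.rfl)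
      (z := z) ⟨hzQ, hzf⟩ hz1
  have hZ1 : Z₁ = ⊥ := by
    rw [eq_bot_iff]
    intro w hw
    rcases hcases w (hle hw).1 (hle hw).2 with h | h
    · exact h
    · exact absurd (h ▸ hw) hzn
  have hRZ : R₀ = Zq := by
    ext u
    rw [hR₀, hZ1]
    refine ⟨fun h => ⟨h.1, (hcen ⟨u, h.1⟩).mp ?_⟩, fun h => ⟨h.1, fun v hv => ?_⟩⟩
    · rw [mem_center_iff]
      intro v
      exact Subtype.ext (H3.Shult.cm_eq_one_iff.mp (mem_bot.mp (h.2 v v.2))).symm
    · exact mem_bot.mpr (H3.Shult.cm_eq_one_iff.mpr (hcomm v hv u h.1 h.2).symm)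
  subst hZ1 hRZ
  have hB : H3.Shult.Block m Q Zq ⊥ Zq :=
    { le := bot_le
      avoid := fun w hw _ => mem_bot.mp hw
      rel := hrel
      rad := hR₀
      idx := by rw [hidx, hm, Nat.add_sub_cancel] }
  refine ⟨m, z, hm, ⟨hzQ, hzf⟩, hzc, hz2, hz1, hcases, hF, hB, fun c hc q hq => ?_, a, ha, b, hb, hab⟩
  -- a fixed element centralises `Q`
  have hcQ : ∀ x ∈ Q, c * x * c⁻¹ ∈ Q := by
    intro x hx
    have h : Q.map (MulAut.conj c).toMonoidHom ≤ Q := by
      rw [hQdef, disp, MonoidHom.map_closure, closure_le]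
      rintro _ ⟨_, ⟨t, ht, rfl⟩, rfl⟩
      refine subset_closure ⟨c * t * c⁻¹, M.normal.conj_mem t ht c, ?_⟩
      simp only [MulEquiv.coe_toMonoidHom, MulAut.conj_apply, map_mul, map_inv, hc]
      try group
    exact h ⟨x, hx, rfl⟩
  have hmod := hB.fixed_trivial hF hc hcQ fun w hw =>
    mem_center_iff.mp (hfixc w hw.1 hw.2) c
  let K : Subgroup G := Q ⊓ centralizer ({c} : Set G)
  have hK : ∀ x ∈ K, σ x ∈ K := fun x hx =>
    ⟨hQinv x hx.1, mem_centralizer_singleton_iff.mpr (by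
      have := congrArg σ (mem_centralizer_singleton_iff.mp hx.2)
      simpa [map_mul, hc] using this)⟩
  have hmem : q ∈ K := by
    refine hF.mem_of_moved hK (fun w hw => ⟨hw.1, mem_centralizer_singleton_iff.mpr
      (mem_center_iff.mp (hfixc w hw.1 hw.2) c).symm⟩) inf_le_left hq
      ⟨(mul_mem (inv_mem hq) (hQinv q hq) : _ ∈ Q), mem_centralizer_singleton_iff.mpr ?_⟩
    obtain ⟨hkQ, hkf⟩ := hmod q hq
    change σ (cm c q) = cm c q at hkf
    have hkc := hfixc _ hkQ hkf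
    have e1 : c * q * c⁻¹ = cm c q * q := cm_eq_conj c q
    have e2 : c * σ q * c⁻¹ = cm c q * σ q := by
      have h := congrArg σ e1
      rwa [map_mul, map_mul, map_inv, hc, map_mul σ (cm c q) q, hkf] at h
    calc q⁻¹ * σ q * c = (cm c q * q)⁻¹ * (cm c q * σ q) * c := by group
      _ = (c * q * c⁻¹)⁻¹ * (c * σ q * c⁻¹) * c := by rw [e1, e2]
      _ = c * (q⁻¹ * σ q) := by group
  exact (mem_centralizer_singleton_iff.mp hmem.2).symm

end H83.Shult.TCase
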