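import Cfsg.Agent.H41.Shult.TwoAct

/-!
Shult's fixed point theorem, several radicals: no subgroup of index at most two in `U` has all its
commutators central, so such a subgroup and the complement of one contain elements with noncentral
square.
-/

set_option autoImplicit false
set_option linter.unusedSectionVars false
set_option linter.style.haveILetI false

open Subgroup

namespace H83.Shult.Transfer

open H41.Shult (Two Iso OddCh)

variable {G : Type*} [Group G] [Finite G] {σ : MulAut G} {r m p : ℕ} {S U Z H₀ : Subgroup G}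

theorem not_iso (B : Two σ r m p S U Z H₀) {X : Subgroup G} (hi : X.relIndex U ≤ 2) : ¬ Iso X := by
  classical
  intro hX
  obtain ⟨ε, η, hεo, hεb, hηo, hηb, hne⟩ := B.exists_two
  haveI := B.fd.rad_normal ε
  haveI := B.fd.rad_normal η
  set Xs := X.subgroupOf U with hXs
  set Rε := B.fd.rad ε
  set Rη := B.fd.rad η
  set R' := B.fd.rad (ε * η) with hR'
  -- the join of the radicals is everything
  have htop : Rε ⊔ Rη = ⊤ := by
    refine (hεb.2 _ (fun y hy => ?_) le_sup_left).resolve_left fun he => hne ?_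
    · obtain ⟨a, ha, b, hb, rfl⟩ := mem_sup_of_normal_right.mp hy
      rw [map_mul]
      exact mul_mem (mem_sup_left (B.fd.sigma_rad ha)) (mem_sup_right (B.fd.sigma_rad hb))
    · refine (eq_of_le_of_card_ge (le_sup_right.trans he.le) (le_of_eq ?_)).symm
      have h1 := Rε.card_mul_index
      have h2 := Rη.card_mul_index
      rw [hεb.1] at h1
      rw [hηb.1] at h2
      exact Nat.eq_of_mul_eq_mul_right (by positivity) (h1.trans h2.symm)
  have hle : R' ≤ Rε ⊓ Rη := by
    intro u hu
    have h : ∀ v, ε (B.fd.cm u v) * η (B.fd.cm u v) = 1 := hu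
    refine ⟨fun v => ?_, fun v => ?_⟩
    · obtain ⟨a, ha, b, hb, rfl⟩ := mem_sup_of_normal_right.mp (htop.ge (mem_top v))
      have hb1 : η (B.fd.cm u b) = 1 := by rw [B.fd.cm_comm]; exact hb u
      have h1 : ε (B.fd.cm u b) = 1 := by
        have := h b
        rwa [hb1, mul_one] at this
      rw [B.fd.cm_mul_right, map_mul, h1, mul_one, B.fd.cm_comm]
      exact ha u
    · obtain ⟨a, ha, b, hb, rfl⟩ := mem_sup_of_normal_right.mp (htop.ge (mem_top v))
      have ha1 : ε (B.fd.cm u a) = 1 := by rw [B.fd.cm_comm]; exact ha u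
      have h1 : η (B.fd.cm u a) = 1 := by
        have := h a
        rwa [ha1, one_mul] at this
      rw [B.fd.cm_mul_right, map_mul, h1, one_mul, B.fd.cm_comm]
      exact hb u
  have hbig : 16 ≤ R'.index := by
    refine le_trans ?_ (Nat.le_of_dvd (Nat.pos_of_ne_zero index_ne_zero_of_finite)
      (index_dvd_of_le hle))
    have h1 : (Rε ⊓ Rη).index = Rε.index * Rη.index := by
      rw [← relIndex_mul_index (inf_le_right : Rε ⊓ Rη ≤ Rη), inf_relIndex_right,
        ← relIndex_sup_right Rη Rε, sup_comm, htop, relIndex_top_right]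
    rw [h1, hεb.1, hηb.1]
    have h2 : 2 ^ 2 ≤ 2 ^ (2 * m) := Nat.pow_le_pow_right two_pos (by
      have := B.cfg.m_pos; omega)
    calc 16 = 2 ^ 2 * 2 ^ 2 := by norm_num
      _ ≤ _ := Nat.mul_le_mul h2 h2
  have hXX : ∀ u ∈ Xs, ∀ v ∈ Xs, (ε * η) (B.fd.cm u v) = 1 := by
    intro u hu v hv
    rw [MonoidHom.mul_apply, B.odd_eq hεo hηo (hX _ (mem_subgroupOf.mp hu) _ (mem_subgroupOf.mp hv) :
      ((B.fd.cm u v : U) : G) ∈ center G)]
    exact Int.units_mul_self _
  by_cases hall : Xs = ⊤
  · have : R' = ⊤ := eq_top_iff.mpr fun u _ v => hXX u (hall.ge (mem_top u)) v (hall.ge (mem_top v))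
    rw [this, index_top] at hbig
    omega
  have hidx : Xs.index = 2 := by
    have h1 : Xs.index ≠ 1 := fun h => hall (index_eq_one.mp h)
    have h2 : Xs.index ≤ 2 := hi
    have h3 : Xs.index ≠ 0 := index_ne_zero_of_finite
    omega
  obtain ⟨a, -, ha⟩ := SetLike.exists_of_lt (lt_top_iff_ne_top.mpr hall)
  let ψ : Xs →* ℤˣ :=
    { toFun := fun u => (ε * η) (B.fd.cm u a)
      map_one' := by rw [OneMemClass.coe_one, B.fd.cm_of_mem (one_mem _), map_one]
      map_mul' := fun u v => by rw [Subgroup.coe_mul, B.fd.cm_mul_left, map_mul] }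
  have hker : ψ.ker.map Xs.subtype ≤ R' := by
    rintro _ ⟨u, hu, rfl⟩ v
    have hu' : (ε * η) (B.fd.cm (u : U) a) = 1 := hu
    by_cases hv : v ∈ Xs
    · exact hXX u u.2 v hv
    · have hav : a⁻¹ * v ∈ Xs := (mul_mem_iff_of_index_two hidx).mpr
        ⟨fun h => absurd (inv_mem_iff.mp h) ha, fun h => absurd h hv⟩
      show (ε * η) (B.fd.cm (u : U) v) = 1
      rw [show v = a * (a⁻¹ * v) by group, B.fd.cm_mul_right, map_mul, hu', one_mul]
      exact hXX u u.2 _ hav
  have h4 : R'.index ∣ Xs.index * ψ.ker.index := by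
    refine (index_dvd_of_le hker).trans (dvd_of_eq ?_)
    rw [index_map_subtype, mul_comm]
  have h5 : ψ.ker.index ≤ 2 := by
    rw [index_ker]
    exact (Nat.card_le_card_of_injective Subtype.val Subtype.val_injective).trans
      (by rw [Nat.card_eq_fintype_card, Fintype.card_units_int])
  have h6 := Nat.le_of_dvd (Nat.pos_of_ne_zero (by
    rw [hidx]; exact mul_ne_zero two_ne_zero index_ne_zero_of_finite)) h4
  rw [hidx] at h6
  omega

theorem iso_of_sq {X : Subgroup G} (h : ∀ x ∈ X, x * x ∈ center G) : Iso X := by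
  intro a ha b hb
  rw [show a * b * a⁻¹ * b⁻¹ = a * b * (a * b) * ((b⁻¹ * (a * a)⁻¹ * b) * (b * b)⁻¹) by group]
  refine mul_mem (h _ (mul_mem ha hb)) (mul_mem ?_ (inv_mem (h b hb)))
  have := (inferInstance : (center G).Normal).conj_mem _ (inv_mem (h a ha)) b⁻¹
  rwa [inv_inv] at this

/-- A subgroup of index at most two in `U` has an element with noncentral square. -/
theorem exists_sq (B : Two σ r m p S U Z H₀) {X : Subgroup G} (hi : X.relIndex U ≤ 2) :
    ∃ q ∈ X, q * q ∉ center G := by
  by_contra h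
  push Not at h
  exact not_iso B hi (iso_of_sq h)

/-- The complement of a subgroup of index two in `U` has an element with noncentral square. -/
theorem exists_sq_outside (B : Two σ r m p S U Z H₀) {X : Subgroup U} (hi : X.index = 2) :
    ∃ y : U, y ∉ X ∧ (y : G) * y ∉ center G := by
  classical
  by_contra h
  push Not at h
  letI : CommGroup (Z.subgroupOf U) :=
    { (inferInstance : Group (Z.subgroupOf U)) with
      mul_comm := fun a b => Subtype.ext (B.fd.cen b b.2 a) }
  set C := ((center G).subgroupOf U).subgroupOf (Z.subgroupOf U) with hC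
  obtain ⟨a, -, ha⟩ := SetLike.exists_of_lt (lt_top_iff_ne_top.mpr fun he : X = ⊤ => by
    rw [he, index_top] at hi; omega)
  have hk : ∀ k ∈ X, B.fd.sv k * B.fd.cm k a ∈ C := by
    intro k hk
    have h1 : B.fd.sv (a * k) ∈ C := h (a * k) fun hak => ha ((mul_mem_cancel_right hk).mp hak)
    have h2 : B.fd.sv a ∈ C := h a ha
    rw [B.fd.sv_mul, mul_assoc] at h1
    exact (mul_mem_cancel_left h2).mp h1
  refine not_iso B (X := X.map U.subtype) (le_of_eq ?_) ?_
  · rw [relIndex, show (X.map U.subtype).subgroupOf U = X from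
      comap_map_eq_self_of_injective U.subtype_injective X]
    exact hi
  rintro _ ⟨u, hu, rfl⟩ _ ⟨v, hv, rfl⟩
  have h1 := hk (v * u) (mul_mem hv hu)
  rw [B.fd.sv_mul, B.fd.cm_mul_left] at h1
  have h2 := mul_mem h1 (inv_mem (mul_mem (hk u hu) (hk v hv)))
  have e : B.fd.sv v * B.fd.sv u * B.fd.cm u v * (B.fd.cm v a * B.fd.cm u a) *
      (B.fd.sv u * B.fd.cm u a * (B.fd.sv v * B.fd.cm v a))⁻¹ = B.fd.cm u v := by
    rw [mul_inv_eq_iff_eq_mul]
    ac_rfl
  rw [e] at h2
  exact h2

end H83.Shult.Transfer
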